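import Cfsg.Agent.Coset.Prim

/-! Letters and relators for the recognition of the Mathieu group of degree twelve. -/

set_option autoImplicit false

namespace CfsgLib.M12U

/-- Letters of the centralizer of the involution: two elements and their inverses. -/
def ivH (x : Nat) : Nat := ([1, 0, 3, 2] : List Nat).getD x x

/-- Letters of the whole group: those of the centralizer, an element of order three, its inverse, and an involution. -/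
def ivG (x : Nat) : Nat := ([1, 0, 3, 2, 5, 4, 6] : List Nat).getD x x

/-- Relators of the centralizer. -/
def relsH : List (List Nat) := [[0, 1], [1, 0], [2, 3], [3, 2], [2, 2, 2], [2, 0, 2, 0, 2, 0, 2, 0], [2, 0, 2, 1, 2, 0, 2, 1], [0, 0, 2, 0, 0, 2, 1, 1, 2]]

/-- Relators of the whole group. -/
def relsG : List (List Nat) := [[0, 1], [1, 0], [2, 3], [3, 2], [4, 5], [5, 4], [6, 6], [2, 2, 2], [2, 0, 2, 0, 2, 0, 2, 0], [2, 0, 2, 1, 2, 0, 2, 1], [0, 0, 2, 0, 0, 2, 1, 1, 2], [4, 4, 4], [4, 1, 1, 5, 3, 0, 3, 0, 0], [4, 3, 0, 3, 5, 2, 0, 3, 0, 2], [4, 0, 3, 1, 3, 5, 2, 0, 2, 1], [0, 0, 3, 0, 3, 0, 4, 1, 2, 1, 2, 1, 1, 4], [6, 4, 6, 5], [6, 0, 0, 3, 0, 3, 0, 6, 1, 2, 1, 2, 1, 1], [6, 0, 3, 1, 3, 6, 2, 0, 2, 1], [6, 2, 0, 3, 1, 2, 6, 2, 0, 3, 1, 2, 6, 2, 0, 3, 1, 2], [3, 0, 0, 6, 2, 0, 3, 1, 2, 1, 1, 2, 3, 0, 2, 1, 3, 6]]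

/-- The relators with the other sign in the last one. -/
def relsB : List (List Nat) := [[0, 1], [1, 0], [2, 3], [3, 2], [4, 5], [5, 4], [6, 6], [2, 2, 2], [2, 0, 2, 0, 2, 0, 2, 0], [2, 0, 2, 1, 2, 0, 2, 1], [0, 0, 2, 0, 0, 2, 1, 1, 2], [4, 4, 4], [4, 1, 1, 5, 3, 0, 3, 0, 0], [4, 3, 0, 3, 5, 2, 0, 3, 0, 2], [4, 0, 3, 1, 3, 5, 2, 0, 2, 1], [0, 0, 3, 0, 3, 0, 4, 1, 2, 1, 2, 1, 1, 4], [6, 4, 6, 5], [6, 0, 0, 3, 0, 3, 0, 6, 1, 2, 1, 2, 1, 1], [6, 0, 3, 1, 3, 6, 2, 0, 2, 1], [6, 2, 0, 3, 1, 2, 6, 2, 0, 3, 1, 2, 6, 2, 0, 3, 1, 2], [3, 0, 0, 6, 2, 0, 3, 1, 2, 1, 1, 2, 6, 2, 0, 3, 1, 2]]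

/-- The generators of the centralizer. -/
def subsH : List (List Nat) := [[0], [2]]

end CfsgLib.M12U
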