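import Cfsg.Agent.M12U.KOrder
import Cfsg.Agent.M12U.TB

/-!
The defining relations in a group with the given involution centralizer.
-/

set_option autoImplicit false
set_option linter.style.haveILetI false
set_option linter.unusedSectionVars false
set_option maxRecDepth 100000

namespace CfsgLib.M12U

open CfsgLib.Coset CfsgLib.Invol

theorem rel_nodes : nodeOf [1, 1] = 8 ∧ nodeOf [3, 0, 3, 0, 0] = 111 ∧ nodeOf [3, 0, 3] = 37 ∧
    nodeOf [2, 0, 3, 0, 2] = 145 ∧ nodeOf [0, 3, 1, 3] = 59 ∧ nodeOf [2, 0, 2, 1] = 59 ∧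
    nodeOf [0, 0, 3, 0, 3, 0] = 167 ∧ nodeOf [1, 2, 1, 2, 1, 1] = 167 ∧ nodeOf [2, 0, 3, 1, 2] = 147 ∧
    nodeOf [3, 0, 0] = 35 ∧ nodeOf [2, 0, 3, 1, 2, 1, 1, 2] = mH 147 (invH 35) ∧ nodeOf [3, 0, 2, 1, 3] = 147 ∧
    mH 134 111 = 0 ∧ mH 158 145 = 0 ∧ mH 147 147 = 0 ∧ cjH 35 59 = 167 ∧ cjH 35 190 = 59 ∧
    fD phi0 8 = 134 ∧ fD phi0 37 = 158 := by decide +kernel

theorem u_moves : ([8, 37, 59].any fun y => nD.contains (cjH 147 y) &&
    !(Nat.beq (cjH 147 (fD phi0 y)) (fD phi0 (cjH 147 y)))) = true := by decide +kernel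

theorem letters_inv : ((List.range 7).all fun x => relsG.contains [x, ivG x]) = true ∧
    ((List.range 7).all fun x => relsB.contains [x, ivG x]) = true := by decide +kernel

theorem ivG_out : ∀ x, 7 ≤ x → ivG x = x := by
  intro x hx
  unfold ivG
  rw [List.getD_eq_default _ _ (by simpa using hx)]

variable {G : Type*} [Group G] {z r s g : G}

/-- The letters of the whole group. -/
def LG (r s g k : G) : List G := [r, r⁻¹, s, s⁻¹, g, g⁻¹, k]

theorem fl_LG_lt (r s g k : G) {l : Nat} (hl : l < 4) : fl (LG r s g k) l = fl (LH r s) l := by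
  match l with
  | 0 => rfl
  | 1 => rfl
  | 2 => rfl
  | 3 => rfl
  | _ + 4 => omega

theorem ev_LG (r s g k : G) : ∀ {w : List Nat}, (∀ l ∈ w, l < 4) → ev (LG r s g k) w = ev (LH r s) w := by
  intro w
  induction w with
  | nil => intro _; rw [ev_nil, ev_nil]
  | cons l w ih =>
    intro h
    rw [ev_cons, ev_cons, fl_LG_lt r s g k (h l (List.mem_cons_self ..)), ih fun m hm => h m (List.mem_cons_of_mem _ hm)]

namespace Loc

theorem ev_LG_node (L : Loc z r s) (g k : G) {w : List Nat} {i : Nat} (hw : (w.all fun l => Nat.blt l 4) = true)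
    (hi : nodeOf w = i) : ev (LG r s g k) w = el r s i := by
  have hw' : ∀ l ∈ w, l < 4 := by simpa using hw
  rw [ev_LG r s g k hw', L.ev_node hw', hi]

end Loc

theorem rel_conj {a v : G} {u : G} (h : g * a * g⁻¹ = u) (hv : u * v = 1) : g * (a * (g⁻¹ * v)) = 1 := by
  rw [← hv, ← h]; group

namespace Std

variable (S : Std z r s g) [Finite G] (hG : Fused z)

include S hG

theorem exists_k : ∃ k : G, k * k = 1 ∧ k * g = g * k ∧ k * el r s 59 = el r s 59 * k ∧
    k * el r s 167 = el r s 167 * k ∧ (k * el r s 147) ^ 3 = 1 ∧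
    (el r s 35 * (k * el r s 147) * (el r s 35)⁻¹ = k * el r s 147 ∨
      el r s 35 * (k * el r s 147) * (el r s 35)⁻¹ = (k * el r s 147)⁻¹) := by
  classical
  obtain ⟨O, hO⟩ := S.exists_core hG
  obtain ⟨hn, hK, -⟩ := S.order hO hG
  haveI : Fact (Nat.Prime 3) := ⟨Nat.prime_three⟩
  have hOK : O ≤ KB r s := fun o ho => IsCoreLemmas.mem_K S hO ho
  have hg1 : g ≠ 1 := by
    rintro rfl
    have h := S.gz
    rw [one_mul, inv_one, mul_one, S.loc.z_eq] at h
    exact absurd (S.loc.el_inj (by norm_num) (by norm_num) h) (by norm_num)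
  have hg3 : orderOf g = 3 := orderOf_eq_prime S.g3 hg1
  have hcube : ∀ {o : G}, o ∈ O → o ^ 3 = 1 := fun ho =>
    orderOf_dvd_iff_pow_eq_one.mp (hn ▸ Subgroup.orderOf_dvd_natCard _ ho)
  obtain ⟨k₀, hk₀, ho₀⟩ : ∃ k₀ ∈ KB r s, k₀ * g * k₀⁻¹ ∈ O := by
    have h1 : IsPGroup 3 (Subgroup.zpowers (⟨g, S.g_mem⟩ : KB r s)) :=
      IsPGroup.of_card (n := 1) (by rw [Nat.card_zpowers, ← Subgroup.orderOf_coe, pow_one]; exact hg3)
    obtain ⟨P, hP⟩ := h1.exists_le_sylow
    have hO3 : Nat.card (O.subgroupOf (KB r s)) = 3 := by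
      rw [Nat.card_congr (Subgroup.subgroupOfEquivOfLe hOK).toEquiv, hn]
    have h2 : IsPGroup 3 (O.subgroupOf (KB r s)) := IsPGroup.of_card (n := 1) (by rw [hO3, pow_one])
    obtain ⟨Q, hQ⟩ := h2.exists_le_sylow
    have hQe : O.subgroupOf (KB r s) = (Q : Subgroup (KB r s)) := by
      refine Subgroup.eq_of_le_of_card_ge hQ ?_
      rw [hO3]
      obtain ⟨j, hj⟩ := IsPGroup.iff_card.mp Q.2
      have hd : (3 : ℕ) ^ j ∣ 240 := by rw [← hj, ← hK]; exact Subgroup.card_subgroup_dvd_card _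
      rw [hj]
      rcases Nat.lt_or_ge j 2 with h | h
      · interval_cases j <;> norm_num
      · exact absurd ((pow_dvd_pow 3 h).trans hd) (by decide)
    obtain ⟨k, hk⟩ := MulAction.exists_smul_eq (KB r s) P Q
    refine ⟨k, k.2, ?_⟩
    have hmem : k * ⟨g, S.g_mem⟩ * k⁻¹ ∈ (Q : Subgroup (KB r s)) := by
      rw [← hk]
      exact ⟨⟨g, S.g_mem⟩, hP (Subgroup.mem_zpowers _), rfl⟩
    rw [← hQe] at hmem
    exact hmem
  set o₀ := k₀ * g * k₀⁻¹ with ho₀def
  have ho₀1 : o₀ ≠ 1 := fun e => hg1 (conj_eq_one_iff.mp e)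
  set τ := el r s 167 with hτ
  have hτK : τ ∈ KB r s := (S.nB_lt (by decide)).2
  set kk := k₀⁻¹ * τ * k₀ with hkk
  have hkkK : kk ∈ KB r s := mul_mem (mul_mem (inv_mem hk₀) hτK) hk₀
  have hkg : kk * g = g * kk := by
    have e : g = k₀⁻¹ * o₀ * k₀ := by rw [ho₀def]; group
    rw [e, hkk]
    calc _ = k₀⁻¹ * (τ * o₀) * k₀ := by group
      _ = k₀⁻¹ * (o₀ * τ) * k₀ := by rw [(hO.1 o₀ ho₀).2]
      _ = _ := by group
  have hwτ : (k₀ * τ * k₀⁻¹) * τ = τ * (k₀ * τ * k₀⁻¹) := by
    set w := k₀ * τ * k₀⁻¹ with hw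
    have hwK : w ∈ KB r s := mul_mem (mul_mem hk₀ hτK) (inv_mem hk₀)
    have hwo : w * o₀ * w⁻¹ = o₀⁻¹ := by
      rw [hw, ho₀def]
      calc _ = k₀ * (τ * g * τ⁻¹) * k₀⁻¹ := by group
        _ = _ := by rw [S.inv]; group
    refine mul_inv_eq_iff_eq_mul.mp (S.semireg hO hG ho₀ ho₀1 ⟨w, hwK, rfl⟩ ?_)
    have e1 : w * o₀⁻¹ * w⁻¹ = o₀ := by rw [← conj_inv, hwo, inv_inv]
    conv_lhs => rw [← e1]
    conv_rhs => rw [← e1]
    rw [conj_mul, conj_mul, (show Commute τ o₀ from ((hO.1 o₀ ho₀).2).symm).inv_right.eq]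
  have hkt : kk * τ = τ * kk := by
    rw [hkk]
    calc _ = k₀⁻¹ * (τ * (k₀ * τ * k₀⁻¹)) * k₀ := by group
      _ = k₀⁻¹ * ((k₀ * τ * k₀⁻¹) * τ) * k₀ := by rw [hwτ]
      _ = _ := by group
  have hKC : KC r s τ kk := ⟨k₀⁻¹, inv_mem hk₀, by rw [hkk, inv_inv]⟩
  obtain ⟨o, ho, hko⟩ : ∃ o ∈ O, kk = o * el r s 52 := by
    rcases (S.cls_Y hO hG hkt).2.2 hKC with h | h
    · exfalso
      refine hg1 ?_
      have hinv : g⁻¹ = g := by
        rw [← S.inv, ← hτ, mul_inv_eq_iff_eq_mul]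
        rw [hτ, ← h]; exact hkg
      refine eq_one_of_sq_eq_one_of_odd (by rw [pow_two]; exact inv_eq_iff_mul_eq_one.mp hinv) ?_
      rw [hg3]; decide
    · exact h
  obtain ⟨n1, n2, n3, n4, n5, n6, n7, n8, n9, n10, n11, n12, m1, m2, m3, h0b, h0t, f8, f37⟩ := rel_nodes
  have l35 : (35 : Nat) < 192 := by norm_num
  have l52 : (52 : Nat) < 192 := by norm_num
  have l59 : (59 : Nat) < 192 := by norm_num
  have l147 : (147 : Nat) < 192 := by norm_num
  have hbb : el r s 59 * el r s 59 = 1 := mul_self_eq_one (S.ord_node (by decide))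
  have ho1 : o ≠ 1 := by
    intro e
    rw [e, one_mul] at hko
    obtain ⟨y, hy, hyne⟩ := List.any_eq_true.mp u_moves
    simp only [Bool.and_eq_true, List.contains_iff_mem, Bool.not_eq_true', ← Bool.not_eq_true, Nat.beq_eq] at hyne
    refine hyne.2 ?_
    have hyD : y ∈ nD := by fin_cases hy <;> decide
    have hylt := (S.loc.nD_comm hyD).1
    have hflt : fD phi0 y < 192 := S.loc.fD_lt (by decide) _
    have hug : el r s 147 * g = g * el r s 147 := by
      rw [← prod_nodes.2.2.2.2.1, ← S.loc.el_mul l52 l59, ← hko]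
      exact (Commute.mul_left hkg (mem_KB.mp S.g_mem).symm)
    refine S.loc.el_inj (S.loc.cjH_lt l147 hflt) (S.loc.fD_lt (by decide) _) ?_
    rw [← S.loc.el_conj l147 hflt, ← S.act y hyD, ← S.act _ hyne.1, ← S.loc.el_conj l147 hylt]
    calc el r s 147 * (g * el r s y * g⁻¹) * (el r s 147)⁻¹
        = (el r s 147 * g) * el r s y * (el r s 147 * g)⁻¹ := by group
      _ = _ := by rw [hug]; group
  have hkk2 : kk * kk = 1 := by
    have h := mul_self_eq_one (S.kcl_props hτK (S.ord_node (by decide)) (mem_kcl.mpr hKC)).2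
    exact h
  have h52 : el r s 52 * el r s 52 = 1 := mul_self_eq_one (S.ord_node (by decide))
  have hkb : kk * el r s 59 = el r s 59 * kk := mem_KB.mp hkkK
  have hku : kk * el r s 59 * el r s 147 = o := by
    rw [← prod_nodes.2.2.2.2.1, ← S.loc.el_mul l52 l59, hko]
    calc _ = o * ((el r s 52 * el r s 59) * (el r s 52 * el r s 59)) := by group
      _ = o := by
        rw [S.loc.el_mul l52 l59, prod_nodes.2.2.2.2.1, S.loc.el_mul l147 l147, m3, S.loc.el_zero, mul_one]
  refine ⟨kk * el r s 59, ?_, ?_, ?_, ?_, ?_, ?_⟩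
  · calc _ = kk * (el r s 59 * kk) * el r s 59 := by group
      _ = 1 := by rw [← hkb, ← mul_assoc, hkk2, one_mul, hbb]
  · exact Commute.mul_left hkg (mem_KB.mp S.g_mem).symm
  · exact Commute.mul_left hkb rfl
  · exact Commute.mul_left hkt (mem_KB.mp hτK).symm
  · rw [hku]; exact hcube ho
  · rw [hku]
    set h₀ := el r s 35 with hh₀
    set X := h₀ * o * h₀⁻¹ with hX
    have e1 : h₀ * el r s 59 * h₀⁻¹ = τ := by rw [hh₀, S.loc.el_conj l35 l59, h0b]
    have e2 : h₀ * el r s 190 * h₀⁻¹ = el r s 59 := by rw [hh₀, S.loc.el_conj l35 (by norm_num), h0t]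
    have hXt : X * τ = τ * X := by rw [hX, ← e1, conj_mul, conj_mul, (hO.1 o ho).1]
    have hXb : X * el r s 59 = el r s 59 * X := by
      have : o * el r s 190 = el r s 190 * o := by
        exact (S.cent_t190 (hOK ho)).mpr (hO.1 o ho).2
      rw [hX, ← e2, conj_mul, conj_mul, this]
    obtain ⟨o', ho', e, he, hXe⟩ := hO.2.2.2.1 X (mem_KB.mpr hXb) hXt
    obtain ⟨helt, heB, het, hee⟩ := S.nE2_lt he
    have hX3 : X ^ 3 = 1 := by rw [hX, conj_pow, hcube ho, mul_one, mul_inv_cancel]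
    have he0 : e = 0 := by
      have hkeep : el r s e * o' * (el r s e)⁻¹ ∈ O := hO.2.2.1 _ (S.nB_lt heB).2 het _ ho'
      have h3 : o' * (el r s e * o' * (el r s e)⁻¹) * o' * el r s e = 1 := by
        rw [← hX3, hXe, pow_succ, pow_two, inv_eq_of_mul_eq_one_right hee]; group
      have hin : el r s e = (o' * (el r s e * o' * (el r s e)⁻¹) * o')⁻¹ := eq_inv_of_mul_eq_one_right h3
      have h1 := IsCoreLemmas.decomp_unique S hO (one_mem O)
        (inv_mem (mul_mem (mul_mem ho' hkeep) ho')) he (show (0 : Nat) ∈ nE2 by decide)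
        (by rw [one_mul, S.loc.el_zero, mul_one]; exact hin)
      exact h1.2
    have hXO : X ∈ O := by rw [hXe, he0, S.loc.el_zero, mul_one]; exact ho'
    have hX1 : X ≠ 1 := fun e => ho1 (conj_eq_one_iff.mp e)
    have hgen : Subgroup.zpowers o = O := by
      refine Subgroup.eq_of_le_of_card_ge (Subgroup.zpowers_le.mpr ho) ?_
      rw [hn, Nat.card_zpowers, orderOf_eq_prime (hcube ho) ho1]
    rw [← hgen] at hXO
    obtain ⟨i, hi⟩ := Subgroup.mem_zpowers_iff.mp hXO
    rw [← zpow_mod_orderOf, orderOf_eq_prime (hcube ho) ho1] at hi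
    have hlt := Int.emod_lt_of_pos i (show (0 : ℤ) < 3 by norm_num)
    have hge := Int.emod_nonneg i (show (3 : ℤ) ≠ 0 by norm_num)
    push_cast at hi
    rcases (by omega : i % 3 = 0 ∨ i % 3 = 1 ∨ i % 3 = 2) with h | h | h <;> rw [h] at hi
    · rw [zpow_zero] at hi; exact absurd hi.symm hX1
    · rw [zpow_one] at hi; exact Or.inl hi.symm
    · refine Or.inr (hi.symm.trans ?_)
      rw [eq_inv_iff_mul_eq_one, ← hcube ho]; group

/-- The defining relations. -/
theorem presentation : ∃ k : G, ∀ w ∈ relsG, ev (LG r s g k) w = 1 := by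
  obtain ⟨k, hk2, hkg, hkb, hkt, hk3, hsign⟩ := S.exists_k hG
  obtain ⟨n1, n2, n3, n4, n5, n6, n7, n8, n9, n10, n11, n12, m1, m2, m3, h0b, h0t, f8, f37⟩ := rel_nodes
  have L := S.loc
  have hh : ∀ w ∈ relsH, ev (LG r s g k) w = 1 := fun w hw => by
    rw [ev_LG r s g k, L.rel w hw]
    have := List.all_eq_true.mp (show (relsH.all fun w => w.all fun l => Nat.blt l 4) = true by decide) w hw
    simpa using this
  have l4 : fl (LG r s g k) 4 = g := rfl
  have l5 : fl (LG r s g k) 5 = g⁻¹ := rfl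
  have l6 : fl (LG r s g k) 6 = k := rfl
  have N : ∀ {w : List Nat} {i : Nat}, (w.all fun l => Nat.blt l 4) = true → nodeOf w = i →
      ev (LG r s g k) w = el r s i := fun hw hi => L.ev_LG_node g k hw hi
  have a8 : g * el r s 8 * g⁻¹ = el r s 134 := by rw [S.act 8 (by decide), f8]
  have a37 : g * el r s 37 * g⁻¹ = el r s 158 := by rw [S.act 37 (by decide), f37]
  have hbb : el r s 59 * el r s 59 = 1 := mul_self_eq_one (S.ord_node (by decide))
  have htt : el r s 167 * el r s 167 = 1 := mul_self_eq_one (S.ord_node (by decide))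
  have huu : el r s 147 * el r s 147 = 1 := by rw [L.el_mul (by norm_num) (by norm_num), m3, L.el_zero]
  have common : ∀ w ∈ relsG.take 20, ev (LG r s g k) w = 1 := by
    intro w hw
    simp only [relsG, List.take, List.mem_cons, List.not_mem_nil, or_false] at hw
    rcases hw with rfl | rfl | rfl | rfl | rfl | rfl | rfl | rfl | rfl | rfl | rfl | rfl | rfl | rfl | rfl | rfl |
      rfl | rfl | rfl | rfl
    · exact hh _ (by decide)
    · exact hh _ (by decide)
    · exact hh _ (by decide)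
    · exact hh _ (by decide)
    · simp only [ev_cons, ev_nil, l4, l5, mul_one, mul_inv_cancel]
    · simp only [ev_cons, ev_nil, l4, l5, mul_one, inv_mul_cancel]
    · simp only [ev_cons, ev_nil, l6, mul_one, hk2]
    · exact hh _ (by decide)
    · exact hh _ (by decide)
    · exact hh _ (by decide)
    · exact hh _ (by decide)
    · simp only [ev_cons, ev_nil, l4, mul_one]
      rw [← S.g3, pow_succ, pow_two, mul_assoc]
    · rw [show ([4, 1, 1, 5, 3, 0, 3, 0, 0] : List Nat) = 4 :: ([1, 1] ++ 5 :: [3, 0, 3, 0, 0]) from rfl, ev_cons,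
        ev_append, N (by decide) n1, ev_cons, N (by decide) n2, l4, l5]
      exact rel_conj a8 (by rw [L.el_mul (by norm_num) (by norm_num), m1, L.el_zero])
    · rw [show ([4, 3, 0, 3, 5, 2, 0, 3, 0, 2] : List Nat) = 4 :: ([3, 0, 3] ++ 5 :: [2, 0, 3, 0, 2]) from rfl,
        ev_cons, ev_append, N (by decide) n3, ev_cons, N (by decide) n4, l4, l5]
      exact rel_conj a37 (by rw [L.el_mul (by norm_num) (by norm_num), m2, L.el_zero])
    · rw [show ([4, 0, 3, 1, 3, 5, 2, 0, 2, 1] : List Nat) = 4 :: ([0, 3, 1, 3] ++ 5 :: [2, 0, 2, 1]) from rfl,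
        ev_cons, ev_append, N (by decide) n5, ev_cons, N (by decide) n6, l4, l5]
      exact rel_conj S.gb hbb
    · rw [show ([0, 0, 3, 0, 3, 0, 4, 1, 2, 1, 2, 1, 1, 4] : List Nat) =
          [0, 0, 3, 0, 3, 0] ++ 4 :: ([1, 2, 1, 2, 1, 1] ++ [4]) from rfl,
        ev_append, N (by decide) n7, ev_cons, ev_append, N (by decide) n8, ev_cons, ev_nil, mul_one, l4]
      calc el r s 167 * (g * (el r s 167 * g))
          = el r s 167 * g * (el r s 167)⁻¹ * (el r s 167 * el r s 167) * g := by group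
        _ = 1 := by rw [S.inv, htt, mul_one, inv_mul_cancel]
    · simp only [ev_cons, ev_nil, l4, l5, l6, mul_one]
      calc k * (g * (k * g⁻¹)) = (k * g) * k * g⁻¹ := by group
        _ = g * (k * k) * g⁻¹ := by rw [hkg]; group
        _ = 1 := by rw [hk2, mul_one, mul_inv_cancel]
    · rw [show ([6, 0, 0, 3, 0, 3, 0, 6, 1, 2, 1, 2, 1, 1] : List Nat) =
          6 :: ([0, 0, 3, 0, 3, 0] ++ 6 :: [1, 2, 1, 2, 1, 1]) from rfl,
        ev_cons, ev_append, N (by decide) n7, ev_cons, N (by decide) n8, l6]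
      calc k * (el r s 167 * (k * el r s 167)) = k * el r s 167 * k * el r s 167 := by group
        _ = el r s 167 * (k * k) * el r s 167 := by rw [hkt]; group
        _ = 1 := by rw [hk2, mul_one, htt]
    · rw [show ([6, 0, 3, 1, 3, 6, 2, 0, 2, 1] : List Nat) = 6 :: ([0, 3, 1, 3] ++ 6 :: [2, 0, 2, 1]) from rfl,
        ev_cons, ev_append, N (by decide) n5, ev_cons, N (by decide) n6, l6]
      calc k * (el r s 59 * (k * el r s 59)) = k * el r s 59 * k * el r s 59 := by group
        _ = el r s 59 * (k * k) * el r s 59 := by rw [hkb]; group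
        _ = 1 := by rw [hk2, mul_one, hbb]
    · rw [show ([6, 2, 0, 3, 1, 2, 6, 2, 0, 3, 1, 2, 6, 2, 0, 3, 1, 2] : List Nat) =
          6 :: ([2, 0, 3, 1, 2] ++ 6 :: ([2, 0, 3, 1, 2] ++ 6 :: [2, 0, 3, 1, 2])) from rfl,
        ev_cons, ev_append, N (by decide) n9, ev_cons, ev_append, N (by decide) n9, ev_cons, N (by decide) n9, l6,
        ← hk3, pow_succ, pow_two]
      group
  have hmid : el r s 147 * (el r s 35)⁻¹ = el r s (mH 147 (invH 35)) := by
    rw [L.el_inv (by norm_num), L.el_mul (by norm_num) (L.invH_lt (by norm_num))]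
  rcases hsign with hX | hX
  · refine ⟨k, fun w hw => ?_⟩
    rw [← List.take_append_drop 20 relsG, List.mem_append] at hw
    rcases hw with hw | hw
    · exact common w hw
    simp only [relsG, List.drop, List.mem_cons, List.not_mem_nil, or_false] at hw
    rw [hw, show ([3, 0, 0, 6, 2, 0, 3, 1, 2, 1, 1, 2, 3, 0, 2, 1, 3, 6] : List Nat) =
          [3, 0, 0] ++ 6 :: ([2, 0, 3, 1, 2, 1, 1, 2] ++ ([3, 0, 2, 1, 3] ++ [6])) from rfl,
      ev_append, N (by decide) n10, ev_cons, ev_append, N (by decide) n11, ev_append, N (by decide) n12,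
      ev_cons, ev_nil, mul_one, l6, ← hmid]
    calc el r s 35 * (k * (el r s 147 * (el r s 35)⁻¹ * (el r s 147 * k)))
        = el r s 35 * (k * el r s 147) * (el r s 35)⁻¹ * (el r s 147 * k) := by group
      _ = k * (el r s 147 * el r s 147) * k := by rw [hX]; group
      _ = 1 := by rw [huu, mul_one, hk2]
  · exfalso
    have hrel : ∀ w ∈ relsB, ev (LG r s g k) w = 1 := by
      intro w hw
      rw [← List.take_append_drop 20 relsB, List.mem_append] at hw
      rcases hw with hw | hw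
      · exact common w ((show relsB.take 20 = relsG.take 20 by decide) ▸ hw)
      simp only [relsB, List.drop, List.mem_cons, List.not_mem_nil, or_false] at hw
      rw [hw, show ([3, 0, 0, 6, 2, 0, 3, 1, 2, 1, 1, 2, 6, 2, 0, 3, 1, 2] : List Nat) =
            [3, 0, 0] ++ 6 :: ([2, 0, 3, 1, 2, 1, 1, 2] ++ 6 :: [2, 0, 3, 1, 2]) from rfl,
        ev_append, N (by decide) n10, ev_cons, ev_append, N (by decide) n11, ev_cons, N (by decide) n9, l6, ← hmid]
      calc el r s 35 * (k * (el r s 147 * (el r s 35)⁻¹ * (k * el r s 147)))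
          = el r s 35 * (k * el r s 147) * (el r s 35)⁻¹ * (k * el r s 147) := by group
        _ = 1 := by rw [hX, inv_mul_cancel]
    have hiv := CfsgLib.J2U.inv_of_rels (show (LG r s g k).length = 7 from rfl) hrel letters_inv.2 ivG_out
    have T : TableOK (LG r s g k) (Subgroup.centralizer ({z} : Set G)) TB.E ivG 1 TB.Rep TB.Tb :=
      tableOK_of_check hiv TB.hR TB.hdefs TB.hsteps TB.htable hrel (fun w hw => by
        have hw' : (w.all fun l => Nat.blt l 4) = true :=
          List.all_eq_true.mp (show (TB.subs.all fun w => w.all fun l => Nat.blt l 4) = true by decide) w hw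
        rw [L.ev_LG_node g k hw' rfl]
        exact L.el_mem _)
    have hy : ev (LG r s g k) [4] ∈ Subgroup.centralizer ({z} : Set G) := by
      refine T.ev_mem (by norm_num) (fun l hl => by simp at hl; subst hl; simp [LG]) ?_
      have := T.lt 0 (by norm_num) 4 (by simp [LG])
      rw [follow_cons, follow_nil]; omega
    rw [ev_cons, ev_nil, mul_one, l4, Subgroup.mem_centralizer_singleton_iff] at hy
    have h := S.gz
    rw [hy, mul_inv_cancel_right, L.z_eq] at h
    exact absurd (L.el_inj (by norm_num) (by norm_num) h) (by norm_num)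

end Std

end CfsgLib.M12U
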