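import Cfsg.Agent.Coset.Table
import Cfsg.Agent.M12U.Letters
import Cfsg.Agent.M12U.TGData

/-! A checked coset table. -/

set_option autoImplicit false
set_option maxRecDepth 100000

namespace CfsgLib.M12U.TG

open CfsgLib.Coset

theorem hR : checkRules relsG subs R = true := by decide +kernel
theorem hdefs : checkDefs E 7 10 829 = true := by decide +kernel
theorem hsteps : checkChunks E ivG R 7 6 829 34 C = true := by decide +kernel
theorem htable : checkTable E ivG (829 + chunk * 34) 495 7 9 3 Rep Ref Tb = true := by decide +kernel

end CfsgLib.M12U.TG
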