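import Cfsg.Agent.Golay.MathieuFusion
import Cfsg.Agent.Golay.MathieuSmall
import Cfsg.Agent.M12U.ModelData
import Cfsg.Agent.M12U.Present
import Cfsg.Agent.M12U.TG
import Cfsg.Prelude.Def_SporadicB

/-!
The Mathieu group of degree twelve as a model of the relators.
-/

set_option autoImplicit false
set_option linter.style.haveILetI false
set_option linter.unusedSectionVars false
set_option maxRecDepth 100000

namespace CfsgLib.M12U

open CfsgLib.Coset CfsgLib.Golay CfsgLib.Golay.SylowCert Cfsg
open scoped Pointwise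

/-- The list of a word in the model. -/
def evalL : List Nat → List Nat
  | [] => List.range 24
  | l :: w => compL (ML.getD l (List.range 24)) (evalL w)

/-- The code of a list. -/
def codeL (L : List Nat) : Nat := L.foldr (fun v acc => v + 24 * acc) 0

/-- The word of the `j`-th coset. -/
noncomputable def cosW (j : Nat) : List Nat := CfsgLib.J2U.pathW TG.Par 6 j

/-- The word of a conjugate of the central involution. -/
noncomputable def zW (j : Nat) : List Nat := ((cosW j).map ivG).reverse ++ (pth 41 ++ cosW j)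

theorem ML_ok : ∀ L ∈ ML, In12 L := by decide +kernel

theorem ML_rels : (relsG.all fun w => evalL w == List.range 24) = true := by decide +kernel

theorem codesH_ok : ((List.range 192).map fun i => codeL (evalL (pth i))) = codesH ∧ codesH.Nodup := by
  decide +kernel

theorem codesZ_ok : ((List.range 495).map fun j => codeL (evalL (zW j))) = codesZ ∧ codesZ.Nodup ∧
    ((List.range 495).all fun j => (zW j).all fun l => Nat.blt l 7) = true := by
  decide +kernel

theorem z0_list : evalL (pth 41) = m12Z := by decide +kernel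

theorem m12_centre : ((els m12Pc 6).all fun x =>
    !(m12Pc.all fun y => compL x y == compL y x) || x == List.range 24 || x == m12Z) = true ∧
    m12Pc.length = 6 := by decide +kernel

/-- The images of the letters. -/
def LM : List (Equiv.Perm GolayPt) := ML.map permL

theorem LM_mem (l : Nat) : fl LM l ∈ Spor.M12 := by
  rcases lt_or_ge l LM.length with h | h
  · rw [fl, List.getD_eq_getElem _ _ h]
    simp only [LM, List.getElem_map]
    exact permL_mem_M12 (ML_ok _ (List.getElem_mem _))
  · rw [fl_of_le LM h]; exact one_mem _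

theorem toList_ev : ∀ w : List Nat, toList (ev LM w) = evalL w := by
  intro w
  induction w with
  | nil => rw [ev_nil, toList_one]; rfl
  | cons l w ih =>
    rw [ev_cons, toList_mul, ih, evalL]
    congr 1
    rcases lt_or_ge l ML.length with h | h
    · rw [fl, List.getD_eq_getElem _ _ (by simpa [LM] using h), List.getD_eq_getElem _ _ h]
      simp only [LM, List.getElem_map]
      exact toList_permL (ML_ok _ (List.getElem_mem _)).1 (ML_ok _ (List.getElem_mem _)).2.1
    · rw [fl_of_le LM (by simpa [LM] using h), List.getD_eq_default _ _ h, toList_one]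

/-- The letters as elements of the group. -/
def MG : List Spor.M12 := (List.range 7).map fun l => ⟨fl LM l, LM_mem l⟩

theorem fl_MG (l : Nat) : ((fl MG l : Spor.M12) : Equiv.Perm GolayPt) = fl LM l := by
  rcases lt_or_ge l MG.length with h | h
  · rw [fl, List.getD_eq_getElem _ _ h]
    simp [MG]
  · have hl : LM.length ≤ l := by simpa [MG, LM, ML] using h
    rw [fl_of_le MG h, fl_of_le LM hl]; rfl

theorem coe_ev : ∀ w : List Nat, ((ev MG w : Spor.M12) : Equiv.Perm GolayPt) = ev LM w := by
  intro w
  induction w with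
  | nil => rw [ev_nil, ev_nil]; rfl
  | cons l w ih => rw [ev_cons, ev_cons, Subgroup.coe_mul, fl_MG, ih]

theorem toList_MG (w : List Nat) : toList ((ev MG w : Spor.M12) : Equiv.Perm GolayPt) = evalL w := by
  rw [coe_ev, toList_ev]

theorem MG_rel : ∀ w ∈ relsG, ev MG w = 1 := by
  intro w hw
  refine Subtype.ext (toList_injective ?_)
  rw [toList_MG, OneMemClass.coe_one, toList_one]
  simpa using List.all_eq_true.mp ML_rels w hw

theorem MG_inv (x : Nat) : fl MG (ivG x) = (fl MG x)⁻¹ :=
  CfsgLib.J2U.inv_of_rels (show MG.length = 7 by simp [MG]) MG_rel letters_inv.1 ivG_out x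

/-- The model of the generators of the centralizer. -/
def r0 : Spor.M12 := fl MG 0

/-- The second model generator. -/
def s0 : Spor.M12 := fl MG 2

theorem ev_LH0 : ∀ {w : List Nat}, (∀ l ∈ w, l < 4) → ev (LH r0 s0) w = ev MG w := by
  intro w
  induction w with
  | nil => intro _; rw [ev_nil, ev_nil]
  | cons l w ih =>
    intro h
    rw [ev_cons, ev_cons, ih fun m hm => h m (List.mem_cons_of_mem _ hm)]
    congr 1
    have := h l (List.mem_cons_self ..)
    match l with
    | 0 => rfl
    | 1 => exact (MG_inv 0).symm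
    | 2 => rfl
    | 3 => exact (MG_inv 2).symm
    | _ + 4 => omega

theorem el0 {i : Nat} (hi : i < 192) : el r0 s0 i = ev MG (pth i) := ev_LH0 (pth_lt hi)

/-- The central involution of the model. -/
noncomputable def z0 : Spor.M12 := el r0 s0 41

theorem z0_toList : toList (z0 : Equiv.Perm GolayPt) = m12Z := by
  rw [z0, el0 (by norm_num), toList_MG, z0_list]

theorem ev_inv_word0 : ∀ w : List Nat, ev MG ((w.map ivG).reverse) = (ev MG w)⁻¹ :=
  CfsgLib.J2U.ev_inv_word MG_inv

theorem zW_eq (j : Nat) : ev MG (zW j) = (ev MG (cosW j))⁻¹ * z0 * ev MG (cosW j) := by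
  rw [zW, ev_append, ev_append, ev_inv_word0, z0, el0 (by norm_num)]
  group

theorem cent_card_le : Nat.card (Subgroup.centralizer ({z0} : Set Spor.M12)) ≤ 192 := by
  classical
  have hc := CfsgLib.BrauerFowler.card_class_mul z0
  rw [card_M12] at hc
  have h495 : 495 ≤ Nat.card {b : Spor.M12 // IsConj z0 b} := by
    rw [← Nat.card_fin 495]
    refine Nat.card_le_card_of_injective
      (fun j => ⟨ev MG (zW j), isConj_iff.mpr ⟨(ev MG (cosW j))⁻¹, by rw [zW_eq, inv_inv]⟩⟩) ?_
    intro a b h
    have h1 := congrArg (fun x : {b : Spor.M12 // IsConj z0 b} => codeL (toList (x.1 : Equiv.Perm GolayPt))) h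
    simp only [toList_MG] at h1
    have hnd : ((List.range 495).map fun j => codeL (evalL (zW j))).Nodup := codesZ_ok.1 ▸ codesZ_ok.2.1
    exact Fin.ext (List.inj_on_of_nodup_map hnd (List.mem_range.mpr a.2) (List.mem_range.mpr b.2) h1)
  by_contra hlt
  push Not at hlt
  have := Nat.mul_le_mul h495 hlt
  omega

theorem el0_inj {i j : Nat} (hi : i < 192) (hj : j < 192) (h : el r0 s0 i = el r0 s0 j) : i = j := by
  have h1 := congrArg (fun x : Spor.M12 => codeL (toList (x : Equiv.Perm GolayPt))) h
  simp only [el0 hi, el0 hj, toList_MG] at h1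
  have hnd : ((List.range 192).map fun i => codeL (evalL (pth i))).Nodup := codesH_ok.1 ▸ codesH_ok.2
  exact List.inj_on_of_nodup_map hnd (List.mem_range.mpr hi) (List.mem_range.mpr hj) h1

theorem relH0 : ∀ w ∈ relsH, ev (LH r0 s0) w = 1 := by
  intro w hw
  have h := List.all_eq_true.mp (show (relsH.all fun w => (w.all fun l => Nat.blt l 4) && relsG.contains w) = true by decide) w hw
  rw [Bool.and_eq_true, List.contains_iff_mem] at h
  rw [ev_LH0 (by simpa using h.1), MG_rel w h.2]

/-- The local data of the model. -/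
theorem loc0 : Loc z0 r0 s0 := by
  classical
  have hiv : ∀ x, fl (LH r0 s0) (ivH x) = (fl (LH r0 s0) x)⁻¹ :=
    CfsgLib.J2U.inv_of_rels (show (LH r0 s0).length = 4 from rfl) relH0 ivH_table ivH_out
  have T : TableOK (LH r0 s0) (⊥ : Subgroup Spor.M12) TH.E ivH 192 TH.Rep TH.Tb :=
    tableOK_of_check hiv TH.hR TH.hdefs TH.hsteps TH.htable relH0 (by simp [TH.subs])
  have hmem : ∀ i, el r0 s0 i ∈ Subgroup.closure {x | x ∈ LH r0 s0} := by
    intro i
    unfold el
    generalize pth i = w
    induction w with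
    | nil => rw [ev_nil]; exact one_mem _
    | cons l w ih => rw [ev_cons]; exact mul_mem (mem_closure_fl l) ih
  have hle : Subgroup.closure {x | x ∈ LH r0 s0} ≤ Subgroup.centralizer ({z0} : Set Spor.M12) := by
    rw [Subgroup.closure_le]
    have hcl : ∀ l < 4, nodeOf (pth 41 ++ [l]) = nodeOf (l :: pth 41) := by decide +kernel
    have key : ∀ l < 4, fl (LH r0 s0) l * z0 = z0 * fl (LH r0 s0) l := by
      intro l hl
      have h1 : ∀ m ∈ pth 41 ++ [l], m < 4 := fun m hm => by
        rcases List.mem_append.mp hm with h | h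
        · exact pth_lt (by norm_num) m h
        · simp at h; omega
      have h2 : ∀ m ∈ l :: pth 41, m < 4 := fun m hm => by
        rcases List.mem_cons.mp hm with h | h
        · omega
        · exact pth_lt (by norm_num) m h
      have := CfsgLib.J2U.ev_eq_of_follow T (by norm_num) h2 h1 (hcl l hl).symm
      rw [ev_cons, ev_append, ev_cons, ev_nil, mul_one] at this
      exact this
    intro x hx
    simp only [LH, List.mem_cons, List.not_mem_nil, or_false, Set.mem_ofPred_eq] at hx
    refine Subgroup.mem_centralizer_singleton_iff.mpr ?_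
    rcases hx with rfl | rfl | rfl | rfl
    · exact key 0 (by norm_num)
    · exact key 1 (by norm_num)
    · exact key 2 (by norm_num)
    · exact key 3 (by norm_num)
  have h192 : 192 ≤ Nat.card (Subgroup.closure {x | x ∈ LH r0 s0}) := by
    rw [← Nat.card_fin 192]
    refine Nat.card_le_card_of_injective (fun i => ⟨el r0 s0 i, hmem i⟩) fun a b h => ?_
    exact Fin.ext (el0_inj a.2 b.2 (congrArg Subtype.val h))
  have heq := Subgroup.eq_of_le_of_card_ge hle (cent_card_le.trans h192)
  refine ⟨relH0, heq, le_antisymm cent_card_le ?_, rfl⟩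
  rw [← heq]; exact h192

theorem two_central_conj (u : Spor.M12) (hu : IsTwoCentralInvolution u) : IsConj z0 u := by
  classical
  haveI : Fact (Nat.Prime 2) := ⟨Nat.prime_two⟩
  obtain ⟨hu2, P, huP, hcent⟩ := hu
  have hPH : pcGroup m12Pc m12Pc.length ≤ Spor.M12 := pcGroup_le pc12 fun g hg => permL_mem_M12 (in12 g hg)
  have hc : Nat.card ((pcGroup m12Pc m12Pc.length).subgroupOf Spor.M12) = 2 ^ (Nat.card Spor.M12).factorization 2 := by
    rw [Nat.card_congr (Subgroup.subgroupOfEquivOfLe hPH).toEquiv, card_pcGroup pc12 _ le_rfl,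
      factorization_two (a := 6) (m := 1485) (by rw [card_M12]; norm_num) (by norm_num), m12_centre.2]
  let Q : Sylow 2 Spor.M12 := Sylow.ofCard _ hc
  have hQ : (Q : Subgroup Spor.M12) = (pcGroup m12Pc m12Pc.length).subgroupOf Spor.M12 := Sylow.coe_ofCard ..
  obtain ⟨q, hq⟩ := MulAction.exists_smul_eq Spor.M12 P Q
  have hmemQ : ∀ {x : Spor.M12}, x ∈ P → q * x * q⁻¹ ∈ Q := fun {x} hx => by
    rw [← hq]
    exact ⟨x, hx, rfl⟩
  have hback : ∀ {x : Spor.M12}, x ∈ Q → ∃ y ∈ P, x = q * y * q⁻¹ := fun {x} hx => by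
    rw [← hq] at hx
    obtain ⟨y, hy, rfl⟩ := hx
    exact ⟨y, hy, rfl⟩
  set u' := q * u * q⁻¹ with hu'
  have hu'P : (u' : Equiv.Perm GolayPt) ∈ pcGroup m12Pc m12Pc.length := by
    have : u' ∈ (Q : Subgroup Spor.M12) := hmemQ huP
    rw [hQ] at this
    exact this
  have hcomm : ∀ g ∈ m12Pc, compL (toList (u' : Equiv.Perm GolayPt)) g = compL g (toList (u' : Equiv.Perm GolayPt)) := by
    intro g hg
    have hgP : permL g ∈ pcGroup m12Pc m12Pc.length := pcGroup_permL_mem pc12 hg
    have hgQ : (⟨permL g, hPH hgP⟩ : Spor.M12) ∈ Q := by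
      show (⟨permL g, hPH hgP⟩ : Spor.M12) ∈ (Q : Subgroup Spor.M12)
      rw [hQ]; exact hgP
    obtain ⟨y, hy, hye⟩ := hback hgQ
    have : u' * (⟨permL g, hPH hgP⟩ : Spor.M12) = ⟨permL g, hPH hgP⟩ * u' := by
      rw [hye, hu', conj_mul, conj_mul, hcent y hy]
    have h2 := congrArg (fun x : Spor.M12 => toList (x : Equiv.Perm GolayPt)) this
    simp only [Subgroup.coe_mul, toList_mul, toList_permL (pc12.1 g hg).1 (pc12.1 g hg).2] at h2
    exact h2
  have hels := (mem_pcGroup pc12 _ le_rfl _).1 hu'P
  rw [m12_centre.2] at hels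
  have h := List.all_eq_true.mp m12_centre.1 _ hels
  simp only [Bool.or_eq_true, Bool.not_eq_true', List.all_eq_false, beq_iff_eq] at h
  rcases h with (⟨g, hg, hne⟩ | h) | h
  · exact absurd (hcomm g hg) (by simpa using hne)
  · exfalso
    have h1 : u' = 1 := Subtype.ext (toList_injective (by rw [h, OneMemClass.coe_one, toList_one]))
    rw [hu', conj_eq_one_iff] at h1
    exact CfsgLib.Invol.ne_one hu2 h1
  · have h1 : u' = z0 := Subtype.ext (toList_injective (h.trans z0_toList.symm))
    exact (isConj_iff.mpr ⟨q⁻¹, by rw [← h1, hu']; group⟩)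

theorem simple_M12 : IsSimpleGroup Spor.M12 := by
  haveI := CfsgLib.Golay.m12_simple squareDodecad_mem
  have hmap : Spor.M12 = (MulAction.stabilizer M24 Spor.squareDodecad).map M24.subtype := by
    ext g
    exact ⟨fun ⟨h, h0⟩ => ⟨⟨g, h⟩, h0, rfl⟩, fun ⟨⟨g', h⟩, h0, e⟩ => e ▸ ⟨h, h0⟩⟩
  let e : MulAction.stabilizer M24 Spor.squareDodecad ≃* Spor.M12 :=
    ((MulAction.stabilizer M24 Spor.squareDodecad).equivMapOfInjective _ M24.subtype_injective).trans
      (MulEquiv.subgroupCongr hmap.symm)
  exact e.symm.isSimpleGroup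

end CfsgLib.M12U
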