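import Cfsg.Agent.M12U.CaseA
import Cfsg.Agent.C192.Affine
import Cfsg.Agent.M12U.Present
import Cfsg.Agent.M12U.Model

/-!
A simple group with the involution centralizer of the Mathieu group of degree twelve is that group.
-/

set_option autoImplicit false
set_option linter.style.haveILetI false
set_option linter.unusedSectionVars false
set_option maxRecDepth 100000

namespace CfsgLib.M12U

open CfsgLib.Coset Cfsg

theorem ev_mapList {A B : Type*} [Group A] [Group B] (f : A →* B) (L : List A) :
    ∀ w : List Nat, ev (L.map f) w = f (ev L w) := by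
  intro w
  induction w with
  | nil => rw [ev_nil, ev_nil, map_one]
  | cons l w ih =>
    rw [ev_cons, ev_cons, map_mul, ih]
    congr 1
    rw [fl, fl, ← map_one f, List.getD_map]

variable {G : Type*} [Group G]

theorem LH_map {A B : Type*} [Group A] [Group B] (f : A →* B) (a b : A) : (LH a b).map f = LH (f a) (f b) := by
  simp [LH]

/-- Transporting the local data along an isomorphism of centralizers. -/
theorem loc_pullback [Finite G] {u : Spor.M12} (hu : IsConj z0 u) {t : G} (ht : orderOf t = 2)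
    (e : Subgroup.centralizer ({t} : Set G) ≃* Subgroup.centralizer ({u} : Set Spor.M12)) :
    ∃ r s : G, Loc t r s := by
  classical
  obtain ⟨q, hq⟩ := isConj_iff.mp hu
  have L0 := loc0
  have hqmap : (Subgroup.centralizer ({z0} : Set Spor.M12)).map (MulAut.conj q).toMonoidHom =
      Subgroup.centralizer ({u} : Set Spor.M12) := by
    ext x
    simp only [Subgroup.mem_map, Subgroup.mem_centralizer_singleton_iff]
    constructor
    · rintro ⟨y, hy, rfl⟩
      show q * y * q⁻¹ * u = u * (q * y * q⁻¹)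
      rw [← hq, conj_mul, conj_mul, hy]
    · intro hx
      refine ⟨q⁻¹ * x * q, ?_, by show q * (q⁻¹ * x * q) * q⁻¹ = x; group⟩
      have hz : z0 = q⁻¹ * u * q := by rw [← hq]; group
      rw [hz]
      calc q⁻¹ * x * q * (q⁻¹ * u * q) = q⁻¹ * (x * u) * q := by group
        _ = q⁻¹ * (u * x) * q := by rw [hx]
        _ = q⁻¹ * u * q * (q⁻¹ * x * q) := by group
  let E : Subgroup.centralizer ({z0} : Set Spor.M12) ≃* Subgroup.centralizer ({t} : Set G) :=
    ((Subgroup.equivMapOfInjective _ (MulAut.conj q).toMonoidHom (MulAut.conj q).injective).trans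
      (MulEquiv.subgroupCongr hqmap)).trans e.symm
  have hr : r0 ∈ Subgroup.centralizer ({z0} : Set Spor.M12) := by
    rw [← L0.gen]; exact Subgroup.subset_closure (by simp [LH])
  have hs : s0 ∈ Subgroup.centralizer ({z0} : Set Spor.M12) := by
    rw [← L0.gen]; exact Subgroup.subset_closure (by simp [LH])
  set ρ := E ⟨r0, hr⟩
  set σ := E ⟨s0, hs⟩
  set f : Subgroup.centralizer ({z0} : Set Spor.M12) →* G :=
    (Subgroup.centralizer ({t} : Set G)).subtype.comp E.toMonoidHom with hf
  have hev : ∀ w, ev (LH (ρ : G) (σ : G)) w = f (ev (LH ⟨r0, hr⟩ ⟨s0, hs⟩) w) := fun w => by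
    rw [← ev_mapList, LH_map]
    rfl
  have hev0 : ∀ w, ((ev (LH (⟨r0, hr⟩ : Subgroup.centralizer ({z0} : Set Spor.M12)) ⟨s0, hs⟩) w :
      Subgroup.centralizer ({z0} : Set Spor.M12)) : Spor.M12) = ev (LH r0 s0) w := fun w => by
    rw [← Subgroup.coe_subtype, ← ev_mapList, LH_map]
    rfl
  have hgen : Subgroup.closure {x | x ∈ LH (ρ : G) (σ : G)} = Subgroup.centralizer ({t} : Set G) := by
    refine le_antisymm ((Subgroup.closure_le _).mpr ?_) fun x hx => ?_
    · intro x hx
      simp only [LH, List.mem_cons, List.not_mem_nil, or_false, Set.mem_ofPred_eq] at hx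
      rcases hx with rfl | rfl | rfl | rfl
      · exact ρ.2
      · exact inv_mem ρ.2
      · exact σ.2
      · exact inv_mem σ.2
    · obtain ⟨i, hi, he⟩ := L0.exists_node (E.symm ⟨x, hx⟩).2
      have hx' : x = f (ev (LH ⟨r0, hr⟩ ⟨s0, hs⟩) (pth i)) := by
        have h1 : (ev (LH ⟨r0, hr⟩ ⟨s0, hs⟩) (pth i) : Subgroup.centralizer ({z0} : Set Spor.M12)) = E.symm ⟨x, hx⟩ :=
          Subtype.ext (by rw [hev0]; exact he.symm)
        rw [h1, hf]
        simp
      rw [hx', ← hev]
      generalize pth i = w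
      induction w with
      | nil => rw [ev_nil]; exact one_mem _
      | cons l w ih => rw [ev_cons]; exact mul_mem (mem_closure_fl l) ih
  refine ⟨ρ, σ, fun w hw => ?_, hgen, ?_, ?_⟩
  · rw [hev]
    have h : (ev (LH ⟨r0, hr⟩ ⟨s0, hs⟩) w : Subgroup.centralizer ({z0} : Set Spor.M12)) = 1 :=
      Subtype.ext (by rw [hev0, L0.rel w hw]; rfl)
    rw [h, map_one]
  · rw [← L0.card]; exact Nat.card_congr E.symm.toEquiv
  · have htC : t ∈ Subgroup.centralizer ({t} : Set G) := Subgroup.mem_centralizer_singleton_iff.mpr rfl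
    set w := E.symm ⟨t, htC⟩ with hw
    obtain ⟨i, hi, hie⟩ := L0.exists_node w.2
    have hwc : ∀ y : Subgroup.centralizer ({z0} : Set Spor.M12), w * y = y * w := fun y => by
      refine E.injective ?_
      rw [map_mul, map_mul, hw, MulEquiv.apply_symm_apply]
      exact Subtype.ext (Subgroup.mem_centralizer_singleton_iff.mp (E y).2).symm
    have h := List.all_eq_true.mp centre_ok i (List.mem_range.mpr hi)
    have e1 : el r0 s0 1 = r0 := by
      have h' := L0.ev_node (w := [0]) (by simp)
      rw [letters_ok.1, ev_cons, ev_nil, mul_one] at h'; exact h'.symm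
    have e3 : el r0 s0 3 = s0 := by
      have h' := L0.ev_node (w := [2]) (by simp)
      rw [letters_ok.2, ev_cons, ev_nil, mul_one] at h'; exact h'.symm
    have c1 : comH i 1 = true := (L0.el_commute_iff hi (by norm_num)).mp (by
      rw [← hie, e1]; exact congrArg Subtype.val (hwc ⟨r0, hr⟩))
    have c3 : comH i 3 = true := (L0.el_commute_iff hi (by norm_num)).mp (by
      rw [← hie, e3]; exact congrArg Subtype.val (hwc ⟨s0, hs⟩))
    rw [c1, c3] at h
    simp only [Bool.and_self, Bool.not_true, Bool.false_or, Bool.or_eq_true, beq_iff_eq] at h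
    have hi41 : i = 41 := by
      refine h.resolve_left fun h0 => ?_
      rw [h0, L0.el_zero] at hie
      have hw1 : w = 1 := Subtype.ext hie
      rw [hw, MulEquiv.symm_apply_eq, map_one] at hw1
      exact CfsgLib.Invol.ne_one ht (congrArg Subtype.val hw1)
    show t = ev (LH (ρ : G) (σ : G)) (pth 41)
    rw [hev]
    have h1 : (ev (LH ⟨r0, hr⟩ ⟨s0, hs⟩) (pth 41) : Subgroup.centralizer ({z0} : Set Spor.M12)) = w :=
      Subtype.ext (by rw [hev0, hie, hi41]; rfl)
    rw [h1, hf, hw]
    simp

theorem iso_of_std [Finite G] {z r s g : G} (S : Std z r s g) (hG : Fused z) :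
    Spor.IsoM12 G := by
  classical
  obtain ⟨k, hk⟩ := S.presentation hG
  obtain ⟨O, hO⟩ := S.exists_core hG
  obtain ⟨-, -, hcard⟩ := S.order hO hG
  set X : List (G × Spor.M12) := [(r, r0), (r⁻¹, fl MG 1), (s, s0), (s⁻¹, fl MG 3), (g, fl MG 4), (g⁻¹, fl MG 5), (k, fl MG 6)] with hX
  have hfst : X.map (MonoidHom.fst G Spor.M12) = LG r s g k := rfl
  have hsnd : X.map (MonoidHom.snd G Spor.M12) = MG := by
    simp only [hX, List.map_cons, List.map_nil]
    rfl
  have hev1 : ∀ w, (ev X w).1 = ev (LG r s g k) w := fun w => by rw [← hfst, ev_mapList]; rfl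
  have hev2 : ∀ w, (ev X w).2 = ev MG w := fun w => by rw [← hsnd, ev_mapList]; rfl
  have hrel : ∀ w ∈ relsG, ev X w = 1 := fun w hw => Prod.ext (by rw [hev1, hk w hw]; rfl) (by rw [hev2, MG_rel w hw]; rfl)
  have hiv := CfsgLib.J2U.inv_of_rels (show X.length = 7 from rfl) hrel letters_inv.1 ivG_out
  set Y : List (G × Spor.M12) := LH (r, r0) (s, s0) with hY
  have hlow : ∀ l, l < 4 → fl X l = fl Y l := by
    intro l hl
    match l with
    | 0 => rfl
    | 1 => exact Prod.ext rfl (MG_inv 0)
    | 2 => rfl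
    | 3 => exact Prod.ext rfl (MG_inv 2)
    | _ + 4 => omega
  have hXY : ∀ {w : List Nat}, (∀ l ∈ w, l < 4) → ev X w = ev Y w := by
    intro w
    induction w with
    | nil => intro _; rw [ev_nil, ev_nil]
    | cons l w ih =>
      intro h
      rw [ev_cons, ev_cons, hlow l (h l (List.mem_cons_self ..)), ih fun m hm => h m (List.mem_cons_of_mem _ hm)]
  have hrelY : ∀ w ∈ relsH, ev Y w = 1 := fun w hw => by
    have h := List.all_eq_true.mp (show (relsH.all fun w => (w.all fun l => Nat.blt l 4) && relsG.contains w) = true by decide) w hw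
    rw [Bool.and_eq_true, List.contains_iff_mem] at h
    rw [← hXY (by simpa using h.1), hrel w h.2]
  have hivY : ∀ x, fl Y (ivH x) = (fl Y x)⁻¹ :=
    CfsgLib.J2U.inv_of_rels (show Y.length = 4 from rfl) hrelY ivH_table ivH_out
  have TY : TableOK Y (⊥ : Subgroup (G × Spor.M12)) TH.E ivH 192 TH.Rep TH.Tb :=
    tableOK_of_check hivY TH.hR TH.hdefs TH.hsteps TH.htable hrelY (by simp [TH.subs])
  obtain ⟨hYfin, hYcard⟩ := TY.finite_card_le (by norm_num) bot_le (m := 1) inferInstance (by simp)
  set H := Subgroup.closure {x | x ∈ Y} with hH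
  set Δ := Subgroup.closure {x | x ∈ X} with hΔ
  have hHΔ : H ≤ Δ := (Subgroup.closure_le _).mpr fun x hx => by
    simp only [hY, LH, List.mem_cons, List.not_mem_nil, or_false, Set.mem_ofPred_eq] at hx
    rcases hx with rfl | rfl | rfl | rfl
    · exact Subgroup.subset_closure (by simp [hX])
    · exact inv_mem (Subgroup.subset_closure (by simp [hX]))
    · exact Subgroup.subset_closure (by simp [hX])
    · exact inv_mem (Subgroup.subset_closure (by simp [hX]))
  have TX : TableOK X H TG.E ivG 495 TG.Rep TG.Tb :=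
    tableOK_of_check hiv TG.hR TG.hdefs TG.hsteps TG.htable hrel (fun w hw => by
      have hw' : ∀ l ∈ w, l < 4 := by
        have := List.all_eq_true.mp (show (TG.subs.all fun w => w.all fun l => Nat.blt l 4) = true by decide) w hw
        simpa using this
      rw [hXY hw']
      clear hw hw'
      induction w with
      | nil => rw [ev_nil]; exact one_mem _
      | cons l w ih => rw [ev_cons]; exact mul_mem (mem_closure_fl l) ih)
  obtain ⟨hΔfin, hΔcard⟩ := TX.finite_card_le (by norm_num) hHΔ (m := 192) hYfin (by simpa using hYcard)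
  let p2 : Δ →* Spor.M12 := (MonoidHom.snd G Spor.M12).comp Δ.subtype
  have hMGmem : ∀ w, ev MG w ∈ p2.range := fun w => by
    refine ⟨⟨ev X w, ?_⟩, hev2 w⟩
    induction w with
    | nil => rw [ev_nil]; exact one_mem _
    | cons l w ih => rw [ev_cons]; exact mul_mem (mem_closure_fl l) ih
  have hsurj : Function.Surjective p2 := by
    rw [← MonoidHom.range_eq_top]
    refine Subgroup.eq_top_of_card_eq _ (le_antisymm (Subgroup.card_le_card_group _) ?_)
    rw [Golay.SylowCert.card_M12, show 95040 = Nat.card (Fin 495 × Fin 192) by simp]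
    refine Nat.card_le_card_of_injective (fun p => ⟨el r0 s0 p.2 * ev MG (cosW p.1), ?_⟩) ?_
    · rw [el0 p.2.2]; exact mul_mem (hMGmem _) (hMGmem _)
    · intro p p' h
      have h' : el r0 s0 p.2 * ev MG (cosW p.1) = el r0 s0 p'.2 * ev MG (cosW p'.1) := congrArg Subtype.val h
      have hz : ev MG (zW p.1) = ev MG (zW p'.1) := by
        have key : ∀ (i : Fin 192) (j : Fin 495),
            (el r0 s0 i * ev MG (cosW j))⁻¹ * z0 * (el r0 s0 i * ev MG (cosW j)) = ev MG (zW j) := fun i j => by
          rw [zW_eq, mul_inv_rev]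
          calc _ = (ev MG (cosW j))⁻¹ * ((el r0 s0 i)⁻¹ * (z0 * el r0 s0 i)) * ev MG (cosW j) := by group
            _ = _ := by rw [← loc0.commute_z, inv_mul_cancel_left]
        rw [← key p.2 p.1, h', key]
      have h1 := congrArg (fun x : Spor.M12 => codeL (Golay.toList (x : Equiv.Perm GolayPt))) hz
      simp only [toList_MG] at h1
      have hnd : ((List.range 495).map fun j => codeL (evalL (zW j))).Nodup := codesZ_ok.1 ▸ codesZ_ok.2.1
      have e1 : p.1 = p'.1 := Fin.ext (List.inj_on_of_nodup_map hnd (List.mem_range.mpr p.1.2) (List.mem_range.mpr p'.1.2) h1)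
      rw [e1, mul_right_cancel_iff] at h'
      exact Prod.ext e1 (Fin.ext (el0_inj p.2.2 p'.2.2 h'))
  have hbij : Function.Bijective p2 := (Nat.bijective_iff_surjective_and_card p2).mpr
    ⟨hsurj, le_antisymm (hΔcard.trans (by rw [Golay.SylowCert.card_M12])) (Nat.card_le_card_of_surjective p2 hsurj)⟩
  let ψ : Spor.M12 →* G := ((MonoidHom.fst G Spor.M12).comp Δ.subtype).comp (MulEquiv.ofBijective p2 hbij).symm.toMonoidHom
  haveI := simple_M12
  have hψ : Function.Injective ψ := by
    rcases (MonoidHom.normal_ker ψ).eq_bot_or_eq_top with h | h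
    · exact (MonoidHom.ker_eq_bot_iff ψ).mp h
    · exfalso
      have hg : ψ (fl MG 4) = g := by
        have hmem : fl X 4 ∈ Δ := mem_closure_fl 4
        have h1 : (MulEquiv.ofBijective p2 hbij).symm (fl MG 4) = ⟨fl X 4, hmem⟩ := by
          rw [MulEquiv.symm_apply_eq]
          rfl
        show ((MulEquiv.ofBijective p2 hbij).symm (fl MG 4) : Δ).1.1 = g
        rw [h1]
        rfl
      rw [MonoidHom.mem_ker.mp (h ▸ Subgroup.mem_top (fl MG 4))] at hg
      have hgz := S.gz
      rw [← hg, one_mul, inv_one, mul_one, S.loc.z_eq] at hgz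
      exact absurd (S.loc.el_inj (by norm_num) (by norm_num) hgz) (by norm_num)
  have hψb : Function.Bijective ψ :=
    (Nat.bijective_iff_injective_and_card ψ).mpr ⟨hψ, by rw [hcard, Golay.SylowCert.card_M12]⟩
  exact ⟨(MulEquiv.ofBijective ψ hψb).symm⟩

/-- The nodes of the elementary abelian group of order eight. -/
def nN : List Nat := [0, 41, 49, 77, 152, 164, 172, 189]

theorem nN_ok : nN.Nodup ∧ (nN.all fun i => Nat.blt i 192 && Nat.beq (mH i i) 0 && nN.contains (invH i)) = true ∧
    (nN.all fun i => nN.all fun j => nN.contains (mH i j)) = true ∧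
    ((List.range 192).all fun x => nN.contains x || !(nN.all fun e => comH x e)) = true ∧
    ((List.range 192).all fun j => nN.contains j || !(invN j) || (List.range 192).all fun w =>
      !(comH w j) || mH (mH (mH w w) (mH w w)) (mH (mH w w) (mH w w)) == 0) = true := by decide +kernel

/-- The first kind of action: an elementary abelian normal subgroup of order 8 with quotient `GL(3,2)`. -/
theorem Loc.caseA_affine [Finite G] {z r s g : G} (L : Loc z r s) (hG : Fused z) {t : Nat × Nat × Nat} (ht : t ∈ candA)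
    (h3 : g ^ 3 = 1) (hact : ∀ y ∈ nD, g * el r s y * g⁻¹ = el r s (fD t y)) :
    ∃ (N : Subgroup G) (hN : N.Normal), IsMulCommutative N ∧ (∀ n ∈ N, n ^ 2 = 1) ∧ Nat.card N = 8 ∧
      Nonempty (G ⧸ N ≃* Matrix.ProjectiveSpecialLinearGroup (Fin 3) (ZMod 2)) := by
  classical
  have hcl := L.caseA_closed hG ht h3 hact
  obtain ⟨hnd, hlt, hmul, hcent, h8⟩ := nN_ok
  simp only [List.all_eq_true, Bool.and_eq_true, List.contains_iff_mem, Nat.blt_eq, Nat.beq_eq] at hlt hmul
  let E : Subgroup G :=
    { carrier := {x | ∃ i ∈ nN, el r s i = x}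
      mul_mem' := by
        rintro x y ⟨i, hi, rfl⟩ ⟨j, hj, rfl⟩
        exact ⟨mH i j, hmul i hi j hj, (L.el_mul (hlt i hi).1.1 (hlt j hj).1.1).symm⟩
      one_mem' := ⟨0, by decide, L.el_zero⟩
      inv_mem' := by
        rintro x ⟨i, hi, rfl⟩
        exact ⟨invH i, (hlt i hi).2, (L.el_inv (hlt i hi).1.1).symm⟩ }
  have hE8 : Nat.card E = 8 := by
    let f : nN.toFinset → E := fun i => ⟨el r s i, i, List.mem_toFinset.mp i.2, rfl⟩
    have hf : Function.Bijective f := by
      refine ⟨fun a b h => Subtype.ext (L.el_inj (hlt a (List.mem_toFinset.mp a.2)).1.1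
        (hlt b (List.mem_toFinset.mp b.2)).1.1 (congrArg Subtype.val h)), ?_⟩
      rintro ⟨x, i, hi, rfl⟩
      exact ⟨⟨i, List.mem_toFinset.mpr hi⟩, rfl⟩
    rw [← Nat.card_eq_of_bijective f hf, Nat.card_eq_fintype_card, Fintype.card_coe,
      List.toFinset_card_of_nodup hnd]
    rfl
  have hmem : ∀ {i}, i < 192 → el r s i ∈ E → i ∈ nN := fun hi ⟨l, hl, hle⟩ =>
    L.el_inj (hlt l hl).1.1 hi hle ▸ hl
  have h59 : (59 : Nat) < 192 := by norm_num
  refine CfsgLib.C192.affine L.zord E hE8 ?_ ⟨41, by decide, L.z_eq.symm⟩ L.card ?_ (fun x hx hxz => ?_)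
    (fun x hxz hc => ?_) ⟨el r s 59, L.ord_cls (by decide), L.commute_z 59, fun h => absurd (hmem h59 h) (by decide)⟩
    (fun j y hj2 hjz hjE hyz hyj => ?_)
  · rintro _ ⟨i, hi, rfl⟩
    rw [L.el_mul (hlt i hi).1.1 (hlt i hi).1.1, (hlt i hi).1.2, L.el_zero]
  · rintro _ ⟨i, hi, rfl⟩ he1
    fin_cases hi
    · exact absurd L.el_zero he1
    · exact L.z_eq ▸ IsConj.refl z
    all_goals exact (L.conj_a hG).trans (L.isConj_A (by decide))
  · obtain ⟨i, hi, rfl⟩ := hcl x hx hxz
    exact ⟨i, by fin_cases hi <;> decide, rfl⟩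
  · obtain ⟨i, hi, rfl⟩ := L.el_mem_of_commute hxz
    have h := List.all_eq_true.mp hcent i (List.mem_range.mpr hi)
    rw [Bool.or_eq_true] at h
    rcases h with h | h
    · exact ⟨i, List.contains_iff_mem.mp h, rfl⟩
    · exfalso
      simp only [Bool.not_eq_true', List.all_eq_false] at h
      obtain ⟨e, he, hne⟩ := h
      exact hne ((L.el_commute_iff hi (hlt e he).1.1).mp (hc _ ⟨e, he, rfl⟩))
  · obtain ⟨i, hi, rfl⟩ := L.el_mem_of_commute hjz
    obtain ⟨w, hw, rfl⟩ := L.el_mem_of_commute hyz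
    have h := List.all_eq_true.mp h8 i (List.mem_range.mpr hi)
    rw [L.invN_ord hi hj2] at h
    have hn : nN.contains i = false := by
      rw [← Bool.not_eq_true, List.contains_iff_mem]
      exact fun hin => hjE ⟨i, hin, rfl⟩
    rw [hn] at h
    simp only [Bool.not_true, Bool.false_or] at h
    have h' := List.all_eq_true.mp h w (List.mem_range.mpr hw)
    rw [(L.el_commute_iff hw hi).mp hyj] at h'
    simp only [Bool.not_true, Bool.false_or, beq_iff_eq] at h'
    refine ⟨3, ?_⟩
    have a1 := L.mH_lt hw hw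
    have a2 := L.mH_lt a1 a1
    rw [show el r s w ^ (2 ^ 3) = ((el r s w * el r s w) * (el r s w * el r s w)) *
      ((el r s w * el r s w) * (el r s w * el r s w)) by simp only [pow_succ, pow_zero, one_mul, mul_assoc, Nat.reducePow, Nat.reduceMul],
      L.el_mul hw hw, L.el_mul a1 a1, L.el_mul a2 a2, h', L.el_zero]

theorem fused_of_simple [Finite G] [IsSimpleGroup G] (hG : ¬ IsMulCommutative G) {z : G} : Fused z := by
  intro hiso
  obtain ⟨N, hN, hodd, hcom⟩ := CfsgLib.ZStar.zstar hiso
  rcases hN.eq_bot_or_eq_top with rfl | rfl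
  · have hz : z ∈ Subgroup.center G := Subgroup.mem_center_iff.mpr fun g => by
      have := hcom g
      rw [Subgroup.mem_bot, mul_inv_eq_one, mul_inv_eq_iff_eq_mul] at this
      exact this.symm
    rcases (inferInstance : (Subgroup.center G).Normal).eq_bot_or_eq_top with e | e
    · rw [e, Subgroup.mem_bot] at hz
      exact CfsgLib.Invol.ne_one hiso.1 hz
    · exact hG ⟨⟨fun x y => (Subgroup.mem_center_iff.mp (e ▸ Subgroup.mem_top x : x ∈ Subgroup.center G) y).symm⟩⟩
  · rw [Subgroup.card_top] at hodd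
    exact absurd (Odd.of_dvd_nat hodd (hiso.1 ▸ orderOf_dvd_natCard z)) (by decide)

/-- The recognition theorem. -/
theorem isoM12 [Finite G] [IsSimpleGroup G] (hG : ¬ IsMulCommutative G) {u : Spor.M12}
    (hu : IsTwoCentralInvolution u) {t : G} (ht : orderOf t = 2)
    (e : Subgroup.centralizer ({t} : Set G) ≃* Subgroup.centralizer ({u} : Set Spor.M12)) : Spor.IsoM12 G := by
  obtain ⟨r, s, L⟩ := loc_pullback (two_central_conj u hu) ht e
  have hF : Fused t := fused_of_simple hG
  rcases L.exists_case hF with ⟨g, c, hc, h3, hact⟩ | ⟨r', s', g, L', h3, hact⟩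
  · exfalso
    obtain ⟨N, hN, -, -, h8, ⟨ι⟩⟩ := L.caseA_affine hF hc h3 hact
    rcases hN.eq_bot_or_eq_top with rfl | rfl
    · rw [Subgroup.card_bot] at h8; omega
    · have h192 : 192 ≤ Nat.card G := L.card ▸ Subgroup.card_le_card_group _
      rw [Subgroup.card_top] at h8
      omega
  · obtain ⟨g', S⟩ := L'.exists_std h3 hact
    exact iso_of_std S hF

end CfsgLib.M12U
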