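import Cfsg.Agent.ZStar.Final
import Cfsg.Agent.Invol.Isolated
import Mathlib.GroupTheory.FixedPointFree
import Mathlib.GroupTheory.Nilpotent
import Mathlib.GroupTheory.Sylow

/-!
General tools for the recognition of the Mathieu group of degree twelve.
-/

set_option autoImplicit false
set_option linter.style.haveILetI false

namespace CfsgLib.M12U

open Subgroup CfsgLib.Invol

variable {G : Type*} [Group G] [Finite G]

/-- A proper subgroup of a subgroup of prime power order is normalized by an element outside it. -/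
theorem exists_normalizer_gt {p : ℕ} [Fact p.Prime] {D R : Subgroup G} (hR : IsPGroup p R) (hle : D ≤ R)
    (hne : D ≠ R) : ∃ y ∈ R, y ∉ D ∧ ∀ v, v ∈ D ↔ y * v * y⁻¹ ∈ D := by
  haveI : Group.IsNilpotent R := hR.isNilpotent
  have hlt : D.subgroupOf R < ⊤ :=
    lt_top_iff_ne_top.2 fun e => hne (le_antisymm hle fun y hy =>
      (e ▸ mem_top (⟨y, hy⟩ : R) : (⟨y, hy⟩ : R) ∈ D.subgroupOf R))
  obtain ⟨y, hy, hyD⟩ := SetLike.exists_of_lt (Group.normalizerCondition_of_isNilpotent _ hlt)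
  refine ⟨y, y.2, fun e => hyD e, fun v => ⟨fun hv => (mem_normalizer_iff.1 hy ⟨v, hle hv⟩).1 hv, fun hv => ?_⟩⟩
  have hvR : v ∈ R := by
    have := mul_mem (mul_mem (inv_mem y.2) (hle hv)) y.2
    simpa [mul_assoc] using this
  exact (mem_normalizer_iff.1 hy ⟨v, hvR⟩).2 hv

/-- A fixed-point-free involutory action inverts. -/
theorem inverts_of_fpf {N : Subgroup G} {z : G} (hz : z * z = 1) (hnorm : ∀ n ∈ N, z * n * z⁻¹ ∈ N)
    (hfpf : ∀ n ∈ N, z * n * z⁻¹ = n → n = 1) :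
    (∀ n ∈ N, z * n * z⁻¹ = n⁻¹) ∧ ∀ m ∈ N, ∀ n ∈ N, m * n = n * m := by
  haveI := Fintype.ofFinite N
  let φ : N →* N :=
    { toFun := fun n => ⟨z * n * z⁻¹, hnorm n n.2⟩
      map_one' := by ext; simp
      map_mul' := fun a b => by ext; simp [mul_assoc] }
  have hF : MonoidHom.FixedPointFree φ := fun n hn => Subtype.ext (hfpf n n.2 (congrArg Subtype.val hn))
  have hI : Function.Involutive φ := fun n => Subtype.ext (by
    show z * (z * n * z⁻¹) * z⁻¹ = n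
    have hzi : z⁻¹ = z := inv_eq_of_mul_eq_one_right hz
    rw [hzi, ← mul_assoc z (z * _) z, ← mul_assoc z z, hz, one_mul, mul_assoc, hz, mul_one])
  have key : ∀ n ∈ N, z * n * z⁻¹ = n⁻¹ := fun n hn =>
    congrArg Subtype.val (congrFun (hF.coe_eq_inv_of_involutive hI) ⟨n, hn⟩)
  refine ⟨key, fun m hm n hn => ?_⟩
  exact congrArg Subtype.val (hF.commute_all_of_involutive hI ⟨m, hm⟩ ⟨n, hn⟩).eq

/-- The Z* theorem inside a subgroup in which an involution has a 2-group as centralizer. -/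
theorem zstar_in {K : Subgroup G} {z : G} (hzK : z ∈ K) (hz : orderOf z = 2)
    (h2 : ∀ x ∈ K, x * z = z * x → ∃ k : ℕ, x ^ 2 ^ k = 1)
    (hiso : ∀ g ∈ K, (g * z * g⁻¹) * z = z * (g * z * g⁻¹) → g * z * g⁻¹ = z) :
    ∃ N : Subgroup G, N ≤ K ∧ Odd (Nat.card N) ∧ (∀ g ∈ K, ∀ n ∈ N, g * n * g⁻¹ ∈ N) ∧
      (∀ g ∈ K, ∃ n ∈ N, ∃ c ∈ K, c * z = z * c ∧ g = n * c) ∧
      (∀ n ∈ N, z * n * z⁻¹ = n⁻¹) ∧ (∀ m ∈ N, ∀ n ∈ N, m * n = n * m) ∧
      ∀ n ∈ N, n * z = z * n → n = 1 := by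
  have hisoK : Cfsg.IsIsolatedInvolution (⟨z, hzK⟩ : K) := by
    refine ⟨by rw [← Subgroup.orderOf_coe]; exact hz, fun g hg => Subtype.ext ?_⟩
    exact hiso g g.2 (congrArg Subtype.val hg.eq).symm
  obtain ⟨N₀, hN₀, hodd, hcom⟩ := CfsgLib.ZStar.zstar hisoK
  set N := N₀.map K.subtype with hN
  have hmem : ∀ {x : G}, x ∈ N → ∃ h : x ∈ K, (⟨x, h⟩ : K) ∈ N₀ := fun hx => by
    obtain ⟨y, hy, rfl⟩ := Subgroup.mem_map.mp hx; exact ⟨y.2, hy⟩
  have hoddN : Odd (Nat.card N) := by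
    rwa [hN, Subgroup.card_map_of_injective K.subtype_injective]
  have hfix : ∀ n ∈ N, n * z = z * n → n = 1 := fun n hn hc => by
    obtain ⟨hK, -⟩ := hmem hn
    obtain ⟨k, hk⟩ := h2 n hK hc
    have h1 : orderOf n ∣ Nat.card N := Subgroup.orderOf_dvd_natCard _ hn
    obtain ⟨j, -, hj⟩ := (Nat.dvd_prime_pow Nat.prime_two).mp (orderOf_dvd_of_pow_eq_one hk)
    rcases j with _ | j
    · exact orderOf_eq_one_iff.mp (by rw [hj, pow_zero])
    · exact absurd (Odd.of_dvd_nat hoddN h1) (by rw [hj, pow_succ]; simp [Nat.odd_iff])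
  have hnormK : ∀ g ∈ K, ∀ n ∈ N, g * n * g⁻¹ ∈ N := fun g hg n hn => by
    obtain ⟨hK, h⟩ := hmem hn
    exact Subgroup.mem_map.mpr ⟨_, hN₀.conj_mem _ h ⟨g, hg⟩, rfl⟩
  obtain ⟨hinv, hab⟩ := inverts_of_fpf (N := N) (mul_self_eq_one hz) (hnormK z hzK) fun n hn hc =>
    hfix n hn (mul_inv_eq_iff_eq_mul.mp hc).symm
  refine ⟨N, Subgroup.map_subtype_le N₀, hoddN, hnormK, fun g hg => ?_, hinv, hab, hfix⟩
  obtain ⟨m, hm⟩ := isolated_exists_conj hisoK (⟨g, hg⟩ : K)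
  generalize hw : ((⟨z, hzK⟩ : K) * (⟨g, hg⟩ * ⟨z, hzK⟩ * (⟨g, hg⟩ : K)⁻¹)) ^ m = w at hm
  have hw0 : w ∈ N₀ := by
    rw [← hw]
    refine pow_mem ?_ m
    have := hcom ⟨g, hg⟩
    rw [inv_eq_self hisoK.1, mul_assoc (⟨z, hzK⟩ * ⟨g, hg⟩ : K), mul_assoc (⟨z, hzK⟩ : K), ← mul_assoc (⟨g, hg⟩ : K)] at this
    exact this
  have hwN : (w : G) ∈ N := Subgroup.mem_map.mpr ⟨w, hw0, rfl⟩
  have hm' : (w : G) * z * (w : G)⁻¹ = g * z * g⁻¹ := congrArg Subtype.val hm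
  refine ⟨w, hwN, (w : G)⁻¹ * g, mul_mem (inv_mem w.2) hg, ?_, by group⟩
  have h2' : g * z = w * z * (w : G)⁻¹ * g := by rw [hm', inv_mul_cancel_right]
  calc (w : G)⁻¹ * g * z = (w : G)⁻¹ * (w * z * (w : G)⁻¹ * g) := by rw [← h2', mul_assoc]
    _ = z * ((w : G)⁻¹ * g) := by group

end CfsgLib.M12U
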