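import Cfsg.Agent.Coset.Table
import Cfsg.Agent.M12U.Letters
import Cfsg.Agent.M12U.THData

/-! A checked coset table. -/

set_option autoImplicit false
set_option maxRecDepth 100000

namespace CfsgLib.M12U.TH

open CfsgLib.Coset

theorem hR : checkRules relsH subs R = true := by decide +kernel
theorem hdefs : checkDefs E 4 8 195 = true := by decide +kernel
theorem hsteps : checkChunks E ivH R 4 2 195 4 C = true := by decide +kernel
theorem htable : checkTable E ivH (195 + chunk * 4) 192 4 8 2 Rep Ref Tb = true := by decide +kernel

end CfsgLib.M12U.TH
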