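import Cfsg.Agent.J2U.Calc
import Cfsg.Agent.M12U.TH
import Mathlib.GroupTheory.Subgroup.Centralizer
import Mathlib.GroupTheory.OrderOfElement
import Mathlib.Tactic.NormNum

/-!
Computing in an involution centralizer of order 192 given by two generators.
-/

set_option autoImplicit false
set_option maxRecDepth 100000

namespace CfsgLib.M12U

open CfsgLib.Coset
open CfsgLib.J2U (pathW checkPath follow_lt rp_follow ev_eq_of_follow follow_eq_of_ev exists_path checkPath_iff)

variable {G : Type*} [Group G]

/-- The letters of the centralizer. -/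
def LH (r s : G) : List G := [r, r⁻¹, s, s⁻¹]

/-- The local data at an involution: generators of its centralizer satisfying the relators. -/
structure Loc (z r s : G) : Prop where
  rel : ∀ w ∈ relsH, ev (LH r s) w = 1
  gen : Subgroup.closure {x | x ∈ LH r s} = Subgroup.centralizer ({z} : Set G)
  card : Nat.card (Subgroup.centralizer ({z} : Set G)) = 192
  zeq : z = ev (LH r s) (pathW TH.Par 12 41)

/-- The word of a node. -/
noncomputable def pth (i : Nat) : List Nat := pathW TH.Par 12 i

/-- The node of a word. -/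
noncomputable def nodeOf (w : List Nat) : Nat := follow (tget TH.Tb) 0 w

/-- The product of two nodes. -/
noncomputable def mH (i j : Nat) : Nat := follow (tget TH.Tb) i (pth j)

/-- The inverse of a node. -/
noncomputable def invH (i : Nat) : Nat := nodeOf ((pth i).map ivH).reverse

/-- The conjugate of the node `x` by the node `h`. -/
noncomputable def cjH (h x : Nat) : Nat := mH (mH h x) (invH h)

/-- Do two nodes commute? -/
noncomputable def comH (i j : Nat) : Bool := Nat.beq (mH i j) (mH j i)

/-- The element of a node. -/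
noncomputable def el (r s : G) (i : Nat) : G := ev (LH r s) (pth i)

theorem path_ok : checkPath TH.Tb TH.Par 12 192 4 8 = true := by decide +kernel

theorem ivH_table : ((List.range 4).all fun x => relsH.contains [x, ivH x]) = true := by decide +kernel

theorem ivH_out : ∀ x, 4 ≤ x → ivH x = x := by
  intro x hx
  unfold ivH
  rw [List.getD_eq_default _ _ (by simpa using hx)]

theorem pth_lt {i : Nat} (hi : i < 192) : ∀ l ∈ pth i, l < 4 := (checkPath_iff path_ok hi).1

theorem nodeOf_pth {i : Nat} (hi : i < 192) : nodeOf (pth i) = i := (checkPath_iff path_ok hi).2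

theorem mH_eq {i j : Nat} (hi : i < 192) : mH i j = nodeOf (pth i ++ pth j) := by
  unfold mH nodeOf
  rw [follow_append]
  exact congrArg (fun q => follow (tget TH.Tb) q (pth j)) (nodeOf_pth hi).symm

theorem ivH_lt : ∀ x < 4, ivH x < 4 := by decide

theorem inv_word_lt {i : Nat} (hi : i < 192) : ∀ l ∈ ((pth i).map ivH).reverse, l < 4 := by
  intro l hl
  simp only [List.mem_reverse, List.mem_map] at hl
  obtain ⟨m, hm, rfl⟩ := hl
  exact ivH_lt m (pth_lt hi m hm)

namespace Loc

variable {z r s : G} (L : Loc z r s)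

include L

theorem inv (x : Nat) : fl (LH r s) (ivH x) = (fl (LH r s) x)⁻¹ :=
  CfsgLib.J2U.inv_of_rels (show (LH r s).length = 4 from rfl) L.rel ivH_table ivH_out x

theorem table : TableOK (LH r s) (⊥ : Subgroup G) TH.E ivH 192 TH.Rep TH.Tb :=
  tableOK_of_check L.inv TH.hR TH.hdefs TH.hsteps TH.htable L.rel (by simp [TH.subs])

theorem node_lt {w : List Nat} (hw : ∀ l ∈ w, l < 4) : nodeOf w < 192 :=
  follow_lt L.table w 0 (by norm_num) hw

theorem mH_lt {i j : Nat} (hi : i < 192) (hj : j < 192) : mH i j < 192 :=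
  follow_lt L.table _ i hi (pth_lt hj)

theorem invH_lt {i : Nat} (hi : i < 192) : invH i < 192 := L.node_lt (inv_word_lt hi)

theorem cjH_lt {h x : Nat} (hh : h < 192) (hx : x < 192) : cjH h x < 192 :=
  L.mH_lt (L.mH_lt hh hx) (L.invH_lt hh)

theorem ev_node {w : List Nat} (hw : ∀ l ∈ w, l < 4) : ev (LH r s) w = el r s (nodeOf w) := by
  have hn := L.node_lt hw
  refine ev_eq_of_follow L.table (by norm_num) hw (pth_lt hn) ?_
  exact (nodeOf_pth hn).symm

theorem el_mul {i j : Nat} (hi : i < 192) (hj : j < 192) : el r s i * el r s j = el r s (mH i j) := by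
  rw [mH_eq hi, el, el, ← ev_append]
  refine L.ev_node fun l hl => ?_
  rcases List.mem_append.mp hl with h | h
  · exact pth_lt hi l h
  · exact pth_lt hj l h

theorem el_zero : el r s 0 = 1 := by
  have h := L.ev_node (w := []) (by simp)
  rw [ev_nil] at h
  exact h.symm

theorem el_inv {i : Nat} (hi : i < 192) : (el r s i)⁻¹ = el r s (invH i) := by
  rw [el, ← CfsgLib.J2U.ev_inv_word L.inv]
  exact L.ev_node (inv_word_lt hi)

theorem el_conj {h x : Nat} (hh : h < 192) (hx : x < 192) :
    el r s h * el r s x * (el r s h)⁻¹ = el r s (cjH h x) := by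
  rw [L.el_inv hh, L.el_mul hh hx, L.el_mul (L.mH_lt hh hx) (L.invH_lt hh), cjH]

theorem el_mem (i : Nat) : el r s i ∈ Subgroup.centralizer ({z} : Set G) := by
  rw [← L.gen, el]
  induction pth i with
  | nil => simp
  | cons l w ih => rw [ev_cons]; exact mul_mem (mem_closure_fl l) ih

theorem el_inj {i j : Nat} (hi : i < 192) (hj : j < 192) (h : el r s i = el r s j) : i = j := by
  have := follow_eq_of_ev L.table (by norm_num) (by rw [L.gen, L.card]) (pth_lt hi) (pth_lt hj) h
  have h1 := nodeOf_pth hi
  have h2 := nodeOf_pth hj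
  unfold nodeOf at h1 h2
  rw [← h1, ← h2]
  exact this

theorem exists_node {x : G} (hx : x ∈ Subgroup.centralizer ({z} : Set G)) : ∃ i < 192, x = el r s i :=
  exists_path L.table (by norm_num) path_ok (by rw [L.gen]; exact hx)

theorem z_eq : z = el r s 41 := L.zeq

theorem el_commute_iff {i j : Nat} (hi : i < 192) (hj : j < 192) :
    el r s i * el r s j = el r s j * el r s i ↔ comH i j = true := by
  rw [L.el_mul hi hj, L.el_mul hj hi]
  unfold comH
  constructor
  · intro h
    rw [L.el_inj (L.mH_lt hi hj) (L.mH_lt hj hi) h]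
    exact Nat.beq_refl _
  · intro h
    rw [Nat.eq_of_beq_eq_true h]

theorem el_eq_one_iff {i : Nat} (hi : i < 192) : el r s i = 1 ↔ i = 0 :=
  ⟨fun h => L.el_inj hi (by norm_num) (by rw [h, L.el_zero]), fun h => by rw [h, L.el_zero]⟩

theorem orderOf_two_iff {i : Nat} (hi : i < 192) : orderOf (el r s i) = 2 ↔ i ≠ 0 ∧ mH i i = 0 := by
  haveI : Fact (Nat.Prime 2) := ⟨Nat.prime_two⟩
  rw [orderOf_eq_prime_iff, pow_two, L.el_mul hi hi, L.el_eq_one_iff (L.mH_lt hi hi),
    ne_eq, L.el_eq_one_iff hi]
  exact and_comm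

theorem el_mem_of_commute {x : G} (hx : x * z = z * x) : ∃ i < 192, x = el r s i :=
  L.exists_node (Subgroup.mem_centralizer_singleton_iff.mpr hx)

end Loc

end CfsgLib.M12U
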