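import Cfsg.Agent.M12U.Nodes

/-!
Facts about the nodes of the involution centralizer of order 192, checked by computation.
-/

set_option autoImplicit false
set_option maxRecDepth 100000

namespace CfsgLib.M12U

open CfsgLib.Coset

/-- The involutions of the class of size six in the centralizer. -/
def clsA : List Nat := [49, 77, 152, 164, 172, 189]

/-- The involutions of the class of size twelve in the centralizer. -/
def clsB : List Nat := [52, 59, 67, 74, 147, 151, 159, 162, 167, 177, 188, 190]

/-- The involutions of the class of size twenty-four in the centralizer. -/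
def clsC : List Nat := [107, 109, 110, 112, 115, 116, 119, 121, 124, 125, 129, 130, 133, 135, 136, 137, 171, 174, 178, 184, 185, 186, 187, 191]

/-- A Sylow subgroup of the centralizer. -/
def nT : List Nat := [0, 1, 2, 5, 8, 15, 22, 30, 33, 37, 40, 41, 49, 52, 56, 59, 67, 70, 74, 77, 80, 85, 86, 90, 94, 96, 106, 108, 111, 113, 115, 119, 120, 124, 127, 129, 132, 134, 138, 140, 145, 147, 148, 151, 152, 154, 158, 159, 162, 164, 167, 170, 171, 172, 174, 175, 177, 179, 183, 185, 188, 189, 190, 191]

/-- A maximal subgroup of the Sylow subgroup without involutions of the largest class. -/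
def nM : List Nat := [0, 1, 2, 5, 8, 15, 22, 30, 40, 41, 49, 59, 67, 77, 106, 113, 132, 138, 145, 148, 152, 154, 158, 159, 164, 170, 172, 175, 177, 179, 183, 189]

/-- The centralizer of the four-group. -/
def nD : List Nat := [0, 5, 8, 33, 37, 41, 49, 59, 67, 77, 108, 111, 115, 119, 120, 124, 127, 129, 134, 140, 145, 152, 158, 159, 164, 171, 172, 174, 177, 185, 189, 191]

/-- The centralizer of the pair `z`, `b`. -/
def nB : List Nat := [0, 41, 52, 56, 59, 67, 80, 85, 86, 147, 152, 159, 167, 177, 189, 190]

/-- The words of the elements of `nD` in three generators. -/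
def wDs : List (Nat × List Nat) := [(0, []), (5, [0, 0, 0]), (8, [0]), (33, [1, 1, 1]), (37, [1]), (41, [0, 0]), (49, [1, 1, 2, 0]), (59, [2]), (67, [1, 1, 2]), (77, [0, 2]), (108, [2, 0, 1, 2]), (111, [0, 0, 0, 1]), (115, [1, 2, 0]), (119, [0, 1, 2]), (120, [0, 1]), (124, [0, 0, 1, 2]), (127, [0, 0, 1, 1, 1]), (129, [1, 2]), (134, [0, 1, 1, 1]), (140, [0, 0, 1]), (145, [0, 1, 1]), (152, [1, 1]), (158, [0, 0, 0, 1, 1]), (159, [0, 0, 1, 1, 2]), (164, [2, 0]), (171, [2, 0, 1]), (172, [0, 1, 1, 2]), (174, [2, 1]), (177, [0, 0, 2]), (185, [0, 2, 1]), (189, [0, 0, 1, 1]), (191, [0, 0, 2, 1])]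

/-- The possible images of the generators under an element of order three, first kind. -/
def candA : List (Nat × Nat × Nat) := [(134, 158, 124), (134, 158, 174), (134, 158, 129), (134, 158, 191), (108, 8, 124), (108, 8, 174), (108, 8, 129), (108, 8, 191)]

/-- The possible images, second kind, with new generators of the centralizer. -/
def candB : List ((Nat × Nat × Nat) × (Nat × Nat) × (Nat × Nat)) := [((134, 158, 59), (1, 3), (1, 3)), ((108, 8, 59), (1, 105), (1, 105)), ((108, 8, 67), (1, 20), (1, 20)), ((134, 158, 67), (1, 97), (1, 97)), ((134, 158, 177), (132, 168), (132, 168)), ((108, 8, 177), (132, 173), (132, 173)), ((108, 8, 159), (132, 98), (106, 53)), ((134, 158, 159), (132, 53), (106, 98))]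

/-- A node squaring to the identity, other than the identity. -/
noncomputable def invN (i : Nat) : Bool := !(Nat.beq i 0) && Nat.beq (mH i i) 0

/-- The number of nodes commuting with a node. -/
noncomputable def centN (x : Nat) : Nat := ((List.range 192).filter fun j => comH x j).length

/-- Is the node `z` a power of the node `w`? -/
noncomputable def powN (z w : Nat) : Bool :=
  (List.range 9).any fun k => Nat.beq ((List.replicate k w).foldl mH 0) z

theorem invs_ok : ∀ i < 192, invN i = true → i ∈ 41 :: (clsA ++ clsB ++ clsC) := by
  have h : ((List.range 192).all fun i => !(invN i) || (41 :: (clsA ++ clsB ++ clsC)).contains i) = true := by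
    decide +kernel
  intro i hi hv
  have := List.all_eq_true.mp h i (List.mem_range.mpr hi)
  simpa [hv] using this

theorem cls_invs : ((41 :: (clsA ++ clsB ++ clsC)).all fun i => Nat.blt i 192 && invN i) = true := by
  decide +kernel

theorem clsA_conj : (clsA.all fun x => (List.range 192).any fun h => Nat.beq (cjH h 189) x) = true := by
  decide +kernel

theorem clsB_conj : (clsB.all fun x => (List.range 192).any fun h => Nat.beq (cjH h 59) x) = true := by
  decide +kernel

theorem clsC_conj : (clsC.all fun x => (List.range 192).any fun h => Nat.beq (cjH h 124) x) = true := by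
  decide +kernel

theorem cent_sizes : centN 41 = 192 ∧ centN 189 = 32 ∧ centN 59 = 16 ∧ centN 124 = 8 := by
  decide +kernel

theorem z_central : ((List.range 192).all fun i => comH 41 i) = true := by decide +kernel

theorem centre_ok : ((List.range 192).all fun i =>
    !(comH i 1 && comH i 3) || i == 0 || i == 41) = true := by decide +kernel

theorem letters_ok : nodeOf [0] = 1 ∧ nodeOf [2] = 3 := by decide +kernel

theorem nT_ok : nT.Nodup ∧ nT.length = 64 ∧ (nT.all fun i => Nat.blt i 192) = true ∧
    (nT.all fun i => nT.all fun j => nT.contains (mH i j)) = true ∧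
    (nT.all fun i => nT.contains (invH i)) = true := by decide +kernel

theorem nT_centre : (nT.all fun i => !(nT.all fun j => comH i j) || i == 0 || i == 41) = true := by
  decide +kernel

theorem nM_ok : nM.Nodup ∧ nM.length = 32 ∧ (nM.all fun i => nT.contains i) = true ∧
    (nM.all fun i => nM.all fun j => nM.contains (mH i j)) = true ∧
    (nM.all fun i => nM.contains (invH i)) = true ∧
    (nM.all fun i => !(clsC.contains i)) = true ∧ nT.contains 124 = true := by decide +kernel

/-- In the centralizer of `b`, `z` is a square and `b` is not. -/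
theorem square_ok : ((List.range 192).any fun w => comH w 59 && Nat.beq (mH w w) 41) = true ∧
    ((List.range 192).all fun w => !(Nat.beq (mH w w) 59)) = true := by decide +kernel

theorem nD_ok : nD.Nodup ∧
    ((List.range 192).all fun i => comH i 189 == nD.contains i) = true := by decide +kernel

theorem nB_ok : nB.Nodup ∧ nB.length = 16 ∧
    ((List.range 192).all fun i => comH i 59 == nB.contains i) = true := by decide +kernel

/-- The elements of the centralizer of the involution `124`. -/
def nE : List Nat := [0, 41, 124, 129, 152, 174, 189, 191]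

/-- A product `41 ^ i * 124 ^ j * 174 ^ k`. -/
noncomputable def eP (i j k : Nat) (x y w : Nat) : Nat :=
  mH (mH (if i = 0 then 0 else x) (if j = 0 then 0 else y)) (if k = 0 then 0 else w)

/-- For every image of `174` under an automorphism exchanging `41` and `124`, a conjugate of `124`
whose image lies in the smallest class. -/
theorem nE_ok :
    ((List.range 192).all fun i => comH i 124 == nE.contains i) = true ∧
    (nE.all fun img => eP 1 0 0 41 124 img == img || eP 0 1 0 41 124 img == img || img == 0 || img == mH 41 124 ||
      (List.range 192).any fun h => (List.range 2).any fun i => (List.range 2).any fun j => (List.range 2).any fun k =>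
        Nat.beq (eP i j k 41 124 174) (cjH h 124) && clsA.contains (eP i j k 124 41 img)) = true := by
  decide +kernel

theorem tau_ok : cjH 167 189 = 152 ∧ cjH 167 41 = 41 ∧ nT.contains 167 = true ∧ mH 167 167 = 0 ∧
    mH 41 189 = 152 ∧ cjH 167 152 = 189 ∧ mH 189 189 = 0 := by decide +kernel

/-- The component of a triple. -/
def sel3 (t : Nat × Nat × Nat) : Nat → Nat
  | 0 => t.1
  | 1 => t.2.1
  | _ => t.2.2

/-- The generators of `nD`. -/
def gD : Nat × Nat × Nat := (8, 37, 59)

/-- The word of an element of `nD`. -/
noncomputable def wD (y : Nat) : List Nat :=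
  ((wDs.find? fun p => Nat.beq p.1 y).map Prod.snd).getD []

/-- Evaluation of a word at a triple. -/
noncomputable def evD (t : Nat × Nat × Nat) (w : List Nat) : Nat := (w.map (sel3 t)).foldl mH 0

/-- The map of `nD` given by the images of the generators. -/
noncomputable def fD (t : Nat × Nat × Nat) (y : Nat) : Nat := evD t (wD y)

theorem wD_ok : (nD.all fun y => Nat.beq (evD gD (wD y)) y && (wD y).all fun l => Nat.blt l 3) = true := by
  decide +kernel

/-- The necessary conditions on the images of the generators of `nD`. -/
noncomputable def okTri (t : Nat × Nat × Nat) : Bool :=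
  Nat.beq (fD t 41) 189 && Nat.beq (fD t 189) 152 &&
    [8, 37, 59].all (fun y => Nat.beq (fD t (fD t (fD t y))) y) &&
    nD.any fun d => Nat.beq (mH (mH d (fD t (fD t d))) (fD t d)) 0 &&
      [8, 37, 59].all fun y => Nat.beq (cjH 167 (fD t y)) (cjH d (fD t (fD t (cjH 167 y))))

/-- Nodes of order four, and nodes of order two. -/
noncomputable def ordTri (i j k : Nat) : Bool :=
  !(Nat.beq (mH i i) 0) && Nat.beq (mH (mH i i) (mH i i)) 0 &&
    !(Nat.beq (mH j j) 0) && Nat.beq (mH (mH j j) (mH j j)) 0 && invN k

theorem gD_ord : ordTri 8 37 59 = true ∧ nD.contains 8 = true ∧ nD.contains 37 = true ∧ nD.contains 59 = true := by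
  decide +kernel

theorem tri_ok : (nD.all fun i => nD.all fun j => nD.all fun k =>
    !(ordTri i j k) || !(okTri (i, j, k)) || candA.contains (i, j, k) || (candB.map Prod.fst).contains (i, j, k)) = true := by
  decide +kernel

/-- First kind: `59` goes to the largest class, and every small involution commuting with `59` is moved off. -/
theorem candA_ok : (candA.all fun t => clsC.contains (fD t 59) && [189, 152].all fun x =>
    (List.range 192).any fun h => Nat.beq (cjH h x) 189 && clsC.contains (fD t (fD t (cjH h 59)))) = true := by
  decide +kernel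

/-- The node of a word in two nodes and their inverses. -/
noncomputable def alN (r1 s1 : Nat) (i : Nat) : Nat :=
  ((pth i).map fun l => ([r1, invH r1, s1, invH s1] : List Nat).getD l 0).foldl mH 0

/-- Second kind: the new generators of the centralizer bring the images to the standard ones. -/
theorem candB_ok : (candB.all fun c =>
    let r1 := c.2.1.1; let s1 := c.2.1.2
    Nat.blt r1 192 && Nat.blt s1 192 &&
      relsH.all (fun w => Nat.beq ((w.map fun l => ([r1, invH r1, s1, invH s1] : List Nat).getD l 0).foldl mH 0) 0) &&
      Nat.blt c.2.2.1 192 && Nat.blt c.2.2.2 192 &&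
      Nat.beq (alN r1 s1 c.2.2.1) 1 && Nat.beq (alN r1 s1 c.2.2.2) 3 &&
      Nat.beq (alN r1 s1 41) 41 && Nat.beq (alN r1 s1 189) 189 &&
      Nat.beq (fD c.1 (alN r1 s1 8)) (alN r1 s1 134) && Nat.beq (fD c.1 (alN r1 s1 37)) (alN r1 s1 158) &&
      Nat.beq (fD c.1 (alN r1 s1 59)) (alN r1 s1 59)) = true := by
  decide +kernel

/-- The standard images. -/
def phi0 : Nat × Nat × Nat := (134, 158, 59)

theorem phi0_ok : fD phi0 164 ∈ clsC ∧ fD phi0 59 = 59 ∧ fD phi0 41 = 189 ∧ fD phi0 189 = 152 ∧
    fD phi0 152 = 41 ∧ 164 ∈ clsA := by
  decide +kernel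

/-- The elements outside `nD` that may invert the element of order three. -/
theorem phi0_tau : (nT.all fun t => nD.contains t || t == 167 || t == 52 || t == 190 || t == 147 ||
    Nat.beq (mH t t) 41 ||
    !([8, 37, 59].all fun y => Nat.beq (cjH t (fD phi0 y)) (fD phi0 (fD phi0 (cjH t y))))) = true ∧
    [0, 41, 189, 152].any (fun v => Nat.beq (cjH v 52) 167) = true ∧
    [0, 41, 189, 152].any (fun v => Nat.beq (cjH v (mH 190 59)) 167) = true ∧
    [0, 41, 189, 152].any (fun v => Nat.beq (cjH v (mH 147 59)) 167) = true ∧
    ([41, 189, 152].all fun v => nD.all fun y => comH v y) = true := by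
  decide +kernel

end CfsgLib.M12U
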