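import Cfsg.Agent.M12U.Fusion
import Cfsg.Agent.Invol.BrauerFowler
import Mathlib.GroupTheory.GroupAction.Quotient

/-!
Counting pairs of involutions through the involution in the cyclic group of their product.
-/

set_option autoImplicit false
set_option linter.style.haveILetI false
set_option linter.unusedSectionVars false
set_option maxRecDepth 100000

namespace CfsgLib.M12U

open CfsgLib.Coset CfsgLib.Invol

variable {G : Type*} [Group G]

/-- Both involutions commute with an involution among the powers of their product. -/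
theorem commute_of_mem_zpowers {p q j : G} (hp : orderOf p = 2) (hq : orderOf q = 2) (hj : orderOf j = 2)
    (hmem : j ∈ Subgroup.zpowers (p * q)) : p * j = j * p ∧ q * j = j * q := by
  obtain ⟨k, rfl⟩ := Subgroup.mem_zpowers_iff.mp hmem
  have h1 : p * (p * q) ^ k * p⁻¹ = (p * q) ^ k := by
    rw [conj_zpow_of_inverts (conj_mul_inv hp hq), zpow_neg, Invol.inv_eq_self hj]
  have h2 : q * (p * q) ^ k * q⁻¹ = (p * q) ^ k := by
    have hq' : q * (p * q) * q⁻¹ = (p * q)⁻¹ := by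
      rw [mul_inv_rev_invol hp hq, mul_assoc q, mul_assoc p, mul_inv_cancel, mul_one]
    rw [conj_zpow_of_inverts hq', zpow_neg, Invol.inv_eq_self hj]
  exact ⟨mul_inv_eq_iff_eq_mul.mp h1, mul_inv_eq_iff_eq_mul.mp h2⟩

/-- Pairs of involutions from two sets without common conjugates, sorted by the involution of their product. -/
theorem pair_count [Finite G] (A B J : Finset G) (hA : ∀ p ∈ A, orderOf p = 2) (hB : ∀ q ∈ B, orderOf q = 2)
    (hAB : ∀ p ∈ A, ∀ q ∈ B, ¬ IsConj p q) (hJ : ∀ j ∈ J, orderOf j = 2)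
    (hcov : ∀ p ∈ A, ∀ q ∈ B, ∀ j : G, orderOf j = 2 → j ∈ Subgroup.zpowers (p * q) → j ∈ J) :
    A.card * B.card = ∑ j ∈ J, Nat.card {x : G × G // x.1 ∈ A ∧ x.2 ∈ B ∧ j ∈ Subgroup.zpowers (x.1 * x.2)} := by
  classical
  let f : G × G → G := fun x => (x.1 * x.2) ^ (orderOf (x.1 * x.2) / 2)
  have hf : ∀ x ∈ A ×ˢ B, orderOf (f x) = 2 ∧ f x ∈ Subgroup.zpowers (x.1 * x.2) := by
    intro x hx
    obtain ⟨h1, h2⟩ := Finset.mem_product.mp hx
    exact ⟨(half_props (hA _ h1) (hB _ h2) (even_orderOf_mul_of_not_isConj (hA _ h1) (hB _ h2) (hAB _ h1 _ h2))).1,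
      pow_mem (Subgroup.mem_zpowers _) _⟩
  have huniq : ∀ a j j' : G, orderOf j = 2 → orderOf j' = 2 → j ∈ Subgroup.zpowers a → j' ∈ Subgroup.zpowers a → j = j' := by
    intro a j j' hj hj' hja hj'a
    have key : ∀ b : G, orderOf b = 2 → b ∈ Subgroup.zpowers a → b = a ^ (orderOf a / 2) := by
      intro b hb hba
      have hd : 2 ∣ orderOf a := hb ▸ orderOf_dvd_of_mem_zpowers hba
      obtain ⟨k, rfl⟩ := (mem_powers_iff_mem_zpowers.2 hba : b ∈ Submonoid.powers a)
      obtain ⟨m, hm⟩ := hd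
      have h0 : orderOf a ∣ k * 2 :=
        orderOf_dvd_of_pow_eq_one (by rw [pow_mul, sq]; exact Invol.mul_self_eq_one hb)
      rw [hm, mul_comm 2 m] at h0
      obtain ⟨c, rfl⟩ := Nat.dvd_of_mul_dvd_mul_right two_pos h0
      rcases Nat.even_or_odd c with ⟨d, rfl⟩ | ⟨d, rfl⟩
      · exfalso
        refine Invol.ne_one hb ?_
        show a ^ (m * (d + d)) = 1
        rw [show m * (d + d) = orderOf a * d by rw [hm]; ring, pow_mul, pow_orderOf_eq_one, one_pow]
      · show a ^ (m * (2 * d + 1)) = a ^ (orderOf a / 2)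
        rw [show m * (2 * d + 1) = orderOf a * d + orderOf a / 2 by
            rw [hm, Nat.mul_div_cancel_left _ two_pos]; ring,
          pow_add, pow_mul, pow_orderOf_eq_one, one_pow, one_mul]
    exact (key j hj hja).trans (key j' hj' hj'a).symm
  rw [← Finset.card_product, Finset.card_eq_sum_card_fiberwise (f := f) (t := J) fun x hx => ?_]
  · refine Finset.sum_congr rfl fun j hj => ?_
    rw [← Fintype.card_coe, ← Nat.card_eq_fintype_card]
    refine Nat.card_congr (Equiv.subtypeEquivRight fun x => ?_)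
    simp only [Finset.mem_filter, Finset.mem_product]
    constructor
    · rintro ⟨⟨h1, h2⟩, he⟩
      exact ⟨h1, h2, he ▸ (hf x (Finset.mem_product.mpr ⟨h1, h2⟩)).2⟩
    · rintro ⟨h1, h2, hm⟩
      obtain ⟨g1, g2⟩ := hf x (Finset.mem_product.mpr ⟨h1, h2⟩)
      exact ⟨⟨h1, h2⟩, huniq _ _ _ g1 (hJ j hj) g2 hm⟩
  · obtain ⟨g1, g2⟩ := hf x hx
    obtain ⟨h1, h2⟩ := Finset.mem_product.mp hx
    exact hcov _ h1 _ h2 _ g1 g2

/-- The pairs from two node lists whose product has the node `j` among its powers. -/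
noncomputable def pairN (l1 l2 : List Nat) (j : Nat) : List (Nat × Nat) :=
  ((l1.flatMap fun x => l2.map fun y => (x, y))).filter fun p => powN j (mH p.1 p.2)

theorem exp_eight : ((List.range 192).all fun w =>
    (List.range 9).any fun k => !(k == 0) && Nat.beq ((List.replicate k w).foldl mH 0) 0) = true := by
  decide +kernel

namespace Loc

variable {z r s : G} (L : Loc z r s)

include L

theorem el_pow {w : Nat} (hw : w < 192) (k : Nat) :
    (List.replicate k w).foldl mH 0 < 192 ∧ el r s ((List.replicate k w).foldl mH 0) = el r s w ^ k := by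
  have h : ∀ (l : List Nat) (acc : Nat), acc < 192 → (∀ i ∈ l, i < 192) →
      l.foldl mH acc < 192 ∧ el r s (l.foldl mH acc) = el r s acc * (l.map (el r s)).prod := by
    intro l
    induction l with
    | nil => intro acc ha _; exact ⟨ha, by simp⟩
    | cons i l ih =>
      intro acc ha hl
      have hi := hl i (List.mem_cons_self ..)
      obtain ⟨h1, h2⟩ := ih (mH acc i) (L.mH_lt ha hi) fun j hj => hl j (List.mem_cons_of_mem _ hj)
      refine ⟨h1, ?_⟩
      rw [List.foldl_cons, h2, ← L.el_mul ha hi, List.map_cons, List.prod_cons, mul_assoc]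
  obtain ⟨h1, h2⟩ := h _ 0 (by norm_num) fun i hi => (List.eq_of_mem_replicate hi).symm ▸ hw
  exact ⟨h1, by rw [h2, L.el_zero, one_mul, List.map_replicate, List.prod_replicate]⟩

theorem powN_iff {j w : Nat} (hj : j < 192) (hw : w < 192) :
    powN j w = true ↔ el r s j ∈ Subgroup.zpowers (el r s w) := by
  unfold powN
  simp only [List.any_eq_true, List.mem_range, Nat.beq_eq]
  constructor
  · rintro ⟨k, -, hk⟩
    rw [← hk, (L.el_pow hw k).2]
    exact pow_mem (Subgroup.mem_zpowers _) k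
  · intro hm
    obtain ⟨m, hm1, hm2⟩ := List.any_eq_true.mp (List.all_eq_true.mp exp_eight w (List.mem_range.mpr hw))
    rw [Bool.and_eq_true, Nat.beq_eq] at hm2
    have hm0 : m ≠ 0 := by simpa using hm2.1
    have hpow : el r s w ^ m = 1 := by rw [← (L.el_pow hw m).2, hm2.2, L.el_zero]
    obtain ⟨n, hn⟩ : ∃ n : ℕ, el r s w ^ n = el r s j := by
      have hfin : IsOfFinOrder (el r s w) := isOfFinOrder_iff_pow_eq_one.mpr ⟨m, Nat.pos_of_ne_zero hm0, hpow⟩
      exact ((IsOfFinOrder.mem_powers_iff_mem_zpowers hfin).mpr hm)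
    have hm9 : m < 9 := List.mem_range.mp hm1
    refine ⟨n % m, lt_trans (Nat.mod_lt _ (Nat.pos_of_ne_zero hm0)) hm9, ?_⟩
    refine L.el_inj (L.el_pow hw _).1 hj ?_
    rw [(L.el_pow hw _).2, ← hn, ← pow_mod_natCard_aux hpow n]
where
  pow_mod_natCard_aux {m : ℕ} {x : G} (h : x ^ m = 1) (n : ℕ) : x ^ (n % m) = x ^ n := by
    conv_rhs => rw [← Nat.mod_add_div n m, pow_add, pow_mul, h, one_pow, mul_one]

/-- A set of pairs of the centralizer counted by nodes. -/
theorem card_pairs [Finite G] {l1 l2 : List Nat} {j : Nat} (hj : j < 192) (h1 : ∀ x ∈ l1, x < 192)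
    (h2 : ∀ x ∈ l2, x < 192) (hn1 : l1.Nodup) (hn2 : l2.Nodup) {P : G × G → Prop}
    (hP : ∀ q : G × G, P q ↔ (∃ x ∈ l1, q.1 = el r s x) ∧ (∃ y ∈ l2, q.2 = el r s y) ∧ el r s j ∈ Subgroup.zpowers (q.1 * q.2)) :
    Nat.card {q : G × G // P q} = (pairN l1 l2 j).length := by
  classical
  have hmem : ∀ {p : Nat × Nat}, p ∈ (pairN l1 l2 j).toFinset →
      p.1 ∈ l1 ∧ p.2 ∈ l2 ∧ powN j (mH p.1 p.2) = true := by
    intro p hp
    simp only [pairN, List.mem_toFinset, List.mem_filter, List.mem_flatMap, List.mem_map] at hp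
    obtain ⟨⟨x, hx, y, hy, rfl⟩, hp2⟩ := hp
    exact ⟨hx, hy, hp2⟩
  let f : (pairN l1 l2 j).toFinset → {q : G × G // P q} := fun p =>
    ⟨(el r s p.1.1, el r s p.1.2), (hP _).mpr ⟨⟨_, (hmem p.2).1, rfl⟩, ⟨_, (hmem p.2).2.1, rfl⟩, by
      rw [L.el_mul (h1 _ (hmem p.2).1) (h2 _ (hmem p.2).2.1)]
      exact (L.powN_iff hj (L.mH_lt (h1 _ (hmem p.2).1) (h2 _ (hmem p.2).2.1))).mp (hmem p.2).2.2⟩⟩
  have hf : Function.Bijective f := by
    refine ⟨fun a b h => Subtype.ext (Prod.ext ?_ ?_), ?_⟩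
    · exact L.el_inj (h1 _ (hmem a.2).1) (h1 _ (hmem b.2).1) (congrArg (fun q => q.1.1) h)
    · exact L.el_inj (h2 _ (hmem a.2).2.1) (h2 _ (hmem b.2).2.1) (congrArg (fun q => q.1.2) h)
    rintro ⟨q, hq⟩
    obtain ⟨⟨x, hx, hxe⟩, ⟨y, hy, hye⟩, hm⟩ := (hP q).mp hq
    have hin : (x, y) ∈ (pairN l1 l2 j).toFinset := by
      simp only [pairN, List.mem_toFinset, List.mem_filter, List.mem_flatMap, List.mem_map]
      rw [hxe, hye, L.el_mul (h1 x hx) (h2 y hy)] at hm
      exact ⟨⟨x, hx, y, hy, rfl⟩, (L.powN_iff hj (L.mH_lt (h1 x hx) (h2 y hy))).mpr hm⟩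
    exact ⟨⟨(x, y), hin⟩, Subtype.ext (Prod.ext hxe.symm hye.symm)⟩
  rw [← Nat.card_eq_of_bijective f hf, Nat.card_eq_fintype_card, Fintype.card_coe,
    List.toFinset_card_of_nodup]
  refine List.Nodup.filter _ (List.nodup_flatMap.mpr ⟨fun x _ => hn2.map (Prod.mk_right_injective x), ?_⟩)
  refine hn1.imp ?_
  intro a b hab p hpa hpb
  obtain ⟨_, -, rfl⟩ := List.mem_map.mp hpa
  obtain ⟨_, -, e⟩ := List.mem_map.mp hpb
  exact hab (Prod.mk.inj e).1.symm

end Loc

end CfsgLib.M12U
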