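import Cfsg.Agent.M12U.Triple
import Cfsg.Agent.M12U.Counting
import Mathlib.Data.Nat.Factorial.Basic

/-!
The first kind of action does not occur: it would give a group of order 1344.
-/

set_option autoImplicit false
set_option linter.style.haveILetI false
set_option linter.unusedSectionVars false
set_option maxRecDepth 100000

namespace CfsgLib.M12U

open CfsgLib.Coset CfsgLib.Invol

variable {G : Type*} [Group G] {z r s : G}

namespace Loc

variable (L : Loc z r s) [Finite G] (hG : Fused z)

include L hG

theorem caseA_closed {g : G} {t : Nat × Nat × Nat} (ht : t ∈ candA) (h3 : g ^ 3 = 1)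
    (hact : ∀ y ∈ nD, g * el r s y * g⁻¹ = el r s (fD t y)) :
    ∀ x, IsConj z x → x * z = z * x → ∃ i ∈ 41 :: clsA, x = el r s i := by
  classical
  haveI := Fintype.ofFinite G
  have htA := List.all_eq_true.mp candA_ok t ht
  simp only [Bool.and_eq_true, List.contains_iff_mem, List.all_eq_true] at htA
  obtain ⟨hbC, hmove⟩ := htA
  have htlt : t.1 < 192 ∧ t.2.1 < 192 ∧ t.2.2 < 192 := by
    have := List.all_eq_true.mp candB_mem t ht
    simp only [Bool.and_eq_true, Nat.blt_eq] at this
    exact ⟨this.1.1, this.1.2, this.2⟩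
  have hbc : IsConj (el r s 59) (el r s 124) :=
    (isConj_iff.mpr ⟨g, hact 59 (by decide)⟩ : IsConj (el r s 59) (el r s (fD t 59))).trans (L.isConj_C hbC).symm
  have hz_notC : ∀ {i}, i ∈ clsC → ¬ IsConj z (el r s i) := fun hi h =>
    L.not_conj_b ((h.trans (L.isConj_C hi).symm).trans hbc.symm)
  have hza := L.conj_a hG
  have zclass : ∀ {i}, i ∈ 41 :: (clsA ++ clsB ++ clsC) → (IsConj z (el r s i) ↔ i ∈ 41 :: clsA) := by
    intro i hi
    simp only [List.mem_cons, List.mem_append] at hi ⊢
    rcases hi with rfl | (h | h) | h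
    · exact ⟨fun _ => Or.inl rfl, fun _ => L.z_eq ▸ IsConj.refl z⟩
    · exact ⟨fun _ => Or.inr h, fun _ => hza.trans (L.isConj_A h)⟩
    · exact ⟨fun hc => absurd hc (L.not_conj_B h), fun hm => hm.elim
        (fun e => absurd (e ▸ h : (41 : Nat) ∈ clsB) (by decide))
        (fun hA => absurd hA (List.all_eq_true.mp
          (show (clsB.all fun i => !(clsA.contains i)) = true by decide) i h |> fun e => by simpa using e))⟩
    · exact ⟨fun hc => absurd hc (hz_notC h), fun hm => hm.elim
        (fun e => absurd (e ▸ h : (41 : Nat) ∈ clsC) (by decide))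
        (fun hA => absurd hA (List.all_eq_true.mp
          (show (clsC.all fun i => !(clsA.contains i)) = true by decide) i h |> fun e => by simpa using e))⟩
  intro x hx hxz
  obtain ⟨q, rfl⟩ := isConj_iff.mp hx
  obtain ⟨i, hi, hie⟩ := L.invol_node hxz ((Invol.orderOf_conj_eq q z).trans L.zord)
  exact ⟨i, (zclass hi).mp (hie ▸ isConj_iff.mpr ⟨q, rfl⟩), hie⟩

end Loc

end CfsgLib.M12U
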