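import Cfsg.Agent.M12U.Local
import Cfsg.Agent.M12U.Tools
import Mathlib.GroupTheory.Subgroup.Simple

/-!
Fusion of involutions and the element of order three moving the central involution.
-/

set_option autoImplicit false
set_option linter.style.haveILetI false
set_option maxRecDepth 100000

namespace CfsgLib.M12U

open CfsgLib.Coset CfsgLib.Invol

theorem nT_self : ((List.range 192).all fun j => nT.contains j || !(nT.all fun i => nT.contains (cjH j i))) = true := by
  decide +kernel

theorem centN_cls : (clsA.all fun i => centN i == 32) = true ∧ (clsB.all fun i => centN i == 16) = true ∧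
    (clsC.all fun i => centN i == 8) = true := by decide +kernel

theorem nD_exp : (nD.all fun d => mH (mH (mH d d) (mH d d)) (mH (mH d d) (mH d d)) == 0) = true := by
  decide +kernel

theorem eP_ok : (nE.all fun img => Nat.beq (eP 1 0 0 41 124 img) 41 && Nat.beq (eP 0 1 0 41 124 img) 124) = true := by
  decide +kernel

theorem small_ok : mH 41 124 ≠ 174 ∧ invN 174 = true ∧ comH 174 124 = true ∧ mH 189 41 = 152 ∧
    mH 189 152 = 41 := by decide +kernel

theorem invN_iff (i : Nat) : invN i = true ↔ i ≠ 0 ∧ mH i i = 0 := by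
  simp [invN, ← Bool.not_eq_true, Nat.beq_eq]

theorem evD_lt_aux {t : Nat × Nat × Nat} (ht : t.1 < 192 ∧ t.2.1 < 192 ∧ t.2.2 < 192) (l : Nat) : sel3 t l < 192 := by
  match l with
  | 0 => exact ht.1
  | 1 => exact ht.2.1
  | _ + 2 => exact ht.2.2

/-- The involution is not isolated. -/
def Fused {G : Type*} [Group G] (z : G) : Prop := ¬ Cfsg.IsIsolatedInvolution z

variable {G : Type*} [Group G] {z r s : G}

namespace Loc

variable (L : Loc z r s)

include L

theorem commute_z (i : Nat) : el r s i * z = z * el r s i :=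
  Subgroup.mem_centralizer_singleton_iff.mp (L.el_mem i)

theorem el_comm {i j : Nat} (hi : i < 192) (hj : j < 192) (h : comH i j = true) :
    el r s i * el r s j = el r s j * el r s i := (L.el_commute_iff hi hj).mpr h

theorem cls_lt {i : Nat} (h : i ∈ 41 :: (clsA ++ clsB ++ clsC)) : i < 192 ∧ invN i = true := by
  simpa using List.all_eq_true.mp cls_invs i h

theorem ord_invN {i : Nat} (hi : i < 192) (h : invN i = true) : orderOf (el r s i) = 2 :=
  (L.orderOf_two_iff hi).mpr ((invN_iff i).mp h)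

theorem invN_ord {i : Nat} (hi : i < 192) (h : orderOf (el r s i) = 2) : invN i = true :=
  (invN_iff i).mpr ((L.orderOf_two_iff hi).mp h)

theorem ord_cls {i : Nat} (h : i ∈ 41 :: (clsA ++ clsB ++ clsC)) : orderOf (el r s i) = 2 :=
  L.ord_invN (L.cls_lt h).1 (L.cls_lt h).2

theorem zord : orderOf z = 2 := by
  rw [L.z_eq]; exact L.ord_cls (List.mem_cons_self ..)

theorem zz : z * z = 1 := mul_self_eq_one L.zord

theorem invol_node {x : G} (hx : x * z = z * x) (h2 : orderOf x = 2) :
    ∃ i ∈ 41 :: (clsA ++ clsB ++ clsC), x = el r s i := by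
  obtain ⟨i, hi, rfl⟩ := L.el_mem_of_commute hx
  exact ⟨i, invs_ok i hi (L.invN_ord hi h2), rfl⟩

theorem conj_witness {l : List Nat} {rep : Nat} (hrep : rep < 192)
    (hl : (l.all fun x => (List.range 192).any fun h => Nat.beq (cjH h rep) x) = true) {i : Nat} (hi : i ∈ l) :
    ∃ h < 192, el r s h * el r s rep * (el r s h)⁻¹ = el r s i := by
  obtain ⟨h, hh, he⟩ := List.any_eq_true.mp (List.all_eq_true.mp hl i hi)
  exact ⟨h, List.mem_range.mp hh, by rw [L.el_conj (List.mem_range.mp hh) hrep, Nat.eq_of_beq_eq_true he]⟩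

theorem isConj_A {i : Nat} (hi : i ∈ clsA) : IsConj (el r s 189) (el r s i) :=
  let ⟨h, _, he⟩ := L.conj_witness (by norm_num) clsA_conj hi; isConj_iff.mpr ⟨_, he⟩

theorem isConj_B {i : Nat} (hi : i ∈ clsB) : IsConj (el r s 59) (el r s i) :=
  let ⟨h, _, he⟩ := L.conj_witness (by norm_num) clsB_conj hi; isConj_iff.mpr ⟨_, he⟩

theorem isConj_C {i : Nat} (hi : i ∈ clsC) : IsConj (el r s 124) (el r s i) :=
  let ⟨h, _, he⟩ := L.conj_witness (by norm_num) clsC_conj hi; isConj_iff.mpr ⟨_, he⟩

theorem card_cent2 [Finite G] {i : Nat} (hi : i < 192) :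
    Nat.card {y : G // y * z = z * y ∧ y * el r s i = el r s i * y} = centN i := by
  classical
  set S := ((List.range 192).filter fun j => comH i j).toFinset with hS
  have hmem : ∀ {j : Nat}, j ∈ S → j < 192 ∧ comH i j = true := fun h => by simpa [hS] using h
  let f : S → {y : G // y * z = z * y ∧ y * el r s i = el r s i * y} := fun j =>
    ⟨el r s j, L.commute_z j, (L.el_comm hi (hmem j.2).1 (hmem j.2).2).symm⟩
  have hf : Function.Bijective f := by
    refine ⟨fun a b h => Subtype.ext (L.el_inj (hmem a.2).1 (hmem b.2).1 (congrArg Subtype.val h)), ?_⟩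
    rintro ⟨y, hy, hyi⟩
    obtain ⟨j, hj, rfl⟩ := L.el_mem_of_commute hy
    exact ⟨⟨j, by simpa [hS, hj] using (L.el_commute_iff hi hj).mp hyi.symm⟩, rfl⟩
  rw [← Nat.card_eq_of_bijective f hf, Nat.card_eq_fintype_card, Fintype.card_coe, hS,
    List.toFinset_card_of_nodup (List.nodup_range.filter _)]
  rfl

/-- A conjugate of `z` in the centralizer can be exchanged with `z`. -/
theorem swap [Finite G] {i : Nat} (hi : i ∈ clsA ++ clsB ++ clsC) (hc : IsConj z (el r s i)) :
    ∃ g : G, g * z * g⁻¹ = el r s i ∧ g * el r s i * g⁻¹ = z := by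
  obtain ⟨g₀, hg₀⟩ := isConj_iff.mp hc.symm
  have hlt := (L.cls_lt (List.mem_cons_of_mem _ hi)).1
  have hcomm : g₀ * z * g₀⁻¹ * z = z * (g₀ * z * g₀⁻¹) := by
    have h : (g₀ * z * g₀⁻¹) * (g₀ * el r s i * g₀⁻¹) = (g₀ * el r s i * g₀⁻¹) * (g₀ * z * g₀⁻¹) := by
      rw [conj_mul, conj_mul, ← L.commute_z i]
    rwa [hg₀] at h
  obtain ⟨j, hj, hje⟩ := L.invol_node hcomm ((orderOf_conj_eq _ _).trans L.zord)
  have hjlt := (L.cls_lt hj).1
  have hcard : centN j = centN i := by
    rw [← L.card_cent2 hjlt, ← L.card_cent2 hlt, ← hje]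
    refine (Nat.card_congr (Equiv.subtypeEquiv (MulAut.conj g₀).toEquiv fun y => ?_)).symm
    show _ ↔ MulAut.conj g₀ y * z = z * MulAut.conj g₀ y ∧ MulAut.conj g₀ y * MulAut.conj g₀ z = MulAut.conj g₀ z * MulAut.conj g₀ y
    have hz' : MulAut.conj g₀ (el r s i) = z := hg₀
    conv_rhs => arg 1; rw [← hz', ← map_mul, ← map_mul, (MulAut.conj g₀).injective.eq_iff]
    rw [← map_mul, ← map_mul, (MulAut.conj g₀).injective.eq_iff]
    exact and_comm
  have hne : j ≠ 41 := by
    rintro rfl
    have h41 : centN 41 = centN i := hcard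
    rw [cent_sizes.1] at h41
    obtain ⟨hA, hB, hC⟩ := centN_cls
    simp only [List.mem_append] at hi
    rcases hi with (h | h) | h
    · have := List.all_eq_true.mp hA i h; rw [← h41] at this; simp at this
    · have := List.all_eq_true.mp hB i h; rw [← h41] at this; simp at this
    · have := List.all_eq_true.mp hC i h; rw [← h41] at this; simp at this
  have hsame : ∃ h < 192, el r s h * el r s j * (el r s h)⁻¹ = el r s i := by
    obtain ⟨hA, hB, hC⟩ := centN_cls
    have hj' : j ∈ clsA ++ clsB ++ clsC := (List.mem_cons.mp hj).resolve_left hne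
    simp only [List.mem_append] at hi hj'
    have key : ∀ {l : List Nat} {rep : Nat}, rep < 192 →
        (l.all fun x => (List.range 192).any fun h => Nat.beq (cjH h rep) x) = true → i ∈ l → j ∈ l →
        ∃ h < 192, el r s h * el r s j * (el r s h)⁻¹ = el r s i := by
      intro l rep hrep hl hil hjl
      obtain ⟨p, hp, hpe⟩ := L.conj_witness hrep hl hil
      obtain ⟨q, hq, hqe⟩ := L.conj_witness hrep hl hjl
      refine ⟨mH p (invH q), L.mH_lt hp (L.invH_lt hq), ?_⟩
      rw [← L.el_mul hp (L.invH_lt hq), ← L.el_inv hq, ← hpe, ← hqe]; group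
    have eA : ∀ {k}, k ∈ clsA → centN k = 32 := fun h => by simpa using List.all_eq_true.mp hA _ h
    have eB : ∀ {k}, k ∈ clsB → centN k = 16 := fun h => by simpa using List.all_eq_true.mp hB _ h
    have eC : ∀ {k}, k ∈ clsC → centN k = 8 := fun h => by simpa using List.all_eq_true.mp hC _ h
    rcases hi with (h | h) | h <;> rcases hj' with (h' | h') | h'
    all_goals first
      | exact key (by norm_num) clsA_conj h h'
      | exact key (by norm_num) clsB_conj h h'
      | exact key (by norm_num) clsC_conj h h'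
      | (exfalso
         first
          | rw [eA h] at hcard
          | rw [eB h] at hcard
          | rw [eC h] at hcard
         first
          | rw [eA h'] at hcard
          | rw [eB h'] at hcard
          | rw [eC h'] at hcard
         omega)
  obtain ⟨h, -, he⟩ := hsame
  refine ⟨el r s h * g₀, ?_, ?_⟩
  · rw [← he, ← hje]; group
  · calc el r s h * g₀ * el r s i * (el r s h * g₀)⁻¹
        = el r s h * (g₀ * el r s i * g₀⁻¹) * (el r s h)⁻¹ := by group
      _ = z := by rw [hg₀, L.commute_z, mul_inv_cancel_right]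

/-- The smallest class and `59` are distinguished by square roots. -/
theorem not_conj_b [Finite G] : ¬ IsConj z (el r s 59) := by
  intro hc
  obtain ⟨g, hg, hg'⟩ := L.swap (by decide) hc
  obtain ⟨w, hw, hw'⟩ := List.any_eq_true.mp square_ok.1
  rw [Bool.and_eq_true] at hw'
  have hwlt := List.mem_range.mp hw
  have hcomm : g * el r s w * g⁻¹ * z = z * (g * el r s w * g⁻¹) := by
    rw [← hg', conj_mul, conj_mul, L.el_comm hwlt (by norm_num) hw'.1]
  obtain ⟨v, hv, hve⟩ := L.el_mem_of_commute hcomm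
  have h2 : el r s v * el r s v = el r s 59 := by
    rw [← hve, conj_mul, L.el_mul hwlt hwlt, Nat.eq_of_beq_eq_true hw'.2, ← L.z_eq, hg]
  rw [L.el_mul hv hv] at h2
  have := L.el_inj (L.mH_lt hv hv) (by norm_num) h2
  have h3 := List.all_eq_true.mp square_ok.2 v (List.mem_range.mpr hv)
  rw [this] at h3
  simp at h3

theorem not_conj_B [Finite G] {i : Nat} (hi : i ∈ clsB) : ¬ IsConj z (el r s i) :=
  fun h => L.not_conj_b (h.trans (L.isConj_B hi).symm)

theorem el_eP {g : G} {x y w x' y' w' : Nat} (hx : x < 192) (hy : y < 192) (hw : w < 192)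
    (hx' : x' < 192) (hy' : y' < 192) (hw' : w' < 192) (ex : g * el r s x * g⁻¹ = el r s x')
    (ey : g * el r s y * g⁻¹ = el r s y') (ew : g * el r s w * g⁻¹ = el r s w') (i j k : Nat) :
    g * el r s (eP i j k x y w) * g⁻¹ = el r s (eP i j k x' y' w') := by
  have e0 : g * el r s 0 * g⁻¹ = el r s 0 := by rw [L.el_zero, mul_one, mul_inv_cancel]
  have h0 : 0 < 192 := by norm_num
  unfold eP
  split_ifs <;>
    simp only [← L.el_mul, L.mH_lt, h0, hx, hy, hw, hx', hy', hw', ← conj_mul, e0, ex, ey, ew]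

/-- If the largest class meets the class of `z`, so does the smallest. -/
theorem conj_a_of_conj_c [Finite G] (hc : IsConj z (el r s 124)) : IsConj z (el r s 189) := by
  obtain ⟨g, hg, hg'⟩ := L.swap (by decide) hc
  obtain ⟨hE, hEok⟩ := nE_ok
  have h124 : (124 : Nat) < 192 := by norm_num
  have h174 : (174 : Nat) < 192 := by norm_num
  have h41 : (41 : Nat) < 192 := by norm_num
  have c1 : g * el r s 174 * g⁻¹ * z = z * (g * el r s 174 * g⁻¹) := by
    rw [← hg', conj_mul, conj_mul, L.el_comm h174 h124 small_ok.2.2.1]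
  obtain ⟨img, himg, himge⟩ := L.el_mem_of_commute c1
  have c2 : el r s img * el r s 124 = el r s 124 * el r s img := by
    rw [← himge, ← hg, conj_mul, conj_mul, L.commute_z]
  have hin : img ∈ nE := by
    have := List.all_eq_true.mp hE img (List.mem_range.mpr himg)
    rw [(L.el_commute_iff himg h124).mp c2] at this
    simpa using this
  have ez : g * el r s 41 * g⁻¹ = el r s 124 := by rw [← L.z_eq, hg]
  have ec : g * el r s 124 * g⁻¹ = el r s 41 := by rw [← L.z_eq, hg']
  have hne : ∀ p q : Nat, p < 192 → q < 192 → g * el r s p * g⁻¹ = el r s q → p ≠ 174 → img ≠ q := by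
    rintro p q hp hq he hp' rfl
    exact hp' (L.el_inj hp h174 (mul_left_cancel (mul_right_cancel (he.trans himge.symm))))
  have n0 : img ≠ 0 := hne 0 0 (by norm_num) (by norm_num) (by rw [L.el_zero, mul_one, mul_inv_cancel]) (by norm_num)
  have n1 : img ≠ 124 := hne 41 124 h41 h124 ez (by norm_num)
  have n2 : img ≠ 41 := hne 124 41 h124 h41 ec (by norm_num)
  have n3 : img ≠ mH 41 124 := hne (mH 41 124) (mH 41 124) (L.mH_lt h41 h124) (L.mH_lt h41 h124)
    (by rw [← L.el_mul h41 h124, ← conj_mul, ez, ec, ← L.z_eq, L.commute_z]) small_ok.1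
  have key := List.all_eq_true.mp hEok img hin
  obtain ⟨e1, e2⟩ : eP 1 0 0 41 124 img = 41 ∧ eP 0 1 0 41 124 img = 124 := by
    simpa [Nat.beq_eq] using List.all_eq_true.mp eP_ok img hin
  rw [e1, e2] at key
  simp only [Bool.or_eq_true, beq_iff_eq, List.any_eq_true, List.mem_range, Bool.and_eq_true,
    List.contains_iff_mem] at key
  rcases key with (((k | k) | k) | k) | ⟨h, hh, i, -, j, -, k, -, he, hA⟩
  · exact absurd k.symm n2
  · exact absurd k.symm n1
  · exact absurd k n0
  · exact absurd k n3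
  · have hmap := L.el_eP h41 h124 h174 h124 h41 himg ez ec himge i j k
    rw [Nat.eq_of_beq_eq_true he, ← L.el_conj hh h124] at hmap
    refine hc.trans ((isConj_iff.mpr ⟨g * el r s h, ?_⟩ : IsConj (el r s 124) _).trans (L.isConj_A hA).symm)
    rw [← hmap]; group

variable [Finite G] (hG : Fused z)

include hG

theorem conj_a : IsConj z (el r s 189) := by
  by_contra hna
  have hiso : Cfsg.IsIsolatedInvolution z := by
    refine ⟨L.zord, fun g hg => ?_⟩
    obtain ⟨i, hi, hie⟩ := L.invol_node hg.eq.symm ((orderOf_conj_eq _ _).trans L.zord)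
    have hc : IsConj z (el r s i) := hie ▸ isConj_iff.mpr ⟨g, rfl⟩
    simp only [List.mem_cons, List.mem_append] at hi
    rcases hi with rfl | (h | h) | h
    · rw [hie, ← L.z_eq]
    · exact absurd (hc.trans (L.isConj_A h).symm) hna
    · exact absurd hc (L.not_conj_B h)
    · exact absurd (L.conj_a_of_conj_c (hc.trans (L.isConj_C h).symm)) hna
  exact hG hiso

/-- An element of order three moving `z` to `189`. -/
theorem exists_three : ∃ g : G, g ^ 3 = 1 ∧ g * z * g⁻¹ = el r s 189 ∧ g * el r s 189 * g⁻¹ = el r s 152 := by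
  obtain ⟨g₁, h₁, h₁'⟩ := L.swap (by decide) (L.conj_a hG)
  obtain ⟨t1, t2, -, -, t5, t6, t7⟩ := tau_ok
  have l1 : (189 : Nat) < 192 := by norm_num
  have l2 : (152 : Nat) < 192 := by norm_num
  have l3 : (167 : Nat) < 192 := by norm_num
  have l4 : (41 : Nat) < 192 := by norm_num
  set u := g₁ * el r s 167 with hu
  have huz : u * z * u⁻¹ = el r s 189 := by
    rw [hu, mul_inv_rev]
    calc _ = g₁ * (el r s 167 * z * (el r s 167)⁻¹) * g₁⁻¹ := by group
      _ = el r s 189 := by rw [L.z_eq, L.el_conj l3 l4, t2, ← L.z_eq, h₁]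
  have hua : u * el r s 189 * u⁻¹ = el r s 152 := by
    rw [hu, mul_inv_rev]
    calc _ = g₁ * (el r s 167 * el r s 189 * (el r s 167)⁻¹) * g₁⁻¹ := by group
      _ = el r s 152 := by
        rw [L.el_conj l3 l1, t1, ← t5, ← L.el_mul l4 l1, ← L.z_eq, ← conj_mul, h₁, h₁',
          L.commute_z]
  have huza : u * el r s 152 * u⁻¹ = z := by
    rw [← t5, ← L.el_mul l4 l1, ← L.z_eq, ← conj_mul, huz, hua, L.el_mul l1 l2, small_ok.2.2.2.2, ← L.z_eq]
  have h3z : u ^ 3 * z = z * u ^ 3 := by
    have : u ^ 3 * z * (u ^ 3)⁻¹ = z := by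
      calc _ = u * (u * (u * z * u⁻¹) * u⁻¹) * u⁻¹ := by rw [pow_succ, pow_two]; group
        _ = z := by rw [huz, hua, huza]
    exact mul_inv_eq_iff_eq_mul.mp this
  have h3a : u ^ 3 * el r s 189 = el r s 189 * u ^ 3 := by
    have : u ^ 3 * el r s 189 * (u ^ 3)⁻¹ = el r s 189 := by
      calc _ = u * (u * (u * el r s 189 * u⁻¹) * u⁻¹) * u⁻¹ := by rw [pow_succ, pow_two]; group
        _ = el r s 189 := by rw [hua, huza, huz]
    exact mul_inv_eq_iff_eq_mul.mp this
  obtain ⟨d, hd, hde⟩ := L.el_mem_of_commute h3z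
  have hdD : d ∈ nD := by
    have := List.all_eq_true.mp nD_ok.2 d (List.mem_range.mpr hd)
    rw [hde] at h3a
    rw [(L.el_commute_iff hd l1).mp h3a] at this
    simpa using this
  have h24 : u ^ 24 = 1 := by
    have h := List.all_eq_true.mp nD_exp d hdD
    rw [beq_iff_eq] at h
    rw [show u ^ 24 = ((u ^ 3 * u ^ 3) * (u ^ 3 * u ^ 3)) * ((u ^ 3 * u ^ 3) * (u ^ 3 * u ^ 3)) by group, hde,
      L.el_mul hd hd, L.el_mul (L.mH_lt hd hd) (L.mH_lt hd hd),
      L.el_mul (L.mH_lt (L.mH_lt hd hd) (L.mH_lt hd hd)) (L.mH_lt (L.mH_lt hd hd) (L.mH_lt hd hd)), h, L.el_zero]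
  refine ⟨u ^ 16, ?_, ?_, ?_⟩
  · rw [← pow_mul, show 16 * 3 = 24 * 2 from rfl, pow_mul, h24, one_pow]
  · have hc : Commute ((u ^ 3) ^ 5) z := (Commute.pow_left h3z 5)
    calc u ^ 16 * z * (u ^ 16)⁻¹ = u * ((u ^ 3) ^ 5 * z * ((u ^ 3) ^ 5)⁻¹) * u⁻¹ := by group
      _ = el r s 189 := by rw [hc.eq, mul_inv_cancel_right, huz]
  · have hc : Commute ((u ^ 3) ^ 5) (el r s 189) := (Commute.pow_left h3a 5)
    calc u ^ 16 * el r s 189 * (u ^ 16)⁻¹ = u * ((u ^ 3) ^ 5 * el r s 189 * ((u ^ 3) ^ 5)⁻¹) * u⁻¹ := by group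
      _ = el r s 152 := by rw [hc.eq, mul_inv_cancel_right, hua]

end Loc

end CfsgLib.M12U
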