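import Cfsg.Agent.M12U.KStruct

/-!
Class sizes and pair counts in the centralizer of the second involution.
-/

set_option autoImplicit false
set_option linter.style.haveILetI false
set_option linter.unusedSectionVars false
set_option maxRecDepth 100000

namespace CfsgLib.M12U

open CfsgLib.Coset CfsgLib.Invol

theorem k_counts : (pairN [41, 152, 189] [167, 52] 41).length = 4 ∧ (pairN [41, 152, 189] [167, 52] 177).length = 0 ∧
    (pairN [41, 152, 189] [177, 67, 159] 41).length = 0 ∧ (pairN [41, 152, 189] [177, 67, 159] 177).length = 2 ∧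
    (pairN (41 :: (clsA ++ clsC)) clsB 41).length = 240 := by decide +kernel

variable {G : Type*} [Group G] {z r s g : G}

/-- The class of an element under the centralizer of the second involution. -/
noncomputable def kcl [Finite G] (r s x : G) : Finset G := (Set.toFinite {y : G | KC r s x y}).toFinset

theorem mem_kcl [Finite G] {x y : G} : y ∈ kcl r s x ↔ KC r s x y := by simp [kcl]

theorem card_kcl [Finite G] {x : G} (hx : x ∈ KB r s) :
    (kcl r s x).card * Nat.card {y : G // y ∈ KB r s ∧ y * x = x * y} = Nat.card (KB r s) := by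
  classical
  rw [← CfsgLib.BrauerFowler.card_class_mul (⟨x, hx⟩ : KB r s), ← Fintype.card_coe, ← Nat.card_eq_fintype_card]
  congr 1
  · refine Nat.card_congr
      { toFun := fun y => ⟨⟨y.1, ?_⟩, ?_⟩
        invFun := fun y => ⟨(y.1 : G), mem_kcl.mpr ?_⟩
        left_inv := fun y => rfl
        right_inv := fun y => rfl }
    · obtain ⟨k, hk, e⟩ := mem_kcl.mp y.2
      exact e ▸ mul_mem (mul_mem hk hx) (inv_mem hk)
    · obtain ⟨k, hk, e⟩ := mem_kcl.mp y.2
      exact isConj_iff.mpr ⟨⟨k, hk⟩, Subtype.ext e⟩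
    · obtain ⟨k, hk⟩ := isConj_iff.mp y.2
      exact ⟨k, k.2, congrArg Subtype.val hk⟩
  · refine Nat.card_congr
      { toFun := fun y => ⟨⟨y.1, y.2.1⟩, Subgroup.mem_centralizer_singleton_iff.mpr (Subtype.ext y.2.2)⟩
        invFun := fun y => ⟨(y.1 : G), y.1.2, congrArg Subtype.val (Subgroup.mem_centralizer_singleton_iff.mp y.2)⟩
        left_inv := fun y => rfl
        right_inv := fun y => rfl }

theorem count_congr [Finite G] (A B : Finset G) (hA : ∀ k ∈ KB r s, ∀ p ∈ A, k * p * k⁻¹ ∈ A)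
    (hB : ∀ k ∈ KB r s, ∀ q ∈ B, k * q * k⁻¹ ∈ B) {j j' : G} (h : KC r s j j') :
    Nat.card {x : G × G // x.1 ∈ A ∧ x.2 ∈ B ∧ j' ∈ Subgroup.zpowers (x.1 * x.2)} =
      Nat.card {x : G × G // x.1 ∈ A ∧ x.2 ∈ B ∧ j ∈ Subgroup.zpowers (x.1 * x.2)} := by
  obtain ⟨k, hk, rfl⟩ := h
  refine (Nat.card_congr (Equiv.subtypeEquiv ((MulAut.conj k).toEquiv.prodCongr (MulAut.conj k).toEquiv) fun x => ?_)).symm
  show _ ↔ k * x.1 * k⁻¹ ∈ A ∧ k * x.2 * k⁻¹ ∈ B ∧ k * j * k⁻¹ ∈ Subgroup.zpowers (k * x.1 * k⁻¹ * (k * x.2 * k⁻¹))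
  have e : ∀ {y : G} (S : Finset G), (∀ k ∈ KB r s, ∀ p ∈ S, k * p * k⁻¹ ∈ S) → (k * y * k⁻¹ ∈ S ↔ y ∈ S) := fun {y} S hS =>
    ⟨fun h' => by simpa [mul_assoc] using hS k⁻¹ (inv_mem hk) _ h', fun h' => hS k hk _ h'⟩
  rw [e A hA, e B hB, conj_mul]
  refine and_congr_right fun _ => and_congr_right fun _ => ?_
  constructor
  · intro hm
    obtain ⟨i, hi⟩ := Subgroup.mem_zpowers_iff.mp hm
    exact Subgroup.mem_zpowers_iff.mpr ⟨i, by rw [conj_zpow, hi]⟩
  · intro hm
    obtain ⟨i, hi⟩ := Subgroup.mem_zpowers_iff.mp hm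
    rw [conj_zpow] at hi
    exact Subgroup.mem_zpowers_iff.mpr ⟨i, mul_left_cancel (mul_right_cancel hi)⟩

theorem kcl_conj [Finite G] (x : G) : ∀ k ∈ KB r s, ∀ p ∈ kcl r s x, k * p * k⁻¹ ∈ kcl r s x :=
  fun k hk p hp => mem_kcl.mpr ((mem_kcl.mp hp).trans ⟨k, hk, rfl⟩)

/-- Powers of the product of an element with an involution commuting with it. -/
theorem mem_zpowers_mul_invol {x t w : G} (ht : t * t = 1) (hc : x * t = t * x) (h : w ∈ Subgroup.zpowers (x * t)) :
    ∃ y ∈ Subgroup.zpowers x, w = y ∨ w = y * t := by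
  obtain ⟨i, rfl⟩ := Subgroup.mem_zpowers_iff.mp h
  refine ⟨x ^ i, Subgroup.mem_zpowers_iff.mpr ⟨i, rfl⟩, ?_⟩
  rw [(show Commute x t from hc).mul_zpow]
  rcases Int.even_or_odd i with ⟨l, rfl⟩ | ⟨l, rfl⟩
  · left
    rw [show t ^ (l + l) = 1 by rw [← two_mul, zpow_mul]; norm_cast; rw [pow_two, ht, one_zpow], mul_one]
  · right
    rw [show t ^ (2 * l + 1) = t by rw [zpow_add, zpow_mul]; norm_cast; rw [pow_two, ht, one_zpow, one_mul, pow_one]]

namespace Std

variable (S : Std z r s g)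

include S

theorem ord_node {i : Nat} (hi : i ∈ 41 :: (clsA ++ clsB ++ clsC)) : orderOf (el r s i) = 2 := S.loc.ord_cls hi

theorem kc_nodes : KC r s z (el r s 189) ∧ KC r s z (el r s 152) ∧ KC r s (el r s 177) (el r s 159) ∧
    KC r s (el r s 177) (el r s 67) ∧ KC r s (el r s 167) (el r s 52) ∧ KC r s (el r s 190) (el r s 147) := by
  have k189 : KC r s z (el r s 189) := ⟨g, S.g_mem, S.gz⟩
  have k152 : KC r s z (el r s 152) := k189.trans ⟨g, S.g_mem, S.ga⟩
  obtain ⟨p1, p2, p3, p4, p5, -, -⟩ := prod_nodes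
  have hm : ∀ {i : Nat}, i < 192 → el r s i * el r s 59 = el r s (mH i 59) := fun hi => S.loc.el_mul hi (by norm_num)
  have b0 : z * el r s 59 = el r s 177 := by rw [S.loc.z_eq, hm (by norm_num), p1]
  have k52 : KC r s (el r s 167) (el r s 52) := by
    obtain ⟨i, hi, hie⟩ := List.any_eq_true.mp nB_facts.2.2.2.2.2.1
    refine ⟨el r s i, (S.nB_lt hi).2, ?_⟩
    rw [S.loc.el_conj (S.nB_lt hi).1 (by norm_num), Nat.eq_of_beq_eq_true hie]
  refine ⟨k189, k152, ?_, ?_, k52, ?_⟩
  · have := k189.mul_b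
    rwa [b0, hm (by norm_num), p2] at this
  · have := k152.mul_b
    rwa [b0, hm (by norm_num), p3] at this
  · have := k52.mul_b
    rwa [hm (by norm_num), p4, hm (by norm_num), p5] at this

variable [Finite G]

theorem kc_b {x : G} (h : KC r s (el r s 59) x) : x = el r s 59 := by
  obtain ⟨k, hk, rfl⟩ := h
  rw [mem_KB.mp hk, mul_inv_cancel_right]

theorem cent_z177 {y : G} (hy : y ∈ KB r s) : y * el r s 177 = el r s 177 * y ↔ y * z = z * y := by
  have e : el r s 177 = z * el r s 59 := by rw [S.loc.z_eq, S.loc.el_mul (by norm_num) (by norm_num), prod_nodes.1]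
  have hbb : el r s 59 * el r s 59 = 1 := mul_self_eq_one (S.loc.ord_cls (by decide))
  rw [e]
  refine ⟨fun h => ?_, fun h => Commute.mul_right h (mem_KB.mp hy)⟩
  have := Commute.mul_right (show Commute y (z * el r s 59) from h) (mem_KB.mp hy)
  rw [mul_assoc, hbb, mul_one] at this
  exact this

theorem cent_t190 {y : G} (hy : y ∈ KB r s) : y * el r s 190 = el r s 190 * y ↔ y * el r s 167 = el r s 167 * y := by
  have e : el r s 190 = el r s 167 * el r s 59 := by rw [S.loc.el_mul (by norm_num) (by norm_num), prod_nodes.2.2.2.1]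
  have hbb : el r s 59 * el r s 59 = 1 := mul_self_eq_one (S.loc.ord_cls (by decide))
  rw [e]
  refine ⟨fun h => ?_, fun h => Commute.mul_right h (mem_KB.mp hy)⟩
  have := Commute.mul_right (show Commute y (el r s 167 * el r s 59) from h) (mem_KB.mp hy)
  rw [mul_assoc, hbb, mul_one] at this
  exact this

variable {O : Subgroup G} (hO : Std.IsCore z r s O) (hG : Fused z)

include hO hG

/-- The five classes are distinct. -/
theorem kc_ne : ¬ KC r s z (el r s 177) ∧ ¬ KC r s z (el r s 167) ∧ ¬ KC r s z (el r s 190) ∧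
    ¬ KC r s (el r s 177) (el r s 167) ∧ ¬ KC r s (el r s 177) (el r s 190) ∧ ¬ KC r s (el r s 167) (el r s 190) := by
  have hbar : ∀ {x : Nat}, KC r s (el r s 177) (el r s x) → x ∈ [167, 190] → False := by
    intro x hk hx
    have hx' : x < 192 ∧ el r s x ∈ KB r s := S.nB_lt (by fin_cases hx <;> decide)
    have h177 := S.nB_lt (j := 177) (by decide)
    have e1 : Nat.card {y : G // y ∈ KB r s ∧ y * el r s 177 = el r s 177 * y} = 16 := by
      rw [← S.card_Kz]
      exact Nat.card_congr (Equiv.subtypeEquivRight fun y => ⟨fun h => ⟨h.1, (S.cent_z177 h.1).mp h.2⟩,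
        fun h => ⟨h.1, (S.cent_z177 h.1).mpr h.2⟩⟩)
    have e2 : Nat.card {y : G // y ∈ KB r s ∧ y * el r s x = el r s x * y} = 8 * Nat.card O := by
      rw [← IsCoreLemmas.card_Y S hO]
      refine Nat.card_congr (Equiv.subtypeEquivRight fun y => ?_)
      fin_cases hx
      · rfl
      · exact ⟨fun h => ⟨h.1, (S.cent_t190 h.1).mp h.2⟩, fun h => ⟨h.1, (S.cent_t190 h.1).mpr h.2⟩⟩
    have e3 : kcl r s (el r s x) = kcl r s (el r s 177) := by
      ext y; rw [mem_kcl, mem_kcl]; exact ⟨fun h => hk.trans h, fun h => hk.symm.trans h⟩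
    have c1 := card_kcl h177.2
    have c2 := card_kcl hx'.2
    rw [e3, e2, ← c1, e1] at c2
    have hpos : (kcl r s (el r s 177)).card ≠ 0 :=
      Finset.card_ne_zero.mpr ⟨_, mem_kcl.mpr (KC.refl _)⟩
    have := Nat.eq_of_mul_eq_mul_left (Nat.pos_of_ne_zero hpos) c2
    obtain ⟨k, hk'⟩ := hO.2.1
    omega
  have hz : ∀ {x : Nat}, x ∈ [177, 167, 190] → ¬ KC r s z (el r s x) := fun hx h =>
    S.loc.not_conj_B (by fin_cases hx <;> decide) h.isConj
  exact ⟨hz (by simp), hz (by simp), hz (by simp), fun h => hbar h (by simp), fun h => hbar h (by simp),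
    IsCoreLemmas.tau_ne S hO hG⟩

/-- The node of an element of a class commuting with `z`. -/
theorem node_cls {x : G} (hxz : x * z = z * x) :
    (KC r s z x → ∃ i ∈ [41, 152, 189], x = el r s i) ∧ (KC r s (el r s 177) x → ∃ i ∈ [177, 67, 159], x = el r s i) ∧
    (KC r s (el r s 167) x → ∃ i ∈ [167, 52], x = el r s i) := by
  obtain ⟨n1, n2, n3, n4, n5, n6⟩ := S.kc_nodes
  obtain ⟨d1, d2, d3, d4, d5, d6⟩ := S.kc_ne hO hG
  have hzz : KC r s z (el r s 41) := by rw [← S.loc.z_eq]; exact KC.refl z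
  have key : ∀ {rep : G}, rep ∈ KB r s → orderOf rep = 2 → KC r s rep x →
      ∃ j ∈ [41, 152, 189, 59, 177, 67, 159, 167, 52, 190, 147], x = el r s j ∧ KC r s rep (el r s j) := by
    intro rep hrep h2 h
    obtain ⟨k, hk, hke⟩ := h
    obtain ⟨j, hjB, hje⟩ := S.node_K (hke ▸ mul_mem (mul_mem hk hrep) (inv_mem hk)) hxz
    have hjlt := (S.nB_lt hjB).1
    have hinv : invN j = true :=
      S.loc.invN_ord hjlt (by rw [← hje, ← hke, Invol.orderOf_conj_eq, h2])
    have hj11 := List.all_eq_true.mp nB_facts.2.1 j hjB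
    rw [hinv] at hj11
    simp only [Bool.not_true, Bool.false_or, List.contains_iff_mem] at hj11
    exact ⟨j, hj11, hje, k, hk, by rw [hke, hje]⟩
  have nob : ∀ {rep : G}, rep ≠ el r s 59 → ¬ KC r s rep (el r s 59) := fun hne h => hne (S.kc_b h.symm)
  have nz : z ≠ el r s 59 := fun h => S.loc.not_conj_b (h ▸ IsConj.refl z)
  refine ⟨fun h => ?_, fun h => ?_, fun h => ?_⟩
  · obtain ⟨j, hj, hje, hk⟩ := key S.z_mem S.loc.zord h
    refine ⟨j, ?_, hje⟩
    fin_cases hj
    · simp
    · simp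
    · simp
    · exact absurd hk (nob nz)
    · exact absurd hk d1
    · exact absurd (hk.trans n4.symm) d1
    · exact absurd (hk.trans n3.symm) d1
    · exact absurd hk d2
    · exact absurd (hk.trans n5.symm) d2
    · exact absurd hk d3
    · exact absurd (hk.trans n6.symm) d3
  · obtain ⟨j, hj, hje, hk⟩ := key (S.nB_lt (by decide)).2 (S.ord_node (by decide)) h
    refine ⟨j, ?_, hje⟩
    fin_cases hj
    · exact absurd (hzz.trans hk.symm) d1
    · exact absurd (n2.trans hk.symm) d1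
    · exact absurd (n1.trans hk.symm) d1
    · exact absurd hk (nob fun h => absurd (S.loc.el_inj (by norm_num) (by norm_num) h) (by norm_num))
    · simp
    · simp
    · simp
    · exact absurd hk d4
    · exact absurd (hk.trans n5.symm) d4
    · exact absurd hk d5
    · exact absurd (hk.trans n6.symm) d5
  · obtain ⟨j, hj, hje, hk⟩ := key (S.nB_lt (by decide)).2 (S.ord_node (by decide)) h
    refine ⟨j, ?_, hje⟩
    fin_cases hj
    · exact absurd (hzz.trans hk.symm) d2
    · exact absurd (n2.trans hk.symm) d2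
    · exact absurd (n1.trans hk.symm) d2
    · exact absurd hk (nob fun h => absurd (S.loc.el_inj (by norm_num) (by norm_num) h) (by norm_num))
    · exact absurd hk.symm d4
    · exact absurd (n4.trans hk.symm) d4
    · exact absurd (n3.trans hk.symm) d4
    · simp
    · simp
    · exact absurd hk d6
    · exact absurd (hk.trans n6.symm) d6

omit hG hO in
/-- The second involution as a power of a product of two involutions. -/
theorem b_pow {p q : G} (hp : p ∈ KB r s) (hq : q ∈ KB r s) (hp2 : orderOf p = 2) (hq2 : orderOf q = 2)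
    (hm : el r s 59 ∈ Subgroup.zpowers (p * q)) (hne : q ≠ el r s 59) : KC r s p (q * el r s 59) := by
  set b := el r s 59 with hb
  have hb2 : orderOf b = 2 := S.loc.ord_cls (by decide)
  have hbb := mul_self_eq_one hb2
  have hwK : p * q ∈ KB r s := mul_mem hp hq
  obtain ⟨i, hi⟩ : ∃ i : ℕ, (p * q) ^ i = b := Submonoid.mem_powers_iff _ _ |>.mp (mem_powers_iff_mem_zpowers.mpr hm)
  rcases Nat.even_or_odd i with ⟨l, hl⟩ | ⟨l, hl⟩
  · exact absurd (by rw [← hb, ← hi, hl, pow_add]) (S.no_root (pow_mem hwK l))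
  · have hqb2 : orderOf (q * b) = 2 := by
      refine orderOf_eq_two ?_ fun e => hne ?_
      · calc q * b * (q * b) = q * (b * q) * b := by group
          _ = 1 := by rw [← mem_KB.mp hq, mul_assoc, mul_assoc, hbb, mul_one, mul_self_eq_one hq2]
      · rw [eq_inv_of_mul_eq_one_left e, Invol.inv_eq_self hb2]
    have hodd : Odd (orderOf (p * (q * b))) := by
      have h1 : (p * (q * b)) ^ i = 1 := by
        rw [← mul_assoc, (show Commute (p * q) b from mem_KB.mp hwK).mul_pow, hi, hl, pow_succ, pow_mul,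
          pow_two, hbb, one_pow, one_mul, hbb]
      exact Odd.of_dvd_nat ⟨l, hl⟩ (orderOf_dvd_of_pow_eq_one h1)
    obtain ⟨m, hm'⟩ := exists_pow_conj_of_odd hp2 hqb2 hodd
    exact ⟨_, pow_mem (mul_mem hp (mul_mem hq (mem_KB.mpr rfl))) m, hm'⟩

end Std

end CfsgLib.M12U
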