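import Cfsg.Agent.M12U.KClass

/-!
Two counts of pairs of involutions in the centralizer of the second involution.
-/

set_option autoImplicit false
set_option linter.style.haveILetI false
set_option linter.unusedSectionVars false
set_option maxRecDepth 100000

namespace CfsgLib.M12U

open CfsgLib.Coset CfsgLib.Invol

variable {G : Type*} [Group G] {z r s g : G}

namespace Std

variable (S : Std z r s g) [Finite G] {O : Subgroup G} (hO : Std.IsCore z r s O)

/-- The pairs of two classes with a given involution among the powers of the product. -/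
noncomputable def cnt (r s x y j : G) : ℕ :=
  Nat.card {q : G × G // q.1 ∈ kcl r s x ∧ q.2 ∈ kcl r s y ∧ j ∈ Subgroup.zpowers (q.1 * q.2)}

include S hO

omit hO in
theorem kcl_props {x : G} (hx : x ∈ KB r s) (h2 : orderOf x = 2) {p : G} (hp : p ∈ kcl r s x) :
    p ∈ KB r s ∧ orderOf p = 2 := by
  obtain ⟨k, hk, rfl⟩ := mem_kcl.mp hp
  exact ⟨mul_mem (mul_mem hk hx) (inv_mem hk), (Invol.orderOf_conj_eq k x).trans h2⟩

theorem card_classes : (kcl r s z).card * 16 = Nat.card (KB r s) ∧
    (kcl r s (el r s 177)).card * 16 = Nat.card (KB r s) ∧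
    (kcl r s (el r s 167)).card * (8 * Nat.card O) = Nat.card (KB r s) ∧
    (kcl r s (el r s 190)).card * (8 * Nat.card O) = Nat.card (KB r s) := by
  refine ⟨?_, ?_, ?_, ?_⟩
  · rw [← card_kcl S.z_mem, S.card_Kz]
  · rw [← card_kcl (S.nB_lt (j := 177) (by decide)).2]
    congr 1
    rw [← S.card_Kz]
    exact (Nat.card_congr (Equiv.subtypeEquivRight fun y => ⟨fun h => ⟨h.1, (S.cent_z177 h.1).mp h.2⟩,
        fun h => ⟨h.1, (S.cent_z177 h.1).mpr h.2⟩⟩)).symm
  · rw [← card_kcl (S.nB_lt (j := 167) (by decide)).2, IsCoreLemmas.card_Y S hO]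
  · rw [← card_kcl (S.nB_lt (j := 190) (by decide)).2, ← IsCoreLemmas.card_Y S hO]
    congr 1
    exact (Nat.card_congr (Equiv.subtypeEquivRight fun y => ⟨fun h => ⟨h.1, (S.cent_t190 h.1).mp h.2⟩,
        fun h => ⟨h.1, (S.cent_t190 h.1).mpr h.2⟩⟩)).symm

/-- An element of the core times a node inverting it is a conjugate of the node. -/
theorem core_conj {o : G} (ho : o ∈ O) {e : Nat} (he : e ∈ [41, 52]) :
    ∃ p ∈ O, p * el r s e * p⁻¹ = o * el r s e := by
  have helt : e < 192 ∧ e ∈ nE2 := by fin_cases he <;> exact ⟨by norm_num, by decide⟩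
  have hee := (S.nE2_lt helt.2).2.2.2
  have hinv : ∀ p ∈ O, el r s e * p * (el r s e)⁻¹ = p⁻¹ := by
    intro p hp
    fin_cases he
    · rw [← S.loc.z_eq]; exact hO.2.2.2.2.1 p hp
    · rw [show el r s 52 = z * el r s 167 by rw [S.loc.z_eq, S.loc.el_mul (by norm_num) (by norm_num), prod_nodes.2.2.2.2.2.1],
        mul_inv_rev]
      calc _ = z * (el r s 167 * p * (el r s 167)⁻¹) * z⁻¹ := by group
        _ = p⁻¹ := by rw [← (hO.1 p hp).2, mul_inv_cancel_right, hO.2.2.2.2.1 p hp]
  obtain ⟨k, hk⟩ := hO.2.1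
  have hok : o ^ (2 * k + 1) = 1 := by
    rw [← hk]; exact orderOf_dvd_iff_pow_eq_one.mp (Subgroup.orderOf_dvd_natCard _ ho)
  refine ⟨o ^ (k + 1), pow_mem ho _, ?_⟩
  have h' : el r s e * (o ^ (k + 1))⁻¹ = o ^ (k + 1) * el r s e := by
    rw [← mul_inv_eq_iff_eq_mul, ← conj_inv, hinv _ (pow_mem ho _), inv_inv]
  rw [mul_assoc, h', ← mul_assoc, ← pow_add, show k + 1 + (k + 1) = (2 * k + 1) + 1 by ring, pow_succ, hok, one_mul]

theorem node_pow {y o : G} (ho : o ∈ O) (hy : y ∈ Subgroup.zpowers o) : y ∈ O :=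
  (Subgroup.zpowers_le.mpr ho) hy

variable (hG : Fused z)

include hG

/-- An element of a class commuting with `167` is a node times an element of the core. -/
theorem cls_Y {x : G} (hxt : x * el r s 167 = el r s 167 * x) :
    (KC r s z x → ∃ o ∈ O, x = o * z) ∧
    (KC r s (el r s 177) x → ∃ o ∈ O, x = o * el r s 177) ∧
    (KC r s (el r s 167) x → x = el r s 167 ∨ ∃ o ∈ O, x = o * el r s 52) := by
  obtain ⟨d1, d2, d3, d4, d5, d6⟩ := S.kc_ne hO hG
  obtain ⟨n1, n2, n3, n4, n5, n6⟩ := S.kc_nodes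
  have key : ∀ {rep : G}, rep ∈ KB r s → orderOf rep = 2 → KC r s rep x →
      ∃ p ∈ O, ∃ e ∈ nE2, x = p * el r s e * p⁻¹ ∧ x = p * p * el r s e ∧ KC r s rep (el r s e) := by
    intro rep hrep h2 h
    obtain ⟨k, hk, hke⟩ := h
    obtain ⟨p, hp, e, he, h1, h2', -⟩ := IsCoreLemmas.invol_Y S hO (hke ▸ mul_mem (mul_mem hk hrep) (inv_mem hk)) hxt
      (mul_self_eq_one (by rw [← hke, Invol.orderOf_conj_eq, h2]))
    refine ⟨p, hp, e, he, h1, h2', p⁻¹ * k, mul_mem (inv_mem (IsCoreLemmas.mem_K S hO hp)) hk, ?_⟩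
    calc p⁻¹ * k * rep * (p⁻¹ * k)⁻¹ = p⁻¹ * (k * rep * k⁻¹) * p := by group
      _ = el r s e := by rw [hke, h1]; group
  have hzz : KC r s z (el r s 41) := by rw [← S.loc.z_eq]; exact KC.refl z
  have no0 : ∀ {rep : G}, orderOf rep = 2 → ¬ KC r s rep (el r s 0) := fun h2 ⟨k, _, hk⟩ => by
    rw [S.loc.el_zero] at hk
    have := Invol.orderOf_conj_eq k _ ▸ (congrArg orderOf hk).trans orderOf_one
    omega
  have nob : ∀ {rep : G}, rep ≠ el r s 59 → ¬ KC r s rep (el r s 59) := fun hne h => hne (S.kc_b h.symm)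
  have nz : z ≠ el r s 59 := fun h => S.loc.not_conj_b (h ▸ IsConj.refl z)
  have n177 : el r s 177 ≠ el r s 59 := fun h => absurd (S.loc.el_inj (by norm_num) (by norm_num) h) (by norm_num)
  have n167 : el r s 167 ≠ el r s 59 := fun h => absurd (S.loc.el_inj (by norm_num) (by norm_num) h) (by norm_num)
  have o177 : orderOf (el r s 177) = 2 := S.ord_node (by decide)
  have o167 : orderOf (el r s 167) = 2 := S.ord_node (by decide)
  refine ⟨fun h => ?_, fun h => ?_, fun h => ?_⟩
  · obtain ⟨p, hp, e, he, -, hx, hk⟩ := key S.z_mem S.loc.zord h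
    fin_cases he
    · exact absurd hk (no0 S.loc.zord)
    · exact ⟨p * p, mul_mem hp hp, by rw [hx, ← S.loc.z_eq]⟩
    · exact absurd (hk.trans n5.symm) d2
    · exact absurd hk (nob nz)
    · exact absurd (hk.trans n6.symm) d3
    · exact absurd hk d2
    · exact absurd hk d1
    · exact absurd hk d3
  · obtain ⟨p, hp, e, he, -, hx, hk⟩ := key (S.nB_lt (by decide)).2 o177 h
    fin_cases he
    · exact absurd hk (no0 o177)
    · exact absurd (hzz.trans hk.symm) d1
    · exact absurd (hk.trans n5.symm) d4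
    · exact absurd hk (nob n177)
    · exact absurd (hk.trans n6.symm) d5
    · exact absurd hk d4
    · exact ⟨p * p, mul_mem hp hp, hx⟩
    · exact absurd hk d5
  · obtain ⟨p, hp, e, he, hx', hx, hk⟩ := key (S.nB_lt (by decide)).2 o167 h
    fin_cases he
    · exact absurd hk (no0 o167)
    · exact absurd (hzz.trans hk.symm) d2
    · exact Or.inr ⟨p * p, mul_mem hp hp, hx⟩
    · exact absurd hk (nob n167)
    · exact absurd (hk.trans n6.symm) d6
    · exact Or.inl (by rw [hx', (hO.1 p hp).2, mul_inv_cancel_right])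
    · exact absurd hk.symm d4
    · exact absurd hk d6

omit hO hG in
theorem prod_eqs : z * el r s 52 = el r s 167 ∧ z * el r s 177 = el r s 59 ∧ z * el r s 167 = el r s 52 ∧
    el r s 177 = z * el r s 59 := by
  have e : ∀ {j}, j < 192 → z * el r s j = el r s (mH 41 j) := fun hj => by rw [S.loc.z_eq, S.loc.el_mul (by norm_num) hj]
  refine ⟨?_, ?_, ?_, ?_⟩
  · rw [e (by norm_num), show mH 41 52 = 167 by decide +kernel]
  · rw [e (by norm_num), show mH 41 177 = 59 by decide +kernel]
  · rw [e (by norm_num), show mH 41 167 = 52 by decide +kernel]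
  · rw [e (by norm_num), show mH 41 59 = 177 by decide +kernel]

/-- The pairs at the centre of the Sylow subgroup. -/
theorem cnt_nodes : cnt r s z (el r s 167) z = 4 ∧ cnt r s z (el r s 167) (el r s 177) = 0 ∧
    cnt r s z (el r s 177) z = 0 ∧ cnt r s z (el r s 177) (el r s 177) = 2 := by
  obtain ⟨c1, c2, c3, c4, -⟩ := k_counts
  obtain ⟨n1, n2, n3, n4, n5, n6⟩ := S.kc_nodes
  have hzz : KC r s z (el r s 41) := by rw [← S.loc.z_eq]; exact KC.refl z
  have hmemZ : ∀ i ∈ [41, 152, 189], el r s i ∈ kcl r s z := by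
    intro i hi
    refine mem_kcl.mpr ?_
    fin_cases hi
    · exact hzz
    · exact n2
    · exact n1
  have main : ∀ {rep : G} {j : Nat} (l : List Nat), rep ∈ KB r s → orderOf rep = 2 → j ∈ [41, 177] →
      l.Nodup → (∀ i ∈ l, i < 192) → (∀ i ∈ l, KC r s rep (el r s i)) →
      (∀ q : G, q * z = z * q → KC r s rep q → ∃ i ∈ l, q = el r s i) →
      cnt r s z rep (el r s j) = (pairN [41, 152, 189] l j).length := by
    intro rep j l hrep h2 hj hnd hlt hl hnode
    have hjlt : j < 192 := by fin_cases hj <;> norm_num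
    refine S.loc.card_pairs hjlt (fun x hx => by fin_cases hx <;> norm_num) hlt (by decide) hnd fun q => ?_
    constructor
    · rintro ⟨hp, hq, hm⟩
      obtain ⟨hpK, hp2⟩ := S.kcl_props S.z_mem S.loc.zord hp
      obtain ⟨hqK, hq2⟩ := S.kcl_props hrep h2 hq
      obtain ⟨c1, c2⟩ := commute_of_mem_zpowers hp2 hq2 (S.ord_node (by fin_cases hj <;> decide)) hm
      have hcz : ∀ {y : G}, y ∈ KB r s → y * el r s j = el r s j * y → y * z = z * y := by
        intro y hy hc
        fin_cases hj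
        · rwa [← S.loc.z_eq] at hc
        · exact (S.cent_z177 hy).mp hc
      exact ⟨(S.node_cls hO hG (hcz hpK c1)).1 (mem_kcl.mp hp), hnode _ (hcz hqK c2) (mem_kcl.mp hq), hm⟩
    · rintro ⟨⟨i, hi, hie⟩, ⟨k, hk, hke⟩, hm⟩
      exact ⟨hie ▸ hmemZ i hi, hke ▸ mem_kcl.mpr (hl k hk), hm⟩
  have k177 : ∀ i ∈ [177, 67, 159], KC r s (el r s 177) (el r s i) := fun i hi => by
    fin_cases hi
    · exact KC.refl _
    · exact n4
    · exact n3
  have k167 : ∀ i ∈ [167, 52], KC r s (el r s 167) (el r s i) := fun i hi => by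
    fin_cases hi
    · exact KC.refl _
    · exact n5
  have hT := main (rep := el r s 167) (j := 41) [167, 52] (S.nB_lt (by decide)).2 (S.ord_node (by decide)) (by simp)
    (by decide) (by decide) k167 fun q hq => (S.node_cls hO hG hq).2.2
  have hT' := main (rep := el r s 167) (j := 177) [167, 52] (S.nB_lt (by decide)).2 (S.ord_node (by decide)) (by simp)
    (by decide) (by decide) k167 fun q hq => (S.node_cls hO hG hq).2.2
  have hB := main (rep := el r s 177) (j := 41) [177, 67, 159] (S.nB_lt (by decide)).2 (S.ord_node (by decide)) (by simp)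
    (by decide) (by decide) k177 fun q hq => (S.node_cls hO hG hq).2.1
  have hB' := main (rep := el r s 177) (j := 177) [177, 67, 159] (S.nB_lt (by decide)).2 (S.ord_node (by decide)) (by simp)
    (by decide) (by decide) k177 fun q hq => (S.node_cls hO hG hq).2.1
  rw [← S.loc.z_eq] at hT hB
  exact ⟨hT.trans c1, hT'.trans c2, hB.trans c3, hB'.trans c4⟩

omit hG in
/-- The product of two elements of the core with nodes inverting it. -/
theorem prod_core {o o' : G} (ho : o ∈ O) (ho' : o' ∈ O) (e : Nat) :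
    o * z * (o' * el r s e) = o * o'⁻¹ * (z * el r s e) := by
  have : z * o' = o'⁻¹ * z := by
    rw [← mul_inv_eq_iff_eq_mul]; exact hO.2.2.2.2.1 o' ho'
  calc o * z * (o' * el r s e) = o * (z * o') * el r s e := by group
    _ = o * o'⁻¹ * (z * el r s e) := by rw [this]; group

/-- The pairs at `167` and at `190`. -/
theorem cnt_Y : cnt r s z (el r s 167) (el r s 167) = Nat.card O * Nat.card O ∧
    cnt r s z (el r s 167) (el r s 190) = 0 ∧
    cnt r s z (el r s 177) (el r s 167) = 0 ∧ cnt r s z (el r s 177) (el r s 190) = 0 := by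
  classical
  obtain ⟨e1, e2, e3, e4⟩ := S.prod_eqs
  have ht : el r s 167 * el r s 167 = 1 := mul_self_eq_one (S.ord_node (by decide))
  have hb : el r s 59 * el r s 59 = 1 := mul_self_eq_one (S.ord_node (by decide))
  have hE : ∀ {y : G} {e : Nat}, y ∈ O → e ∈ nE2 → ∀ {e' : Nat}, e' ∈ nE2 → y * el r s e = el r s e' → e = e' :=
    fun {y} {e} hy he {e'} he' h =>
      (IsCoreLemmas.decomp_unique S hO hy (one_mem O) he he' (by rw [one_mul]; exact h)).2
  have hone : ∀ {y : G}, y ∈ O → ∀ {e' : Nat}, e' ∈ nE2 → y = el r s e' → e' = 0 := fun {y} hy {e'} he' h =>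
    (hE hy (show (0 : Nat) ∈ nE2 by decide) he' (by rw [S.loc.el_zero, mul_one, h])).symm
  have setup : ∀ {rep : G}, rep ∈ KB r s → orderOf rep = 2 → ∀ {v : Nat}, v ∈ [167, 190] → ∀ q : G × G,
      q.1 ∈ kcl r s z → q.2 ∈ kcl r s rep → el r s v ∈ Subgroup.zpowers (q.1 * q.2) →
      (∃ o ∈ O, q.1 = o * z) ∧ q.2 * el r s 167 = el r s 167 * q.2 := by
    intro rep hrep h2 v hv q hp hq hm
    obtain ⟨hpK, hp2⟩ := S.kcl_props S.z_mem S.loc.zord hp
    obtain ⟨hqK, hq2⟩ := S.kcl_props hrep h2 hq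
    obtain ⟨c1, c2⟩ := commute_of_mem_zpowers hp2 hq2 (S.ord_node (by fin_cases hv <;> decide)) hm
    have hct : ∀ {y : G}, y ∈ KB r s → y * el r s v = el r s v * y → y * el r s 167 = el r s 167 * y := by
      intro y hy hc
      fin_cases hv
      · exact hc
      · exact (S.cent_t190 hy).mp hc
    exact ⟨(S.cls_Y hO hG (hct hpK c1)).1 (mem_kcl.mp hp), hct hqK c2⟩
  have h167 : ∀ {o : G}, o ∈ O → ∀ {v : Nat}, v ∈ [167, 190] →
      el r s v ∈ Subgroup.zpowers (o * z * el r s 167) → False := by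
    intro o ho v hv hm
    have hsq : (o * z * el r s 167) * (o * z * el r s 167) = 1 := by
      have c : el r s 167 * (o * z) = o * z * el r s 167 := by
        rw [← mul_assoc, ← (hO.1 o ho).2, mul_assoc, S.loc.commute_z, ← mul_assoc]
      have c2 : (o * z) * (o * z) = 1 := by
        have := S.prod_core hO ho ho 41
        rw [← S.loc.z_eq] at this
        rw [this, mul_inv_cancel, one_mul, S.loc.zz]
      calc _ = o * z * (el r s 167 * (o * z)) * el r s 167 := by group
        _ = (o * z) * (o * z) * (el r s 167 * el r s 167) := by rw [c]; group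
        _ = 1 := by rw [c2, ht, one_mul]
    obtain ⟨y, hy, hye⟩ := mem_zpowers_mul_invol (x := 1) hsq (by simp) (by rwa [one_mul])
    rw [Subgroup.mem_zpowers_iff] at hy
    obtain ⟨i, rfl⟩ := hy
    rw [one_zpow, one_mul, mul_assoc, e3] at hye
    rcases hye with h | h
    · exact absurd (hone (one_mem O) (by fin_cases hv <;> decide) h.symm) (by fin_cases hv <;> decide)
    · exact absurd (hE ho (by decide) (by fin_cases hv <;> decide) h.symm) (by fin_cases hv <;> decide)
  have hzero : ∀ {rep : G} {j : G}, (∀ q : G × G, q.1 ∈ kcl r s z → q.2 ∈ kcl r s rep →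
      j ∈ Subgroup.zpowers (q.1 * q.2) → False) → cnt r s z rep j = 0 := fun h => by
    haveI : IsEmpty {q : G × G // q.1 ∈ kcl r s z ∧ q.2 ∈ kcl r s _ ∧ _ ∈ Subgroup.zpowers (q.1 * q.2)} :=
      ⟨fun q => h q.1 q.2.1 q.2.2.1 q.2.2.2⟩
    exact Nat.card_of_isEmpty
  have o167 : orderOf (el r s 167) = 2 := S.ord_node (by decide)
  have o177 : orderOf (el r s 177) = 2 := S.ord_node (by decide)
  refine ⟨?_, hzero fun q hp hq hm => ?_, hzero fun q hp hq hm => ?_, hzero fun q hp hq hm => ?_⟩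
  · rw [← Nat.card_prod]
    symm
    have hz1 : ∀ {o : G}, o ∈ O → o * z ∈ kcl r s z := fun ho => by
      obtain ⟨p, hp, hpe⟩ := S.core_conj hO ho (e := 41) (by simp)
      rw [← S.loc.z_eq] at hpe
      exact mem_kcl.mpr ⟨p, IsCoreLemmas.mem_K S hO hp, hpe⟩
    have ht1 : ∀ {o : G}, o ∈ O → o * el r s 52 ∈ kcl r s (el r s 167) := fun ho => by
      obtain ⟨p, hp, hpe⟩ := S.core_conj hO ho (e := 52) (by simp)
      exact mem_kcl.mpr (S.kc_nodes.2.2.2.2.1.trans ⟨p, IsCoreLemmas.mem_K S hO hp, hpe⟩)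
    have hpow : ∀ {y : G}, y ∈ O → el r s 167 ∈ Subgroup.zpowers (y * el r s 167) := fun {y} hy => by
      have hyo : Odd (orderOf y) := Odd.of_dvd_nat hO.2.1 (Subgroup.orderOf_dvd_natCard _ hy)
      have : (y * el r s 167) ^ orderOf y = el r s 167 := by
        rw [(show Commute y (el r s 167) from (hO.1 y hy).2).mul_pow, pow_orderOf_eq_one, one_mul]
        obtain ⟨l, hl⟩ := hyo
        rw [hl, pow_succ, pow_mul, pow_two, ht, one_pow, one_mul]
      have h := pow_mem (Subgroup.mem_zpowers (y * el r s 167)) (orderOf y)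
      rwa [this] at h
    refine Nat.card_congr (Equiv.ofBijective
      (fun p : O × O => ⟨((p.1 : G) * z, (p.2 : G) * el r s 52), hz1 p.1.2, ht1 p.2.2, ?_⟩) ⟨?_, ?_⟩)
    · rw [S.prod_core hO p.1.2 p.2.2, e1]
      exact hpow (mul_mem p.1.2 (inv_mem p.2.2))
    · intro a b h
      have h1 := congrArg (fun q : {q : G × G // _} => q.1.1) h
      have h2 := congrArg (fun q : {q : G × G // _} => q.1.2) h
      exact Prod.ext (Subtype.ext (mul_right_cancel h1)) (Subtype.ext (mul_right_cancel h2))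
    · rintro ⟨q, hp, hq, hm⟩
      obtain ⟨⟨o, ho, hoe⟩, hqt⟩ := setup (S.nB_lt (by decide)).2 o167 (v := 167) (by simp) q hp hq hm
      rcases (S.cls_Y hO hG hqt).2.2 (mem_kcl.mp hq) with h | ⟨o', ho', h⟩
      · rw [hoe, h] at hm
        exact absurd hm (h167 ho (by simp))
      · exact ⟨(⟨o, ho⟩, ⟨o', ho'⟩), Subtype.ext (Prod.ext hoe.symm h.symm)⟩
  · obtain ⟨⟨o, ho, hoe⟩, hqt⟩ := setup (S.nB_lt (by decide)).2 o167 (v := 190) (by simp) q hp hq hm
    rcases (S.cls_Y hO hG hqt).2.2 (mem_kcl.mp hq) with h | ⟨o', ho', h⟩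
    · rw [hoe, h] at hm
      exact h167 ho (by simp) hm
    · rw [hoe, h, S.prod_core hO ho ho', e1] at hm
      have hy := mul_mem ho (inv_mem ho')
      obtain ⟨y, hy', hye⟩ := mem_zpowers_mul_invol ht (hO.1 _ hy).2 hm
      have hyO := S.node_pow hO hy hy'
      rcases hye with h | h
      · exact absurd (hone hyO (by decide) h.symm) (by decide)
      · exact absurd (hE hyO (by decide) (by decide) h.symm) (by decide)
  all_goals
    obtain ⟨⟨o, ho, hoe⟩, hqt⟩ := setup (S.nB_lt (by decide)).2 o177 (by simp) q hp hq hm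
    obtain ⟨o', ho', h⟩ := (S.cls_Y hO hG hqt).2.1 (mem_kcl.mp hq)
    rw [hoe, h, S.prod_core hO ho ho', e2] at hm
    have hy := mul_mem ho (inv_mem ho')
    obtain ⟨y, hy', hye⟩ := mem_zpowers_mul_invol hb (hO.1 _ hy).1 hm
    have hyO := S.node_pow hO hy hy'
    rcases hye with h | h
    · exact absurd (hone hyO (by decide) h.symm) (by decide)
    · exact absurd (hE hyO (by decide) (by decide) h.symm) (by decide)

omit hO in
theorem cnt_b_zero : cnt r s z (el r s 167) (el r s 59) = 0 := by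
  have : IsEmpty {q : G × G // q.1 ∈ kcl r s z ∧ q.2 ∈ kcl r s (el r s 167) ∧
      el r s 59 ∈ Subgroup.zpowers (q.1 * q.2)} := by
    refine ⟨fun ⟨q, hp, hq, hm⟩ => ?_⟩
    obtain ⟨hpK, hp2⟩ := S.kcl_props S.z_mem S.loc.zord hp
    obtain ⟨hqK, hq2⟩ := S.kcl_props (S.nB_lt (j := 167) (by decide)).2 (S.ord_node (by decide)) hq
    have hne : q.2 ≠ el r s 59 := fun h => by
      have := S.kc_b (h ▸ (mem_kcl.mp hq).symm)
      exact absurd (S.loc.el_inj (by norm_num) (by norm_num) this) (by norm_num)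
    have h1 := S.b_pow hpK hqK hp2 hq2 hm hne
    have h2 := (mem_kcl.mp hq).mul_b
    rw [S.loc.el_mul (by norm_num) (by norm_num), prod_nodes.2.2.2.1] at h2
    exact S.loc.not_conj_B (i := 190) (by decide) (((mem_kcl.mp hp).trans h1).trans h2.symm).isConj
  exact Nat.card_of_isEmpty

/-- The two counts. -/
theorem counts : (kcl r s z).card * (kcl r s (el r s 167)).card =
      4 * (kcl r s z).card + (kcl r s (el r s 167)).card * (Nat.card O * Nat.card O) ∧
    (kcl r s z).card * (kcl r s (el r s 177)).card =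
      cnt r s z (el r s 177) (el r s 59) + 2 * (kcl r s (el r s 177)).card := by
  classical
  obtain ⟨d1, d2, d3, d4, d5, d6⟩ := S.kc_ne hO hG
  set C1 := kcl r s z with hC1
  set C2 := kcl r s (el r s 177) with hC2
  set C3 := kcl r s (el r s 167) with hC3
  set C4 := kcl r s (el r s 190) with hC4
  have disj : ∀ {x y : G}, ¬ KC r s x y → Disjoint (kcl r s x) (kcl r s y) := fun h =>
    Finset.disjoint_left.mpr fun w h1 h2 => h ((mem_kcl.mp h1).trans (mem_kcl.mp h2).symm)
  have hbnot : ∀ {x : G}, x ≠ el r s 59 → el r s 59 ∉ kcl r s x := fun hne h => hne (S.kc_b (mem_kcl.mp h).symm)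
  have o177 : orderOf (el r s 177) = 2 := S.ord_node (by decide)
  have o167 : orderOf (el r s 167) = 2 := S.ord_node (by decide)
  have o190 : orderOf (el r s 190) = 2 := S.ord_node (by decide)
  have hJ : ∀ j ∈ insert (el r s 59) (C1 ∪ C2 ∪ (C3 ∪ C4)), orderOf j = 2 := by
    intro j hj
    simp only [Finset.mem_insert, Finset.mem_union] at hj
    rcases hj with rfl | (h | h) | (h | h)
    · exact S.ord_node (by decide)
    · exact (S.kcl_props S.z_mem S.loc.zord h).2
    · exact (S.kcl_props (S.nB_lt (by decide)).2 o177 h).2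
    · exact (S.kcl_props (S.nB_lt (by decide)).2 o167 h).2
    · exact (S.kcl_props (S.nB_lt (by decide)).2 o190 h).2
  have general : ∀ v : Nat, v ∈ [177, 167] →
      C1.card * (kcl r s (el r s v)).card = cnt r s z (el r s v) (el r s 59) + (C1.card * cnt r s z (el r s v) z +
        C2.card * cnt r s z (el r s v) (el r s 177) + (C3.card * cnt r s z (el r s v) (el r s 167) +
        C4.card * cnt r s z (el r s v) (el r s 190))) := by
    intro v hv
    have hvB : v ∈ clsB ∧ v ∈ nB := by fin_cases hv <;> decide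
    have hv2 : orderOf (el r s v) = 2 := by fin_cases hv <;> assumption
    have hvK := (S.nB_lt hvB.2).2
    have h := pair_count C1 (kcl r s (el r s v)) (insert (el r s 59) (C1 ∪ C2 ∪ (C3 ∪ C4)))
      (fun p hp => (S.kcl_props S.z_mem S.loc.zord hp).2) (fun q hq => (S.kcl_props hvK hv2 hq).2)
      (fun p hp q hq hc => S.loc.not_conj_B hvB.1
        (((mem_kcl.mp hp).isConj.trans hc).trans (mem_kcl.mp hq).isConj.symm)) hJ
      (fun p hp q hq j hj hm => by
        have hjK : j ∈ KB r s := Subgroup.zpowers_le.mpr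
          (mul_mem (S.kcl_props S.z_mem S.loc.zord hp).1 (S.kcl_props hvK hv2 hq).1) hm
        simp only [Finset.mem_insert, Finset.mem_union, hC1, hC2, hC3, hC4, mem_kcl]
        rcases S.invol_K hG hjK hj with h | h | h | h | h
        · exact Or.inl h
        · exact Or.inr (Or.inl (Or.inl h))
        · exact Or.inr (Or.inl (Or.inr h))
        · exact Or.inr (Or.inr (Or.inl h))
        · exact Or.inr (Or.inr (Or.inr h)))
    have hconst : ∀ x : G, ∑ j ∈ kcl r s x,
        Nat.card {q : G × G // q.1 ∈ C1 ∧ q.2 ∈ kcl r s (el r s v) ∧ j ∈ Subgroup.zpowers (q.1 * q.2)} =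
        (kcl r s x).card * cnt r s z (el r s v) x := fun x =>
      Finset.sum_const_nat fun j hj => count_congr _ _ (kcl_conj z) (kcl_conj _) (mem_kcl.mp hj)
    rw [h, Finset.sum_insert, Finset.sum_union, Finset.sum_union, Finset.sum_union, hC1, hC2, hC3, hC4,
      hconst, hconst, hconst, hconst]
    · rfl
    · exact disj d6
    · exact disj d1
    · simp only [Finset.disjoint_union_left, Finset.disjoint_union_right]
      exact ⟨⟨disj d2, disj d4⟩, disj d3, disj d5⟩
    · simp only [Finset.mem_union, not_or]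
      refine ⟨⟨hbnot fun h => S.loc.not_conj_b (h ▸ IsConj.refl z), hbnot ?_⟩, hbnot ?_, hbnot ?_⟩
      all_goals exact fun h => absurd (S.loc.el_inj (by norm_num) (by norm_num) h) (by norm_num)
  obtain ⟨a1, a2, a3, a4⟩ := S.cnt_nodes hO hG
  obtain ⟨b1, b2, b3, b4⟩ := S.cnt_Y hO hG
  have h1 := general 167 (by simp)
  have h2 := general 177 (by simp)
  rw [S.cnt_b_zero hG, a1, a2, b1, b2] at h1
  rw [a3, a4, b3, b4] at h2
  rw [← hC3] at h1
  rw [← hC2] at h2
  constructor
  · rw [h1]; ring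
  · rw [h2]; ring

end Std

end CfsgLib.M12U
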