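import Cfsg.Agent.M12U.KCount
import Mathlib.GroupTheory.GroupAction.Quotient
import Mathlib.GroupTheory.NoncommCoprod

/-!
The core has order three and the group has order 95040.
-/

set_option autoImplicit false
set_option linter.style.haveILetI false
set_option linter.unusedSectionVars false
set_option maxRecDepth 100000

namespace CfsgLib.M12U

open CfsgLib.Coset CfsgLib.Invol

theorem sq_pairs : (((41 :: (clsA ++ clsC)).flatMap fun x => (41 :: (clsA ++ clsC)).map fun y => (x, y)).filter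
    fun p => Nat.beq (mH (mH p.1 p.2) (mH p.1 p.2)) 41).length = 96 := by decide +kernel

variable {G : Type*} [Group G] {z r s g : G}

namespace Std

variable (S : Std z r s g) [Finite G] {O : Subgroup G} (hO : Std.IsCore z r s O) (hG : Fused z)

include S hO hG

theorem sizes : Nat.card (KB r s) = 16 * (Nat.card O * (Nat.card O + 2)) ∧
    (kcl r s (el r s 167)).card = 2 * (Nat.card O + 2) ∧
    cnt r s z (el r s 177) (el r s 59) + 2 * (Nat.card O * (Nat.card O + 2)) =
      (Nat.card O * (Nat.card O + 2)) * (Nat.card O * (Nat.card O + 2)) := by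
  obtain ⟨e1, e2, e3, -⟩ := S.card_classes hO
  obtain ⟨h1, h2⟩ := S.counts hO hG
  set n := Nat.card O with hn
  set m := (kcl r s z).card with hm
  set c := (kcl r s (el r s 167)).card with hc
  have hn0 : 0 < n := Nat.card_pos
  have hm0 : 0 < m := Finset.card_pos.mpr ⟨z, mem_kcl.mpr (KC.refl z)⟩
  have hcn : c * n = 2 * m := by linarith
  have hm' : m = n * (n + 2) := by
    have : 2 * m * m = 2 * m * (n * (n + 2)) := by
      calc 2 * m * m = m * c * n := by rw [← hcn]; ring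
        _ = (4 * m + c * (n * n)) * n := by rw [h1]
        _ = 4 * m * n + c * n * (n * n) := by ring
        _ = 2 * m * (n * (n + 2)) := by rw [hcn]; ring
    exact Nat.eq_of_mul_eq_mul_left (by omega) this
  refine ⟨by rw [← e1, hm']; ring, ?_, ?_⟩
  · refine Nat.eq_of_mul_eq_mul_right hn0 ?_
    rw [hcn, hm']; ring
  · rw [← hm']
    have : (kcl r s (el r s 177)).card = m := by omega
    rw [this] at h2
    omega

theorem inverting {e : Nat} (he : e ∈ [41, 52, 177, 147]) {o : G} (ho : o ∈ O) :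
    el r s e * o * (el r s e)⁻¹ = o⁻¹ := by
  obtain ⟨p1, -, -, -, p5, p6, -⟩ := prod_nodes
  have hz := hO.2.2.2.2.1 o ho
  have hb : el r s 59 * o * (el r s 59)⁻¹ = o := by rw [← (hO.1 o ho).1, mul_inv_cancel_right]
  have ht : el r s 167 * o * (el r s 167)⁻¹ = o := by rw [← (hO.1 o ho).2, mul_inv_cancel_right]
  have h52 : el r s 52 * o * (el r s 52)⁻¹ = o⁻¹ := by
    rw [← p6, ← S.loc.el_mul (by norm_num) (by norm_num), ← S.loc.z_eq, mul_inv_rev]
    calc _ = z * (el r s 167 * o * (el r s 167)⁻¹) * z⁻¹ := by group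
      _ = o⁻¹ := by rw [ht, hz]
  fin_cases he
  · rwa [← S.loc.z_eq]
  · exact h52
  · rw [← p1, ← S.loc.el_mul (by norm_num) (by norm_num), ← S.loc.z_eq, mul_inv_rev]
    calc _ = z * (el r s 59 * o * (el r s 59)⁻¹) * z⁻¹ := by group
      _ = o⁻¹ := by rw [hb, hz]
  · rw [← p5, ← S.loc.el_mul (by norm_num) (by norm_num), mul_inv_rev]
    calc _ = el r s 52 * (el r s 59 * o * (el r s 59)⁻¹) * (el r s 52)⁻¹ := by group
      _ = o⁻¹ := by rw [hb, h52]

omit S hG in
theorem odd_fix {o : G} (ho : o ∈ O) (h : o⁻¹ = o) : o = 1 :=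
  eq_one_of_sq_eq_one_of_odd (by rw [pow_two]; exact inv_eq_iff_mul_eq_one.mp h)
    (Odd.of_dvd_nat hO.2.1 (Subgroup.orderOf_dvd_natCard _ ho))

/-- An involution of the class of `167` commuting with it and with an element of the core is `167`. -/
theorem cls_fix {o : G} (ho : o ∈ O) (hne : o ≠ 1) {x : G} (hx : KC r s (el r s 167) x)
    (hxt : x * el r s 167 = el r s 167 * x) (hc : x * o = o * x) : x = el r s 167 := by
  rcases (S.cls_Y hO hG hxt).2.2 hx with h | ⟨o', ho', h⟩
  · exact h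
  · refine absurd (odd_fix hO ho ?_) hne
    have e1 : x * o * x⁻¹ = o := mul_inv_eq_iff_eq_mul.mpr hc
    have e2 : x * o * x⁻¹ = o⁻¹ := by
      rw [h, mul_inv_rev]
      calc _ = o' * (el r s 52 * o * (el r s 52)⁻¹) * o'⁻¹ := by group
        _ = o⁻¹ := by rw [S.inverting hO hG (by simp) ho, hO.2.2.2.2.2.1 o' ho' _ (inv_mem ho), mul_inv_cancel_right]
    exact e2.symm.trans e1

/-- An involution of the centralizer of `167` commuting with an element of the core is a node. -/
theorem invol_fix {o : G} (ho : o ∈ O) (hne : o ≠ 1) {x : G} (hx : x ∈ KB r s) (h2 : orderOf x = 2)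
    (hxt : x * el r s 167 = el r s 167 * x) (hc : x * o = o * x) :
    x = el r s 59 ∨ x = el r s 167 ∨ x = el r s 190 := by
  obtain ⟨p, hp, e, he, hx', -, -⟩ := IsCoreLemmas.invol_Y S hO hx hxt (mul_self_eq_one h2)
  have hbad : e ∈ [41, 52, 177, 147] → False := fun h => by
    refine hne (odd_fix hO ho ?_)
    have e1 : x * o * x⁻¹ = o := mul_inv_eq_iff_eq_mul.mpr hc
    have e2 : x * o * x⁻¹ = o⁻¹ := by
      have hop : p⁻¹ * o * p = o := by rw [hO.2.2.2.2.2.1 _ (inv_mem hp) o ho, inv_mul_cancel_right]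
      rw [hx']
      calc _ = p * (el r s e * (p⁻¹ * o * p) * (el r s e)⁻¹) * p⁻¹ := by group
        _ = o⁻¹ := by rw [hop, S.inverting hO hG h ho, hO.2.2.2.2.2.1 p hp _ (inv_mem ho), mul_inv_cancel_right]
    exact e2.symm.trans e1
  have hpb : p * el r s 59 * p⁻¹ = el r s 59 := by rw [(hO.1 p hp).1, mul_inv_cancel_right]
  have hpt : p * el r s 167 * p⁻¹ = el r s 167 := by rw [(hO.1 p hp).2, mul_inv_cancel_right]
  fin_cases he
  · exfalso
    rw [S.loc.el_zero, mul_one, mul_inv_cancel] at hx'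
    exact ne_one h2 hx'
  · exact (hbad (by simp)).elim
  · exact (hbad (by simp)).elim
  · exact Or.inl (hx'.trans hpb)
  · exact (hbad (by simp)).elim
  · exact Or.inr (Or.inl (hx'.trans hpt))
  · exact (hbad (by simp)).elim
  · refine Or.inr (Or.inr (hx'.trans ?_))
    rw [← prod_nodes.2.2.2.1, ← S.loc.el_mul (by norm_num) (by norm_num), ← conj_mul, hpt, hpb]

/-- The core acts without fixed points on the other members of the class of `167`. -/
theorem semireg {o : G} (ho : o ∈ O) (hne : o ≠ 1) {x : G} (hx : KC r s (el r s 167) x) (hc : x * o = o * x) :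
    x = el r s 167 := by
  classical
  set τ := el r s 167 with hτ
  have hτ2 : orderOf τ = 2 := S.ord_node (by decide)
  have hτK : τ ∈ KB r s := (S.nB_lt (by decide)).2
  have hoK : o ∈ KB r s := IsCoreLemmas.mem_K S hO ho
  obtain ⟨hxK, hx2⟩ := S.kcl_props hτK hτ2 (mem_kcl.mpr hx)
  have hτo : τ * o = o * τ := ((hO.1 o ho).2).symm
  by_contra hne'
  have hxb : x ≠ el r s 59 := fun h => by
    have := S.kc_b ((h ▸ hx).symm)
    exact absurd (S.loc.el_inj (by norm_num) (by norm_num) this) (by norm_num)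
  have hodd : Odd (orderOf (τ * x)) := by
    by_contra hcon
    rw [Nat.not_odd_iff_even] at hcon
    obtain ⟨hj2, -, -⟩ := half_props hτ2 hx2 hcon
    generalize hj : (τ * x) ^ (orderOf (τ * x) / 2) = j at hj2
    have hjm : j ∈ Subgroup.zpowers (τ * x) := hj ▸ pow_mem (Subgroup.mem_zpowers _) _
    obtain ⟨c1, c2⟩ := commute_of_mem_zpowers hτ2 hx2 hj2 hjm
    have hjK : j ∈ KB r s := Subgroup.zpowers_le.mpr (mul_mem hτK hxK) hjm
    have hjo : j * o = o * j := hj ▸ (Commute.pow_left (Commute.mul_left hτo hc) _)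
    rcases S.invol_fix hO hG ho hne hjK hj2 c1.symm hjo with h | h | h
    · have h1 := S.b_pow hτK hxK hτ2 hx2 (h ▸ hjm) hxb
      have h2 := hx.mul_b
      rw [hτ, S.loc.el_mul (by norm_num) (by norm_num), prod_nodes.2.2.2.1] at h2
      exact IsCoreLemmas.tau_ne S hO hG (h1.trans h2.symm)
    · exact hne' (S.cls_fix hO hG ho hne hx (h ▸ c2) hc)
    · exact hne' (S.cls_fix hO hG ho hne hx ((S.cent_t190 hxK).mp (h ▸ c2)) hc)
  set C := KB r s ⊓ Subgroup.centralizer ({o} : Set G) with hC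
  have hCmem : ∀ {y : G}, y ∈ C ↔ y ∈ KB r s ∧ y * o = o * y := fun {y} => by
    rw [hC, Subgroup.mem_inf, Subgroup.mem_centralizer_singleton_iff]
  have hτC : τ ∈ C := hCmem.mpr ⟨hτK, hτo⟩
  have hxC : x ∈ C := hCmem.mpr ⟨hxK, hc⟩
  have hiso : Cfsg.IsIsolatedInvolution (⟨τ, hτC⟩ : C) := by
    refine ⟨by rw [← Subgroup.orderOf_coe]; exact hτ2, fun k hk => Subtype.ext ?_⟩
    obtain ⟨hkK, hko⟩ := hCmem.mp k.2
    exact S.cls_fix hO hG ho hne ⟨(k : G), hkK, rfl⟩ (congrArg Subtype.val hk.eq).symm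
      (hCmem.mp (k * ⟨τ, hτC⟩ * k⁻¹).2).2
  obtain ⟨N, hNn, hNodd, hNc⟩ := CfsgLib.ZStar.zstar hiso
  set gens := {w : G | ∃ y ∈ C, w = τ * (y * τ * y⁻¹)} with hgens
  set M := Subgroup.closure gens with hM
  have hMN : M ≤ N.map C.subtype := (Subgroup.closure_le _).mpr fun w ⟨y, hy, hw⟩ => by
    refine Subgroup.mem_map.mpr ⟨_, hNc ⟨y, hy⟩, ?_⟩
    show τ * y * τ⁻¹ * y⁻¹ = w
    rw [hw, Invol.inv_eq_self hτ2]; group
  have hMC : M ≤ C := hMN.trans (Subgroup.map_subtype_le N)
  have hModd : Odd (Nat.card M) := by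
    refine Odd.of_dvd_nat ?_ (Subgroup.card_dvd_of_le hMN)
    rwa [Subgroup.card_map_of_injective C.subtype_injective]
  have hinvar : ∀ u : G, u * τ * u⁻¹ = τ → (∀ y ∈ C, u * y * u⁻¹ ∈ C) → ∀ w ∈ M, u * w * u⁻¹ ∈ M := by
    intro u hu huC w hw
    have h : M ≤ M.comap (MulAut.conj u).toMonoidHom := (Subgroup.closure_le _).mpr fun w ⟨y, hy, hwe⟩ => by
      refine Subgroup.subset_closure ⟨u * y * u⁻¹, huC y hy, ?_⟩
      show u * w * u⁻¹ = _
      conv_rhs => rw [← hu]
      rw [hwe]; group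
    exact h hw
  have hzC : ∀ y ∈ C, z * y * z⁻¹ ∈ C := by
    intro y hy
    obtain ⟨h1, h2⟩ := hCmem.mp hy
    refine hCmem.mpr ⟨mul_mem (mul_mem S.z_mem h1) (inv_mem S.z_mem), ?_⟩
    have hzo : z * o⁻¹ * z⁻¹ = o := by rw [← conj_inv, hO.2.2.2.2.1 o ho, inv_inv]
    conv_lhs => rw [← hzo]
    conv_rhs => rw [← hzo]
    rw [conj_mul, conj_mul, (show Commute y o from h2).inv_right.eq]
  have hzt : z * τ * z⁻¹ = τ := by rw [hτ, ← S.loc.commute_z, mul_inv_cancel_right]
  obtain ⟨hzinv, hMab⟩ := inverts_of_fpf (N := M) S.loc.zz (hinvar z hzt hzC) fun w hw hwz => by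
    obtain ⟨j, hj, rfl⟩ := S.node_K (hCmem.mp (hMC hw)).1 (mul_inv_eq_iff_eq_mul.mp hwz).symm
    have h4 : el r s j ^ 2 ^ 2 = 1 := by
      have h := List.all_eq_true.mp nB_facts.1 j hj
      rw [beq_iff_eq] at h
      have hl := (S.nB_lt hj).1
      rw [show el r s j ^ 2 ^ 2 = el r s j * el r s j * (el r s j * el r s j) by
        simp only [pow_succ, pow_zero, one_mul, mul_assoc, Nat.reducePow, Nat.reduceMul],
        S.loc.el_mul hl hl, S.loc.el_mul (S.loc.mH_lt hl hl) (S.loc.mH_lt hl hl), h, S.loc.el_zero]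
    obtain ⟨i, -, hi⟩ := (Nat.dvd_prime_pow Nat.prime_two).mp (orderOf_dvd_of_pow_eq_one h4)
    rcases i with _ | i
    · exact orderOf_eq_one_iff.mp (by rw [hi, pow_zero])
    · exact absurd (Odd.of_dvd_nat hModd (Subgroup.orderOf_dvd_natCard _ hw)) (by rw [hi, pow_succ]; simp [Nat.odd_iff])
  let I : Subgroup G :=
    { carrier := {w | w ∈ M ∧ τ * w * τ⁻¹ = w⁻¹}
      mul_mem' := by
        rintro a b ⟨ha, ha'⟩ ⟨hb, hb'⟩
        exact ⟨mul_mem ha hb, by rw [← conj_mul, ha', hb', hMab _ (inv_mem ha) _ (inv_mem hb), mul_inv_rev]⟩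
      one_mem' := ⟨one_mem M, by simp⟩
      inv_mem' := by
        rintro a ⟨ha, ha'⟩
        exact ⟨inv_mem ha, by rw [← conj_inv, ha']⟩ }
  have hτxM : τ * x ∈ M := by
    obtain ⟨i, hi⟩ := exists_pow_conj_of_odd hτ2 hx2 hodd
    refine Subgroup.subset_closure ⟨(τ * x) ^ i, pow_mem (mul_mem hτC hxC) i, ?_⟩
    rw [hi]
  have hτxI : τ * x ∈ I := ⟨hτxM, conj_mul_inv hτ2 hx2⟩
  have hcomm : ∀ (a : O) (w : I), Commute (a : G) (w : G) := by
    intro a w
    have hw : (w : G) ∈ M := w.2.1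
    have haC : ∀ y ∈ C, (a : G) * y * (a : G)⁻¹ ∈ C := fun y hy =>
      mul_mem (mul_mem (hCmem.mpr ⟨IsCoreLemmas.mem_K S hO a.2, hO.2.2.2.2.2.1 _ a.2 o ho⟩) hy)
        (inv_mem (hCmem.mpr ⟨IsCoreLemmas.mem_K S hO a.2, hO.2.2.2.2.2.1 _ a.2 o ho⟩))
    have hat : (a : G) * τ * (a : G)⁻¹ = τ := by rw [(hO.1 _ a.2).2, mul_inv_cancel_right]
    have e1 := hzinv _ (hinvar a hat haC w hw)
    have e2 : z * ((a : G) * w * (a : G)⁻¹) * z⁻¹ = (a : G)⁻¹ * (w : G)⁻¹ * (a : G) := by
      calc _ = (z * a * z⁻¹) * (z * w * z⁻¹) * (z * a * z⁻¹)⁻¹ := by group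
        _ = _ := by rw [hO.2.2.2.2.1 _ a.2, hzinv _ hw, inv_inv]
    rw [e2] at e1
    have e3 : (a : G)⁻¹ * (w : G) * a = a * w * (a : G)⁻¹ := by
      calc (a : G)⁻¹ * (w : G) * a = ((a : G)⁻¹ * (w : G)⁻¹ * a)⁻¹ := by group
        _ = _ := by rw [e1, inv_inv]
    have h2c : Commute ((a : G) * a) (w : G) := by
      show (a : G) * a * w = w * (a * a)
      calc (a : G) * a * w = a * (a * w * (a : G)⁻¹) * a := by group
        _ = w * (a * a) := by rw [← e3]; group
    obtain ⟨l, hl⟩ := hO.2.1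
    have hl1 : ((a : G) * a) ^ (l + 1) = a := by
      rw [← pow_two, ← pow_mul, show 2 * (l + 1) = (2 * l + 1) + 1 by ring, pow_succ, ← hl,
        orderOf_dvd_iff_pow_eq_one.mp (Subgroup.orderOf_dvd_natCard _ a.2), one_mul]
    exact hl1 ▸ h2c.pow_left _
  have hIK : ∀ {w : G}, w ∈ I → w ∈ KB r s := fun hw => (hCmem.mp (hMC hw.1)).1
  let φ : O × I →* KB r s :=
    { toFun := fun p => ⟨(p.1 : G) * p.2, mul_mem (IsCoreLemmas.mem_K S hO p.1.2) (hIK p.2.2)⟩
      map_one' := Subtype.ext (by simp)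
      map_mul' := fun p q => Subtype.ext (by
        show (p.1 * q.1 : G) * (p.2 * q.2) = p.1 * p.2 * (q.1 * q.2)
        calc (p.1 * q.1 : G) * (p.2 * q.2) = p.1 * ((q.1 : G) * p.2) * q.2 := by group
          _ = _ := by rw [(hcomm q.1 p.2).eq]; group) }
  have hφ : Function.Injective φ := by
    refine (injective_iff_map_eq_one φ).mpr fun p hp => ?_
    have h : (p.1 : G) * p.2 = 1 := congrArg Subtype.val hp
    have e : (p.2 : G) = (p.1 : G)⁻¹ := eq_inv_of_mul_eq_one_right h
    have h1 : τ * (p.2 : G) * τ⁻¹ = (p.2 : G)⁻¹ := p.2.2.2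
    rw [e, hτ, ← (hO.1 _ (inv_mem p.1.2)).2, mul_inv_cancel_right, inv_inv] at h1
    have h2 := odd_fix hO p.1.2 h1
    exact Prod.ext (Subtype.ext h2) (Subtype.ext (by rw [e, h2, inv_one]; rfl))
  have hd1 := Subgroup.card_dvd_of_injective φ hφ
  rw [Nat.card_prod, (S.sizes hO hG).1] at hd1
  set n := Nat.card O with hn
  have hn0 : 0 < n := Nat.card_pos
  have hI1 : Nat.card I ∣ 16 * (n + 2) := by
    rw [show 16 * (n * (n + 2)) = n * (16 * (n + 2)) by ring] at hd1
    exact Nat.dvd_of_mul_dvd_mul_left hn0 hd1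
  have hIodd : Odd (Nat.card I) := Odd.of_dvd_nat hModd (Subgroup.card_dvd_of_le fun w hw => hw.1)
  have hI2 : Nat.card I ∣ 8 * n := by
    obtain ⟨k, hk, hke⟩ := S.kc_nodes.2.2.2.2.1
    have hcard : Nat.card (KB r s ⊓ Subgroup.centralizer ({el r s 52} : Set G) : Subgroup G) = 8 * n := by
      rw [hn, ← IsCoreLemmas.card_Y S hO]
      refine (Nat.card_congr (Equiv.subtypeEquiv (MulAut.conj k).toEquiv fun y => ?_)).symm
      show _ ↔ k * y * k⁻¹ ∈ KB r s ⊓ Subgroup.centralizer ({el r s 52} : Set G)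
      rw [Subgroup.mem_inf, Subgroup.mem_centralizer_singleton_iff, ← hke, conj_mul, conj_mul,
        mul_left_inj, mul_right_inj]
      exact and_congr_left fun _ => ⟨fun h => mul_mem (mul_mem hk h) (inv_mem hk),
        fun h => by simpa [mul_assoc] using mul_mem (mul_mem (inv_mem hk) h) hk⟩
    rw [← hcard]
    refine Subgroup.card_dvd_of_le fun w hw => Subgroup.mem_inf.mpr ⟨hIK hw, Subgroup.mem_centralizer_singleton_iff.mpr ?_⟩
    have hw' : el r s 52 * w * (el r s 52)⁻¹ = w := by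
      rw [← prod_nodes.2.2.2.2.2.1, ← S.loc.el_mul (by norm_num) (by norm_num), ← S.loc.z_eq, mul_inv_rev]
      calc _ = z * (τ * w * τ⁻¹) * z⁻¹ := by rw [hτ]; group
        _ = w := by rw [hw.2, ← conj_inv, hzinv w hw.1, inv_inv]
    exact (mul_inv_eq_iff_eq_mul.mp hw').symm
  have cop : ∀ k : ℕ, (Nat.card I).Coprime (2 ^ k) := fun k => Nat.Coprime.pow_right k hIodd.coprime_two_right
  have d1 : Nat.card I ∣ n := (cop 3).dvd_of_dvd_mul_left hI2
  have d2 : Nat.card I ∣ n + 2 := (cop 4).dvd_of_dvd_mul_left hI1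
  have d3 : Nat.card I ∣ 2 := (Nat.dvd_add_right d1).mp d2
  have hI : Nat.card I = 1 := by
    rcases (Nat.dvd_prime Nat.prime_two).mp d3 with h | h
    · exact h
    · rw [h] at hIodd; exact absurd hIodd (by decide)
  rw [Subgroup.card_eq_one] at hI
  rw [hI, Subgroup.mem_bot] at hτxI
  refine hne' ?_
  rw [eq_inv_of_mul_eq_one_right hτxI, Invol.inv_eq_self hτ2]

theorem core_dvd_three : Nat.card O ∣ 3 := by
  classical
  let T := {x : G // KC r s (el r s 167) x ∧ x ≠ el r s 167}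
  have fix : ∀ {a : G}, a ∈ O → a * el r s 167 * a⁻¹ = el r s 167 := fun ha => by
    rw [(hO.1 _ ha).2, mul_inv_cancel_right]
  letI : MulAction O T :=
    { smul := fun a x => ⟨(a : G) * x.1 * (a : G)⁻¹, x.2.1.trans ⟨a, IsCoreLemmas.mem_K S hO a.2, rfl⟩, fun h =>
        x.2.2 (mul_left_cancel (mul_right_cancel (h.trans (fix a.2).symm)))⟩
      one_smul := fun x => Subtype.ext (show (1 : G) * x.1 * 1⁻¹ = x.1 by simp)
      mul_smul := fun a b x => Subtype.ext (show (a * b : G) * x.1 * (a * b : G)⁻¹ = a * (b * x.1 * (b : G)⁻¹) * (a : G)⁻¹ by group) }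
  have hfree : ∀ x : T, MulAction.stabilizer O x = ⊥ := by
    intro x
    rw [Subgroup.eq_bot_iff_forall]
    intro a ha
    by_contra hne
    have h : (a : G) * x.1 * (a : G)⁻¹ = x.1 := congrArg Subtype.val (MulAction.mem_stabilizer_iff.mp ha)
    exact x.2.2 (S.semireg hO hG a.2 (fun e => hne (Subtype.ext e)) x.2.1 (mul_inv_eq_iff_eq_mul.mp h).symm)
  have hT : Nat.card T + 1 = (kcl r s (el r s 167)).card := by
    have h1 : Nat.card T = ((kcl r s (el r s 167)).erase (el r s 167)).card := by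
      rw [← Fintype.card_coe, ← Nat.card_eq_fintype_card]
      exact Nat.card_congr (Equiv.subtypeEquivRight fun x => by rw [Finset.mem_erase, mem_kcl]; exact and_comm)
    rw [h1, Finset.card_erase_add_one (mem_kcl.mpr (KC.refl _))]
  have hdvd : Nat.card O ∣ Nat.card T := by
    haveI : Fintype (MulAction.orbitRel.Quotient O T) := Fintype.ofFinite _
    rw [Nat.card_congr (MulAction.selfEquivSigmaOrbits O T), Nat.card_sigma]
    refine Finset.dvd_sum fun w _ => ?_
    rw [Nat.card_congr (MulAction.orbitEquivQuotientStabilizer O _), ← Subgroup.index_eq_card, hfree,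
      Subgroup.index_bot]
  rw [(S.sizes hO hG).2.1] at hT
  have : Nat.card T = 2 * Nat.card O + 3 := by omega
  rw [this] at hdvd
  exact (Nat.dvd_add_right (dvd_mul_left _ _)).mp hdvd

theorem card_G : Nat.card G =
    16 * (Nat.card O * (Nat.card O + 2)) * 240 + 192 * cnt r s z (el r s 177) (el r s 59) := by
  have hb2 : orderOf (el r s 59) = 2 := S.ord_node (by decide)
  have hordc : ∀ {p : G} {x : G}, IsConj x p → orderOf p = orderOf x := fun h => by
    obtain ⟨q, rfl⟩ := isConj_iff.mp h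
    exact Invol.orderOf_conj_eq q _
  have hform := CfsgLib.BrauerFowler.order_formula S.loc.zord hb2 S.loc.not_conj_b (fun t ht => S.all_invol hG ht)
  have h1 : Nat.card {q : G × G // IsConj z q.1 ∧ IsConj (el r s 59) q.2 ∧ z ∈ Subgroup.zpowers (q.1 * q.2)} = 240 := by
    rw [← k_counts.2.2.2.2]
    have e1 : ∀ {i}, i ∈ 41 :: (clsA ++ clsC) → i ∈ 41 :: (clsA ++ clsB ++ clsC) := fun hi => by
      simp only [List.mem_cons, List.mem_append] at hi ⊢; rcases hi with h | h | h <;> simp [h]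
    have e2 : ∀ {i}, i ∈ clsB → i ∈ 41 :: (clsA ++ clsB ++ clsC) := fun hi => by simp [hi]
    refine S.loc.card_pairs (by norm_num) (fun x hx => (S.loc.cls_lt (e1 hx)).1) (fun x hx => (S.loc.cls_lt (e2 hx)).1)
      (by decide) (by decide) fun q => ?_
    constructor
    · rintro ⟨hp, hq, hm⟩
      obtain ⟨c1, c2⟩ := commute_of_mem_zpowers ((hordc hp).trans S.loc.zord) ((hordc hq).trans hb2) S.loc.zord hm
      obtain ⟨i, hi, hie⟩ := S.loc.invol_node c1 ((hordc hp).trans S.loc.zord)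
      obtain ⟨l, hl, hle⟩ := S.loc.invol_node c2 ((hordc hq).trans hb2)
      exact ⟨⟨i, (S.zclass hG hi).1.mp (hie ▸ hp), hie⟩, ⟨l, (S.zclass hG hl).2.mp (hle ▸ hq), hle⟩, S.loc.z_eq ▸ hm⟩
    · rintro ⟨⟨i, hi, hie⟩, ⟨l, hl, hle⟩, hm⟩
      exact ⟨hie ▸ (S.zclass hG (e1 hi)).1.mpr hi, hle ▸ (S.zclass hG (e2 hl)).2.mpr hl, S.loc.z_eq.symm ▸ hm⟩
  have h2 : Nat.card {q : G × G // IsConj z q.1 ∧ IsConj (el r s 59) q.2 ∧ el r s 59 ∈ Subgroup.zpowers (q.1 * q.2)} =
      cnt r s z (el r s 177) (el r s 59) := by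
    refine Nat.card_congr (Equiv.subtypeEquivRight fun q => ?_)
    have hB : ∀ {i}, i ∈ [177, 167, 190] → IsConj (el r s 59) (el r s i) := fun hi =>
      S.loc.isConj_B (by fin_cases hi <;> decide)
    constructor
    · rintro ⟨hp, hq, hm⟩
      have hp2 := (hordc hp).trans S.loc.zord
      have hq2 := (hordc hq).trans hb2
      obtain ⟨c1, c2⟩ := commute_of_mem_zpowers hp2 hq2 hb2 hm
      have hpz : KC r s z q.1 := by
        rcases S.invol_K hG (mem_KB.mpr c1) hp2 with h | h | h | h | h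
        · exact absurd (h ▸ hp) S.loc.not_conj_b
        · exact h
        all_goals exact absurd (hp.trans ((hB (by simp)).trans h.isConj).symm) S.loc.not_conj_b
      refine ⟨mem_kcl.mpr hpz, mem_kcl.mpr ?_, hm⟩
      rcases S.invol_K hG (mem_KB.mpr c2) hq2 with h | h | h | h | h
      · exfalso
        rw [h] at hm
        obtain ⟨y, hy, hye⟩ := mem_zpowers_mul_invol (mul_self_eq_one hb2) c1 hm
        have hy' : y = 1 ∨ y = q.1 := by
          obtain ⟨y', hy', e⟩ := mem_zpowers_mul_invol (x := 1) (t := q.1) (mul_self_eq_one hp2) (by simp)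
            (by rwa [one_mul])
          obtain ⟨i, rfl⟩ := Subgroup.mem_zpowers_iff.mp hy'
          rwa [one_zpow, one_mul] at e
        rcases hye with e | e <;> rcases hy' with e' | e' <;> rw [e'] at e
        · exact ne_one hb2 e
        · exact S.loc.not_conj_b (e ▸ hp)
        · have := S.loc.not_conj_b
          obtain ⟨i, hi⟩ := Subgroup.mem_zpowers_iff.mp hm
          have hw : (q.1 * el r s 59) * (q.1 * el r s 59) = 1 := by
            calc _ = q.1 * (el r s 59 * q.1) * el r s 59 := by group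
              _ = 1 := by rw [← c1, mul_assoc, mul_assoc, mul_self_eq_one hb2, mul_one, mul_self_eq_one hp2]
          obtain ⟨y', hy'', e''⟩ := mem_zpowers_mul_invol (x := 1) hw (by simp) (by rwa [one_mul])
          obtain ⟨i', rfl⟩ := Subgroup.mem_zpowers_iff.mp hy''
          rw [one_zpow, one_mul] at e''
          rcases e'' with e'' | e''
          · exact ne_one hb2 e''
          · exact ne_one hp2 (mul_eq_right.mp e''.symm)
        · exact ne_one hp2 (mul_eq_right.mp e.symm)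
      · exact absurd (h.isConj.trans hq.symm) S.loc.not_conj_b
      · exact h
      all_goals
        exfalso
        obtain ⟨hqK, -⟩ := S.kcl_props (S.nB_lt (by decide)).2 (S.ord_node (by decide)) (mem_kcl.mpr h)
        have hne : q.2 ≠ el r s 59 := fun e => by
          have := S.kc_b ((e ▸ h).symm)
          exact absurd (S.loc.el_inj (by norm_num) (by norm_num) this) (by norm_num)
        have h1 := S.b_pow (S.kcl_props S.z_mem S.loc.zord (mem_kcl.mpr hpz)).1 hqK hp2 hq2 hm hne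
        have h2 := h.mul_b
        rw [S.loc.el_mul (by norm_num) (by norm_num)] at h2
        refine S.loc.not_conj_B ?_ ((hpz.trans h1).trans h2.symm).isConj
        decide +kernel
    · rintro ⟨hp, hq, hm⟩
      exact ⟨(mem_kcl.mp hp).isConj, (hB (by simp)).trans (mem_kcl.mp hq).isConj, hm⟩
  rw [h1, h2, S.loc.card] at hform
  rw [hform, ← (S.sizes hO hG).1]
  rfl

theorem order : Nat.card O = 3 ∧ Nat.card (KB r s) = 240 ∧ Nat.card G = 95040 := by
  classical
  haveI := Fintype.ofFinite G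
  have hordc' : ∀ {p x : G}, IsConj x p → orderOf p = orderOf x := fun h => by
    obtain ⟨q, rfl⟩ := isConj_iff.mp h
    exact Invol.orderOf_conj_eq q _
  obtain ⟨hK, -, hN⟩ := S.sizes hO hG
  have hGc := S.card_G hO hG
  rcases (Nat.dvd_prime Nat.prime_three).mp (S.core_dvd_three hO hG) with h | h
  · exfalso
    rw [h] at hK hN hGc
    have hG' : Nat.card G = 12096 := by omega
    set Z := Finset.univ.filter fun x : G => IsConj z x with hZ
    have hZc : Z.card = 63 := by
      have hc := CfsgLib.BrauerFowler.card_class_mul z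
      rw [S.loc.card, hG', Nat.card_eq_fintype_card, Fintype.card_subtype, ← hZ] at hc
      omega
    set P := (Z ×ˢ Z).filter fun q : G × G => (q.1 * q.2) * (q.1 * q.2) ∈ Z with hP
    have hup : P.card ≤ 63 * 62 := by
      have hle : P ⊆ Z.offDiag := by
        intro q hq
        simp only [hP, Finset.mem_filter, Finset.mem_product] at hq
        refine Finset.mem_offDiag.mpr ⟨hq.1.1, hq.1.2, fun e => ?_⟩
        have h2 : orderOf q.2 = 2 := by
          obtain ⟨k, hk⟩ := isConj_iff.mp (Finset.mem_filter.mp hq.1.2).2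
          rw [← hk, Invol.orderOf_conj_eq, S.loc.zord]
        have h1 := (Finset.mem_filter.mp hq.2).2
        rw [e, mul_self_eq_one h2, one_mul] at h1
        obtain ⟨k, hk⟩ := isConj_iff.mp h1.symm
        rw [mul_one, mul_inv_cancel] at hk
        exact ne_one S.loc.zord hk.symm
      have := Finset.card_le_card hle
      rw [Finset.offDiag_card, hZc] at this
      omega
    have hlow : P.card = 63 * 96 := by
      rw [Finset.card_eq_sum_card_fiberwise (s := P) (f := fun q : G × G => (q.1 * q.2) * (q.1 * q.2)) (t := Z)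
        fun q hq => (Finset.mem_filter.mp hq).2, Finset.sum_const_nat (m := 96) fun j hj => ?_, hZc]
      obtain ⟨k, hk⟩ := isConj_iff.mp (Finset.mem_filter.mp hj).2
      have hmem : ∀ {x : G}, x ∈ Z ↔ IsConj z x := fun {x} => by simp [hZ]
      rw [← sq_pairs]
      set l := ((41 :: (clsA ++ clsC)).flatMap fun x => (41 :: (clsA ++ clsC)).map fun y => (x, y)).filter
        fun p => Nat.beq (mH (mH p.1 p.2) (mH p.1 p.2)) 41
      have hlist : ∀ {p : Nat × Nat}, p ∈ l ↔ p.1 ∈ 41 :: (clsA ++ clsC) ∧ p.2 ∈ 41 :: (clsA ++ clsC) ∧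
          mH (mH p.1 p.2) (mH p.1 p.2) = 41 := fun {p} => by
        simp only [l, List.mem_filter, List.mem_flatMap, List.mem_map, Nat.beq_eq]
        constructor
        · rintro ⟨⟨x, hx, y, hy, rfl⟩, h⟩; exact ⟨hx, hy, h⟩
        · rintro ⟨hx, hy, h⟩; exact ⟨⟨_, hx, _, hy, rfl⟩, h⟩
      have e1 : ∀ {i}, i ∈ 41 :: (clsA ++ clsC) → i ∈ 41 :: (clsA ++ clsB ++ clsC) := fun hi => by
        simp only [List.mem_cons, List.mem_append] at hi ⊢; rcases hi with h | h | h <;> simp [h]
      rw [← List.toFinset_card_of_nodup (l := l) (by decide +kernel)]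
      refine (Finset.card_bij (fun p _ => (k * el r s p.1 * k⁻¹, k * el r s p.2 * k⁻¹)) ?_ ?_ ?_).symm
      · intro p hp
        obtain ⟨hx, hy, h⟩ := hlist.mp (List.mem_toFinset.mp hp)
        have hx' := e1 hx
        have hy' := e1 hy
        have cx : IsConj z (el r s p.1) := (S.zclass hG hx').1.mpr hx
        have cy : IsConj z (el r s p.2) := (S.zclass hG hy').1.mpr hy
        have hsq : k * el r s p.1 * k⁻¹ * (k * el r s p.2 * k⁻¹) * (k * el r s p.1 * k⁻¹ * (k * el r s p.2 * k⁻¹)) = j := by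
          rw [conj_mul, conj_mul, S.loc.el_mul (S.loc.cls_lt hx').1 (S.loc.cls_lt hy').1,
            S.loc.el_mul (S.loc.mH_lt (S.loc.cls_lt hx').1 (S.loc.cls_lt hy').1)
              (S.loc.mH_lt (S.loc.cls_lt hx').1 (S.loc.cls_lt hy').1), h, ← S.loc.z_eq, hk]
        simp only [hP, Finset.mem_filter, Finset.mem_product, hmem]
        exact ⟨⟨⟨cx.trans (isConj_iff.mpr ⟨k, rfl⟩), cy.trans (isConj_iff.mpr ⟨k, rfl⟩)⟩,
          hsq.symm ▸ hmem.mp hj⟩, hsq⟩
      · intro p hp p' hp' he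
        obtain ⟨hx, hy, -⟩ := hlist.mp (List.mem_toFinset.mp hp)
        obtain ⟨hx', hy', -⟩ := hlist.mp (List.mem_toFinset.mp hp')
        have i1 := mul_left_cancel (mul_right_cancel (congrArg Prod.fst he))
        have i2 := mul_left_cancel (mul_right_cancel (congrArg Prod.snd he))
        exact Prod.ext (S.loc.el_inj (S.loc.cls_lt (e1 hx)).1 (S.loc.cls_lt (e1 hx')).1 i1)
          (S.loc.el_inj (S.loc.cls_lt (e1 hy)).1 (S.loc.cls_lt (e1 hy')).1 i2)
      · intro q hq
        simp only [hP, Finset.mem_filter, Finset.mem_product, hmem] at hq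
        obtain ⟨⟨⟨hx, hy⟩, -⟩, hsq⟩ := hq
        set x := k⁻¹ * q.1 * k with hxdef
        set y := k⁻¹ * q.2 * k with hydef
        have hxc : IsConj z x := hx.trans (isConj_iff.mpr ⟨k⁻¹, by rw [hxdef, inv_inv]⟩)
        have hyc : IsConj z y := hy.trans (isConj_iff.mpr ⟨k⁻¹, by rw [hydef, inv_inv]⟩)
        have hx2 := (hordc' hxc).trans S.loc.zord
        have hy2 := (hordc' hyc).trans S.loc.zord
        have hz' : (x * y) * (x * y) = z := by
          calc x * y * (x * y) = k⁻¹ * (q.1 * q.2 * (q.1 * q.2)) * k := by rw [hxdef, hydef]; group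
            _ = z := by rw [hsq, ← hk]; group
        obtain ⟨c1, c2⟩ := commute_of_mem_zpowers hx2 hy2 S.loc.zord
          (by rw [← hz']; exact mul_mem (Subgroup.mem_zpowers _) (Subgroup.mem_zpowers _))
        obtain ⟨i, hi, hie⟩ := S.loc.invol_node c1 hx2
        obtain ⟨i', hi', hie'⟩ := S.loc.invol_node c2 hy2
        have hlt := (S.loc.cls_lt hi).1
        have hlt' := (S.loc.cls_lt hi').1
        refine ⟨(i, i'), List.mem_toFinset.mpr (hlist.mpr ⟨(S.zclass hG hi).1.mp (hie ▸ hxc),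
          (S.zclass hG hi').1.mp (hie' ▸ hyc), ?_⟩), ?_⟩
        · refine S.loc.el_inj (S.loc.mH_lt (S.loc.mH_lt hlt hlt') (S.loc.mH_lt hlt hlt')) (by norm_num) ?_
          rw [← S.loc.el_mul (S.loc.mH_lt hlt hlt') (S.loc.mH_lt hlt hlt'), ← S.loc.el_mul hlt hlt', ← hie, ← hie',
            hz', ← S.loc.z_eq]
        · refine Prod.ext ?_ ?_
          · show k * el r s i * k⁻¹ = q.1; rw [← hie, hxdef]; group
          · show k * el r s i' * k⁻¹ = q.2; rw [← hie', hydef]; group
    omega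
  · rw [h] at hK hN hGc
    exact ⟨h, by omega, by omega⟩

end Std

end CfsgLib.M12U
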