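import Cfsg.Agent.M12U.Triple
import Cfsg.Agent.M12U.Counting

/-!
The centralizer of the second involution: Sylow subgroup, classes of involutions, and the centralizer of `167` in it.
-/

set_option autoImplicit false
set_option linter.style.haveILetI false
set_option linter.unusedSectionVars false
set_option maxRecDepth 100000

namespace CfsgLib.M12U

open CfsgLib.Coset CfsgLib.Invol

/-- The centralizer of the second involution. -/
def KB {G : Type*} [Group G] (r s : G) : Subgroup G := Subgroup.centralizer ({el r s 59} : Set G)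

/-- Conjugacy under the centralizer of the second involution. -/
def KC {G : Type*} [Group G] (r s x y : G) : Prop := ∃ k ∈ KB r s, k * x * k⁻¹ = y

/-- The nodes commuting with `41`, `59` and `167`. -/
def nE2 : List Nat := [0, 41, 52, 59, 147, 167, 177, 190]

theorem nB_facts :
    (nB.all fun j => mH (mH j j) (mH j j) == 0) = true ∧
    (nB.all fun j => !(invN j) || [41, 152, 189, 59, 177, 67, 159, 167, 52, 190, 147].contains j) = true ∧
    (nB.all fun j => nB.all fun i => nB.contains (mH i j)) = true ∧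
    (nB.all fun j => nB.contains (invH j)) = true ∧
    (nB.all fun j => !([152, 189].contains j) || nB.any fun i => !(comH i j)) = true ∧
    (nB.any fun i => Nat.beq (cjH i 167) 52) = true ∧
    (nB.all fun j => !(Nat.beq (cjH j 167) 190)) = true ∧
    (nB.all fun j => !(comH j 167) || nE2.contains j) = true ∧
    (nE2.all fun j => nB.contains j && comH j 167 && mH j j == 0) = true ∧
    (nE2.all fun j => nE2.all fun i => nE2.contains (mH i j)) = true ∧
    (nE2.all fun j => !([152, 189].contains j)) = true := by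
  decide +kernel

theorem prod_nodes : mH 41 59 = 177 ∧ mH 189 59 = 159 ∧ mH 152 59 = 67 ∧ mH 167 59 = 190 ∧ mH 52 59 = 147 ∧
    mH 41 167 = 52 ∧ mH 190 59 = 167 := by decide +kernel

variable {G : Type*} [Group G] {z r s g : G}

theorem mem_KB {x : G} : x ∈ KB r s ↔ x * el r s 59 = el r s 59 * x := Subgroup.mem_centralizer_singleton_iff

theorem KC.refl (x : G) : KC r s x x := ⟨1, one_mem _, by group⟩

theorem KC.symm {x y : G} (h : KC r s x y) : KC r s y x := by
  obtain ⟨k, hk, rfl⟩ := h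
  exact ⟨k⁻¹, inv_mem hk, by group⟩

theorem KC.trans {x y w : G} (h : KC r s x y) (h' : KC r s y w) : KC r s x w := by
  obtain ⟨k, hk, rfl⟩ := h
  obtain ⟨l, hl, rfl⟩ := h'
  exact ⟨l * k, mul_mem hl hk, by group⟩

theorem KC.isConj {x y : G} (h : KC r s x y) : IsConj x y := by
  obtain ⟨k, -, rfl⟩ := h; exact isConj_iff.mpr ⟨k, rfl⟩

theorem KC.mul_b {x y : G} (h : KC r s x y) : KC r s (x * el r s 59) (y * el r s 59) := by
  obtain ⟨k, hk, rfl⟩ := h
  refine ⟨k, hk, ?_⟩
  have hb : el r s 59 * k⁻¹ = k⁻¹ * el r s 59 := (Commute.inv_left (mem_KB.mp hk)).eq.symm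
  calc k * (x * el r s 59) * k⁻¹ = k * x * (el r s 59 * k⁻¹) := by group
    _ = k * x * k⁻¹ * el r s 59 := by rw [hb]; group

namespace Std

variable (S : Std z r s g)

include S

theorem gb : g * el r s 59 * g⁻¹ = el r s 59 := by rw [S.act 59 (by decide), phi0_ok.2.1]

theorem g_mem : g ∈ KB r s := mem_KB.mpr (mul_inv_eq_iff_eq_mul.mp S.gb)

theorem gz : g * z * g⁻¹ = el r s 189 := by rw [S.loc.z_eq, S.act 41 (by decide), phi0_ok.2.2.1]

theorem ga : g * el r s 189 * g⁻¹ = el r s 152 := by rw [S.act 189 (by decide), phi0_ok.2.2.2.1]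

theorem nB_lt {j : Nat} (hj : j ∈ nB) : j < 192 ∧ el r s j ∈ KB r s := by
  have hlt : j < 192 := by
    simpa using List.all_eq_true.mp (show (nB.all fun i => Nat.blt i 192) = true by decide) j hj
  refine ⟨hlt, mem_KB.mpr (S.loc.el_comm hlt (by norm_num) ?_)⟩
  have := List.all_eq_true.mp nB_ok.2.2 j (List.mem_range.mpr hlt)
  rw [List.contains_iff_mem.mpr hj] at this
  simpa using this

theorem node_K {x : G} (hx : x ∈ KB r s) (hxz : x * z = z * x) : ∃ j ∈ nB, x = el r s j := by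
  obtain ⟨j, hj, rfl⟩ := S.loc.el_mem_of_commute hxz
  have hc := (S.loc.el_commute_iff hj (by norm_num)).mp (mem_KB.mp hx)
  have := List.all_eq_true.mp nB_ok.2.2 j (List.mem_range.mpr hj)
  rw [hc] at this
  exact ⟨j, by simpa using this, rfl⟩

theorem z_mem : z ∈ KB r s := by
  have := (S.nB_lt (j := 41) (by decide)).2
  rwa [← S.loc.z_eq] at this

theorem card_Kz [Finite G] : Nat.card {y : G // y ∈ KB r s ∧ y * z = z * y} = 16 := by
  rw [← cent_sizes.2.2.1, ← S.loc.card_cent2 (by norm_num : 59 < 192)]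
  exact Nat.card_congr (Equiv.subtypeEquivRight fun y => by rw [mem_KB]; exact and_comm)

variable [Finite G] (hG : Fused z)

include hG

theorem conj_c : IsConj z (el r s 124) := by
  have h164 := S.act 164 (by decide)
  have hC : fD phi0 164 ∈ clsC := phi0_ok.1
  have h : IsConj (el r s 164) (el r s (fD phi0 164)) := isConj_iff.mpr ⟨g, h164⟩
  exact (S.loc.conj_a hG).trans (((S.loc.isConj_A phi0_ok.2.2.2.2.2).trans h).trans (S.loc.isConj_C hC).symm)

theorem zclass {i : Nat} (hi : i ∈ 41 :: (clsA ++ clsB ++ clsC)) :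
    (IsConj z (el r s i) ↔ i ∈ 41 :: (clsA ++ clsC)) ∧ (IsConj (el r s 59) (el r s i) ↔ i ∈ clsB) := by
  have L := S.loc
  have hza := L.conj_a hG
  have hzc := S.conj_c hG
  simp only [List.mem_cons, List.mem_append] at hi ⊢
  rcases hi with rfl | (h | h) | h
  · refine ⟨⟨fun _ => Or.inl rfl, fun _ => L.z_eq ▸ IsConj.refl z⟩, ⟨fun hc => ?_, fun h => absurd h (by decide)⟩⟩
    exact absurd (L.z_eq ▸ hc.symm) L.not_conj_b
  · refine ⟨⟨fun _ => Or.inr (Or.inl h), fun _ => hza.trans (L.isConj_A h)⟩, ⟨fun hc => ?_, fun hB => ?_⟩⟩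
    · exact absurd ((hza.trans (L.isConj_A h)).trans hc.symm) L.not_conj_b
    · exact absurd (hza.trans (L.isConj_A h)) (L.not_conj_B hB)
  · refine ⟨⟨fun hc => absurd hc (L.not_conj_B h), ?_⟩, ⟨fun _ => h, fun _ => L.isConj_B h⟩⟩
    rintro (e | h' | h')
    · exact absurd (e ▸ h : (41 : Nat) ∈ clsB) (by decide)
    · exact absurd (hza.trans (L.isConj_A h')) (L.not_conj_B h)
    · exact absurd (hzc.trans (L.isConj_C h')) (L.not_conj_B h)
  · refine ⟨⟨fun _ => Or.inr (Or.inr h), fun _ => hzc.trans (L.isConj_C h)⟩, ⟨fun hc => ?_, fun hB => ?_⟩⟩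
    · exact absurd ((hzc.trans (L.isConj_C h)).trans hc.symm) L.not_conj_b
    · exact absurd (hzc.trans (L.isConj_C h)) (L.not_conj_B hB)

omit hG in
/-- A 2-element of `KB` is conjugate in it to an element commuting with `z`. -/
theorem conj_into {x : G} (hx : x ∈ KB r s) {k : ℕ} (hk : x ^ 2 ^ k = 1) :
    ∃ l ∈ KB r s, l * x * l⁻¹ * z = z * (l * x * l⁻¹) := by
  haveI : Fact (Nat.Prime 2) := ⟨Nat.prime_two⟩
  set K := KB r s
  let B : Subgroup K := Subgroup.centralizer ({⟨z, S.z_mem⟩} : Set K)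
  have hBmem : ∀ y : K, y ∈ B ↔ (y : G) * z = z * y := fun y => by
    rw [Subgroup.mem_centralizer_singleton_iff, Subtype.ext_iff]
    rfl
  have hB16 : Nat.card B = 2 ^ 4 := by
    rw [show 2 ^ 4 = 16 from rfl, ← S.card_Kz]
    exact Nat.card_congr
      { toFun := fun y => ⟨(y.1 : G), y.1.2, (hBmem y.1).mp y.2⟩
        invFun := fun y => ⟨⟨y.1, y.2.1⟩, (hBmem _).mpr y.2.2⟩
        left_inv := fun y => rfl
        right_inv := fun y => rfl }
  obtain ⟨P, hBP⟩ := (IsPGroup.of_card hB16).exists_le_sylow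
  have hPB : B = (P : Subgroup K) := by
    by_contra hne
    obtain ⟨y, -, hyB, hy⟩ := exists_normalizer_gt P.2 hBP hne
    have hzB : (⟨z, S.z_mem⟩ : K) ∈ B := (hBmem _).mpr rfl
    have hw := (hBmem _).mp ((hy _).mp hzB)
    obtain ⟨j, hjB, hje⟩ := S.node_K (SetLike.coe_mem _) hw
    have hje' : (y : G) * z * (y : G)⁻¹ = el r s j := hje
    have hjlt := (S.nB_lt hjB).1
    have hinv : invN j = true := S.loc.invN_ord hjlt (hje' ▸ (Invol.orderOf_conj_eq _ _).trans S.loc.zord)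
    have hj11 := List.all_eq_true.mp nB_facts.2.1 j hjB
    rw [hinv] at hj11
    simp only [Bool.not_true, Bool.false_or, List.contains_iff_mem] at hj11
    have hcent : ∀ i ∈ nB, comH i j = true := by
      intro i hi
      obtain ⟨hilt, hiK⟩ := S.nB_lt hi
      have hiB : (⟨el r s i, hiK⟩ : K) ∈ B := (hBmem _).mpr (S.loc.commute_z i)
      obtain ⟨u, hu, hue⟩ : ∃ u ∈ B, y * u * y⁻¹ = ⟨el r s i, hiK⟩ := by
        refine ⟨y⁻¹ * ⟨el r s i, hiK⟩ * y, (hy _).mpr ?_, by group⟩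
        simpa [mul_assoc] using hiB
      have hue' : (y : G) * u * (y : G)⁻¹ = el r s i := congrArg Subtype.val hue
      refine (S.loc.el_commute_iff hilt hjlt).mp ?_
      rw [← hue', ← hje', conj_mul, conj_mul, (hBmem u).mp hu]
    have hzj : IsConj z (el r s j) := isConj_iff.mpr ⟨y, hje'⟩
    have hj41 : j = 41 := by
      fin_cases hj11
      · rfl
      · exact absurd hcent (by decide +kernel)
      · exact absurd hcent (by decide +kernel)
      all_goals exact absurd hzj (S.loc.not_conj_B (by decide))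
    rw [hj41, ← S.loc.z_eq] at hje'
    exact hyB ((hBmem y).mpr (mul_inv_eq_iff_eq_mul.mp hje'))
  have hxp : IsPGroup 2 (Subgroup.zpowers (⟨x, hx⟩ : K)) := by
    refine IsPGroup.of_card (n := Nat.log 2 (orderOf (⟨x, hx⟩ : K))) ?_
    obtain ⟨j, -, hj⟩ := (Nat.dvd_prime_pow Nat.prime_two).mp
      (orderOf_dvd_of_pow_eq_one (show (⟨x, hx⟩ : K) ^ 2 ^ k = 1 from Subtype.ext hk))
    rw [Nat.card_zpowers, hj, Nat.log_pow one_lt_two]
  obtain ⟨Q, hQ⟩ := hxp.exists_le_sylow
  obtain ⟨l, hl⟩ := MulAction.exists_smul_eq K Q P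
  refine ⟨l, l.2, (hBmem (l * ⟨x, hx⟩ * l⁻¹)).mp ?_⟩
  rw [hPB, ← hl]
  exact ⟨⟨x, hx⟩, hQ (Subgroup.mem_zpowers _), rfl⟩

omit hG in
/-- The second involution is no square in its centralizer. -/
theorem no_root {v : G} (hv : v ∈ KB r s) : v * v ≠ el r s 59 := by
  intro h
  have hb : el r s 59 * el r s 59 = 1 := mul_self_eq_one (S.loc.ord_cls (by decide))
  obtain ⟨l, hl, hlz⟩ := S.conj_into hv (k := 2) (by
    rw [show v ^ 2 ^ 2 = v * v * (v * v) by simp only [pow_succ, pow_zero, one_mul, mul_assoc, Nat.reducePow, Nat.reduceMul], h, hb])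
  obtain ⟨w, hw, hwe⟩ := S.loc.el_mem_of_commute hlz
  have h2 : el r s (mH w w) = el r s 59 := by
    rw [← S.loc.el_mul hw hw, ← hwe, conj_mul, h, mem_KB.mp hl, mul_inv_cancel_right]
  have := List.all_eq_true.mp square_ok.2 w (List.mem_range.mpr hw)
  rw [S.loc.el_inj (S.loc.mH_lt hw hw) (by norm_num) h2] at this
  simp at this

/-- The classes of involutions of `KB`. -/
theorem invol_K {x : G} (hx : x ∈ KB r s) (h2 : orderOf x = 2) :
    x = el r s 59 ∨ KC r s z x ∨ KC r s (el r s 177) x ∨ KC r s (el r s 167) x ∨ KC r s (el r s 190) x := by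
  obtain ⟨l, hl, hlz⟩ := S.conj_into hx (k := 1) (by rw [pow_one, sq]; exact mul_self_eq_one h2)
  obtain ⟨j, hjB, hje⟩ := S.node_K (mul_mem (mul_mem hl hx) (inv_mem hl)) hlz
  have hjlt := (S.nB_lt hjB).1
  have hinv : invN j = true := S.loc.invN_ord hjlt (hje ▸ (Invol.orderOf_conj_eq _ _).trans h2)
  have hj11 := List.all_eq_true.mp nB_facts.2.1 j hjB
  rw [hinv] at hj11
  simp only [Bool.not_true, Bool.false_or, List.contains_iff_mem] at hj11
  have back : ∀ {y : G}, KC r s y (el r s j) → KC r s y x := fun h => h.trans (KC.symm ⟨l, hl, hje⟩)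
  have k189 : KC r s z (el r s 189) := ⟨g, S.g_mem, S.gz⟩
  have k152 : KC r s z (el r s 152) := k189.trans ⟨g, S.g_mem, S.ga⟩
  have hm : ∀ {i : Nat}, i < 192 → el r s i * el r s 59 = el r s (mH i 59) := fun hi => S.loc.el_mul hi (by norm_num)
  obtain ⟨p1, p2, p3, p4, p5, -, -⟩ := prod_nodes
  have b0 : z * el r s 59 = el r s 177 := by rw [S.loc.z_eq, hm (by norm_num), p1]
  have k52 : KC r s (el r s 167) (el r s 52) := by
    obtain ⟨i, hi, hie⟩ := List.any_eq_true.mp nB_facts.2.2.2.2.2.1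
    refine ⟨el r s i, (S.nB_lt hi).2, ?_⟩
    rw [S.loc.el_conj (S.nB_lt hi).1 (by norm_num), Nat.eq_of_beq_eq_true hie]
  fin_cases hj11
  · exact Or.inr (Or.inl (back (by rw [← S.loc.z_eq]; exact KC.refl z)))
  · exact Or.inr (Or.inl (back k152))
  · exact Or.inr (Or.inl (back k189))
  · left
    have : x = l⁻¹ * el r s 59 * l := by rw [← hje]; group
    rw [this, mem_KB.mp (inv_mem hl), inv_mul_cancel_right]
  · exact Or.inr (Or.inr (Or.inl (back (KC.refl _))))
  · refine Or.inr (Or.inr (Or.inl (back ?_)))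
    have := k152.mul_b
    rwa [b0, hm (by norm_num), p3] at this
  · refine Or.inr (Or.inr (Or.inl (back ?_)))
    have := k189.mul_b
    rwa [b0, hm (by norm_num), p2] at this
  · exact Or.inr (Or.inr (Or.inr (Or.inl (back (KC.refl _)))))
  · exact Or.inr (Or.inr (Or.inr (Or.inl (back k52))))
  · exact Or.inr (Or.inr (Or.inr (Or.inr (back (KC.refl _)))))
  · refine Or.inr (Or.inr (Or.inr (Or.inr (back ?_))))
    have := k52.mul_b
    rwa [hm (by norm_num), p4, hm (by norm_num), p5] at this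

theorem all_invol {x : G} (hx : orderOf x = 2) : IsConj z x ∨ IsConj (el r s 59) x := by
  have hb2 := S.loc.ord_cls (i := 59) (by decide)
  have nodecase : ∀ {i}, i ∈ 41 :: (clsA ++ clsB ++ clsC) → IsConj z (el r s i) ∨ IsConj (el r s 59) (el r s i) := by
    intro i hi
    have := S.zclass hG hi
    simp only [List.mem_cons, List.mem_append] at hi
    rcases hi with h | (h | h) | h
    · exact Or.inl (this.1.mpr (by simp [h]))
    · exact Or.inl (this.1.mpr (by simp [h]))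
    · exact Or.inr (this.2.mpr h)
    · exact Or.inl (this.1.mpr (by simp [h]))
  by_contra hcon
  push Not at hcon
  have hev := even_orderOf_mul_of_not_isConj S.loc.zord hx hcon.1
  obtain ⟨hj2, -, -⟩ := half_props S.loc.zord hx hev
  generalize hj : (z * x) ^ (orderOf (z * x) / 2) = j at hj2
  obtain ⟨hjz, hjx⟩ := commute_of_mem_zpowers S.loc.zord hx hj2 (hj ▸ pow_mem (Subgroup.mem_zpowers _) _)
  obtain ⟨i, hi, rfl⟩ := S.loc.invol_node hjz.symm hj2
  rcases nodecase hi with h | h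
  · obtain ⟨q, hq⟩ := isConj_iff.mp h.symm
    have hq1 : q * x * q⁻¹ * z = z * (q * x * q⁻¹) := by rw [← hq, conj_mul, conj_mul, hjx]
    obtain ⟨l, hl, hle⟩ := S.loc.invol_node hq1 ((Invol.orderOf_conj_eq q x).trans hx)
    have hxc : IsConj x (el r s l) := isConj_iff.mpr ⟨q, hle⟩
    rcases nodecase hl with h' | h'
    · exact hcon.1 (h'.trans hxc.symm)
    · exact hcon.2 (h'.trans hxc.symm)
  · obtain ⟨q, hq⟩ := isConj_iff.mp h.symm
    have hq1 : q * x * q⁻¹ ∈ KB r s := by rw [mem_KB, ← hq, conj_mul, conj_mul, hjx]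
    have hxc : IsConj x (q * x * q⁻¹) := isConj_iff.mpr ⟨q, rfl⟩
    rcases S.invol_K hG hq1 ((Invol.orderOf_conj_eq q x).trans hx) with h' | h' | h' | h' | h'
    · exact hcon.2 ((h' ▸ hxc).symm)
    · exact hcon.1 (h'.isConj.trans hxc.symm)
    all_goals
      exact hcon.2 (((S.loc.isConj_B (by decide)).trans h'.isConj).trans hxc.symm)

omit hG in
theorem nE2_lt {e : Nat} (he : e ∈ nE2) : e < 192 ∧ e ∈ nB ∧
    el r s e * el r s 167 = el r s 167 * el r s e ∧ el r s e * el r s e = 1 := by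
  have := List.all_eq_true.mp nB_facts.2.2.2.2.2.2.2.2.1 e he
  simp only [Bool.and_eq_true, List.contains_iff_mem, beq_iff_eq] at this
  have hlt := (S.nB_lt this.1.1).1
  exact ⟨hlt, this.1.1, S.loc.el_comm hlt (by norm_num) this.1.2, by rw [S.loc.el_mul hlt hlt, this.2, S.loc.el_zero]⟩

omit hG in
theorem node_E {x : G} (hx : x ∈ KB r s) (ht : x * el r s 167 = el r s 167 * x) (hz : x * z = z * x) :
    ∃ e ∈ nE2, x = el r s e := by
  obtain ⟨j, hj, rfl⟩ := S.node_K hx hz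
  have := List.all_eq_true.mp nB_facts.2.2.2.2.2.2.2.1 j hj
  rw [(S.loc.el_commute_iff (S.nB_lt hj).1 (by norm_num)).mp ht] at this
  exact ⟨j, by simpa using this, rfl⟩

omit S [Finite G] hG in
/-- The structure of the centralizer of `167` in `KB`. -/
def IsCore (z r s : G) (O : Subgroup G) : Prop :=
  (∀ o ∈ O, o * el r s 59 = el r s 59 * o ∧ o * el r s 167 = el r s 167 * o) ∧
  Odd (Nat.card O) ∧
  (∀ k ∈ KB r s, k * el r s 167 = el r s 167 * k → ∀ o ∈ O, k * o * k⁻¹ ∈ O) ∧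
  (∀ y ∈ KB r s, y * el r s 167 = el r s 167 * y → ∃ o ∈ O, ∃ e ∈ nE2, y = o * el r s e) ∧
  (∀ o ∈ O, z * o * z⁻¹ = o⁻¹) ∧ (∀ o ∈ O, ∀ p ∈ O, o * p = p * o) ∧
  (∀ o ∈ O, o * z = z * o → o = 1)

theorem exists_core : ∃ O : Subgroup G, IsCore z r s O := by
  set τ := el r s 167 with hτ
  set Y := KB r s ⊓ Subgroup.centralizer ({τ} : Set G) with hY
  have hYmem : ∀ {x}, x ∈ Y ↔ x ∈ KB r s ∧ x * τ = τ * x := fun {x} => by
    rw [hY, Subgroup.mem_inf, Subgroup.mem_centralizer_singleton_iff]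
  have hzY : z ∈ Y := hYmem.mpr ⟨S.z_mem, (S.loc.commute_z 167).symm⟩
  obtain ⟨O, hOY, hodd, hOn, hdec, hinv, hab, hfix⟩ := zstar_in hzY S.loc.zord (fun x hx hxz => by
      obtain ⟨e, he, rfl⟩ := S.node_E (hYmem.mp hx).1 (hYmem.mp hx).2 hxz
      exact ⟨1, by rw [pow_one, sq]; exact (S.nE2_lt he).2.2.2⟩)
    (fun k hk hc => by
      obtain ⟨hkK, hkt⟩ := hYmem.mp (mul_mem (mul_mem hk hzY) (inv_mem hk))
      obtain ⟨e, he, hee⟩ := S.node_E hkK hkt hc
      have helt := (S.nE2_lt he).1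
      have hci : invN e = true := S.loc.invN_ord helt (hee ▸ (Invol.orderOf_conj_eq k z).trans S.loc.zord)
      have hconj : IsConj z (el r s e) := isConj_iff.mpr ⟨k, hee⟩
      rw [hee]
      fin_cases he
      · exact absurd hci (by decide +kernel)
      · exact S.loc.z_eq.symm
      all_goals exact absurd hconj (S.loc.not_conj_B (by decide)))
  refine ⟨O, fun o ho => ⟨mem_KB.mp (hYmem.mp (hOY ho)).1, (hYmem.mp (hOY ho)).2⟩, hodd,
    fun k hk hkt => hOn k (hYmem.mpr ⟨hk, hkt⟩), fun y hy hyt => ?_, hinv, hab, hfix⟩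
  obtain ⟨o, ho, c, hc, hcz, rfl⟩ := hdec y (hYmem.mpr ⟨hy, hyt⟩)
  obtain ⟨e, he, rfl⟩ := S.node_E (hYmem.mp hc).1 (hYmem.mp hc).2 hcz
  exact ⟨o, ho, e, he, rfl⟩

end Std

namespace IsCoreLemmas

open Std

variable (S : Std z r s g) {O : Subgroup G} (hO : Std.IsCore z r s O)

include S hO

theorem mem_K {o : G} (ho : o ∈ O) : o ∈ KB r s := mem_KB.mpr (hO.1 o ho).1

theorem decomp_unique [Finite G] {o o' : G} (ho : o ∈ O) (ho' : o' ∈ O) {e e' : Nat} (he : e ∈ nE2) (he' : e' ∈ nE2)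
    (h : o * el r s e = o' * el r s e') : o = o' ∧ e = e' := by
  have hlt := (S.nE2_lt he).1
  have hlt' := (S.nE2_lt he').1
  have h1 : o'⁻¹ * o = el r s e' * (el r s e)⁻¹ := by
    rw [eq_mul_inv_iff_mul_eq, mul_assoc, h, inv_mul_cancel_left]
  have h2 : o'⁻¹ * o = 1 := hO.2.2.2.2.2.2 _ (mul_mem (inv_mem ho') ho) (by
    rw [h1, S.loc.el_inv hlt, S.loc.el_mul hlt' (S.loc.invH_lt hlt)]
    exact S.loc.commute_z _)
  have h3 : o = o' := (inv_mul_eq_one.mp h2).symm
  subst h3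
  exact ⟨rfl, S.loc.el_inj hlt hlt' (mul_left_cancel h)⟩

theorem card_Y [Finite G] : Nat.card {y : G // y ∈ KB r s ∧ y * el r s 167 = el r s 167 * y} = 8 * Nat.card O := by
  classical
  let f : nE2.toFinset × O → {y : G // y ∈ KB r s ∧ y * el r s 167 = el r s 167 * y} := fun p =>
    ⟨p.2 * el r s p.1, mul_mem (mem_K S hO p.2.2) (S.nB_lt (S.nE2_lt (List.mem_toFinset.mp p.1.2)).2.1).2, by
      rw [mul_assoc, (S.nE2_lt (List.mem_toFinset.mp p.1.2)).2.2.1, ← mul_assoc, (hO.1 _ p.2.2).2, mul_assoc]⟩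
  have hf : Function.Bijective f := by
    refine ⟨fun a b h => ?_, ?_⟩
    · obtain ⟨h1, h2⟩ := decomp_unique S hO a.2.2 b.2.2 (List.mem_toFinset.mp a.1.2) (List.mem_toFinset.mp b.1.2)
        (congrArg Subtype.val h)
      exact Prod.ext (Subtype.ext h2) (Subtype.ext h1)
    · rintro ⟨y, hy, hyt⟩
      obtain ⟨o, ho, e, he, rfl⟩ := hO.2.2.2.1 y hy hyt
      exact ⟨⟨⟨e, List.mem_toFinset.mpr he⟩, ⟨o, ho⟩⟩, rfl⟩
  rw [← Nat.card_eq_of_bijective f hf, Nat.card_prod, Nat.card_eq_fintype_card, Fintype.card_coe]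
  rfl

/-- An involution of the centralizer of `167` is conjugate by the core to its node. -/
theorem invol_Y [Finite G] {y : G} (hy : y ∈ KB r s) (hyt : y * el r s 167 = el r s 167 * y) (h2 : y * y = 1) :
    ∃ p ∈ O, ∃ e ∈ nE2, y = p * el r s e * p⁻¹ ∧ y = p * p * el r s e ∧ el r s e * p * (el r s e)⁻¹ = p⁻¹ := by
  obtain ⟨o, ho, e, he, rfl⟩ := hO.2.2.2.1 y hy hyt
  obtain ⟨helt, heB, het, hee⟩ := S.nE2_lt he
  have heinv : (el r s e)⁻¹ = el r s e := inv_eq_of_mul_eq_one_right hee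
  have ho' : el r s e * o * (el r s e)⁻¹ = o⁻¹ := by
    rw [heinv, eq_inv_iff_mul_eq_one]
    have e3 : el r s e * (o * el r s e * (o * el r s e)) * (el r s e)⁻¹ = 1 := by rw [h2, mul_one, mul_inv_cancel]
    rw [heinv] at e3
    calc el r s e * o * el r s e * o = el r s e * o * el r s e * o * (el r s e * el r s e) := by rw [hee, mul_one]
      _ = 1 := by rw [← e3]; group
  obtain ⟨k, hk⟩ := hO.2.1
  have hok : o ^ (2 * k + 1) = 1 := by
    rw [← hk]
    exact orderOf_dvd_iff_pow_eq_one.mp (Subgroup.orderOf_dvd_natCard _ ho)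
  refine ⟨o ^ (k + 1), pow_mem ho _, e, he, ?_, ?_, ?_⟩
  · have hp : el r s e * o ^ (k + 1) * (el r s e)⁻¹ = (o ^ (k + 1))⁻¹ := by rw [← conj_pow, ho', inv_pow]
    have hp' : el r s e * (o ^ (k + 1))⁻¹ = o ^ (k + 1) * el r s e := by
      rw [← mul_inv_eq_iff_eq_mul, ← conj_inv, hp, inv_inv]
    rw [mul_assoc (o ^ (k + 1)), hp', ← mul_assoc, ← pow_add, show k + 1 + (k + 1) = (2 * k + 1) + 1 by ring,
      pow_succ, hok, one_mul]
  · rw [← pow_add, show k + 1 + (k + 1) = (2 * k + 1) + 1 by ring, pow_succ, hok, one_mul]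
  · rw [← conj_pow, ho', inv_pow]

theorem tau_ne [Finite G] (hG : Fused z) : ¬ KC r s (el r s 167) (el r s 190) := by
  rintro ⟨k, hk, hke⟩
  have hzc : k * z * k⁻¹ * el r s 167 = el r s 167 * (k * z * k⁻¹) := by
    have h190 : el r s 190 = el r s 167 * el r s 59 := by rw [S.loc.el_mul (by norm_num) (by norm_num), prod_nodes.2.2.2.1]
    have h1 : k * z * k⁻¹ * el r s 190 = el r s 190 * (k * z * k⁻¹) := by
      rw [← hke, conj_mul, conj_mul, ← S.loc.commute_z]
    have h2 : k * z * k⁻¹ * el r s 59 = el r s 59 * (k * z * k⁻¹) :=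
      mem_KB.mp (mul_mem (mul_mem hk S.z_mem) (inv_mem hk))
    have hbb : el r s 59 * el r s 59 = 1 := mul_self_eq_one (S.loc.ord_cls (by decide))
    have : el r s 167 = el r s 190 * el r s 59 := by rw [h190, mul_assoc, hbb, mul_one]
    rw [this]
    exact Commute.mul_right h1 h2
  obtain ⟨p, hp, e, he, hpe, -, -⟩ := invol_Y S hO (mul_mem (mul_mem hk S.z_mem) (inv_mem hk)) hzc
    (mul_self_eq_one ((Invol.orderOf_conj_eq k z).trans S.loc.zord))
  have hce : IsConj z (el r s e) := (isConj_iff.mpr ⟨k, rfl⟩ : IsConj z (k * z * k⁻¹)).trans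
    (isConj_iff.mpr ⟨p⁻¹, by rw [hpe]; group⟩)
  have he41 : e = 41 := by
    fin_cases he
    · exfalso
      obtain ⟨q, hq⟩ := isConj_iff.mp hce.symm
      rw [S.loc.el_zero, mul_one, mul_inv_cancel] at hq
      exact ne_one S.loc.zord hq.symm
    · rfl
    all_goals exact absurd hce (S.loc.not_conj_B (by decide))
  rw [he41, ← S.loc.z_eq] at hpe
  have hwz : p⁻¹ * k * z = z * (p⁻¹ * k) := by
    calc p⁻¹ * k * z = p⁻¹ * (k * z * k⁻¹) * k := by group
      _ = z * (p⁻¹ * k) := by rw [hpe]; group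
  obtain ⟨j, hj, hje⟩ := S.node_K (mul_mem (inv_mem (mem_K S hO hp)) hk) hwz
  have h190p : el r s 190 * p = p * el r s 190 := by
    rw [show el r s 190 = el r s 167 * el r s 59 by rw [S.loc.el_mul (by norm_num) (by norm_num), prod_nodes.2.2.2.1],
      mul_assoc, ← (hO.1 p hp).1, ← mul_assoc, ← (hO.1 p hp).2, mul_assoc]
  have hj' : el r s j * el r s 167 * (el r s j)⁻¹ = el r s 190 := by
    rw [← hje]
    calc p⁻¹ * k * el r s 167 * (p⁻¹ * k)⁻¹ = p⁻¹ * (k * el r s 167 * k⁻¹) * p := by group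
      _ = el r s 190 := by rw [hke, mul_assoc, h190p, inv_mul_cancel_left]
  rw [S.loc.el_conj (S.nB_lt hj).1 (by norm_num)] at hj'
  have := List.all_eq_true.mp nB_facts.2.2.2.2.2.2.1 j hj
  rw [S.loc.el_inj (S.loc.cjH_lt (S.nB_lt hj).1 (by norm_num)) (by norm_num) hj'] at this
  simp at this

end IsCoreLemmas

end CfsgLib.M12U
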