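import Cfsg.Agent.M12U.Fusion

/-!
The action of the element of order three on the centralizer of the four-group, in normal form.
-/

set_option autoImplicit false
set_option linter.style.haveILetI false
set_option linter.unusedSectionVars false
set_option maxRecDepth 100000

namespace CfsgLib.M12U

open CfsgLib.Coset CfsgLib.Invol

theorem nD_pre : (nD.all fun y => nD.contains (cjH 167 y)) = true := by decide +kernel

theorem phi0_d : (nD.all fun d =>
    !(Nat.beq (mH (mH d (fD phi0 (fD phi0 d))) (fD phi0 d)) 0) ||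
    !([8, 37, 59].all fun y => Nat.beq (cjH 167 (fD phi0 y)) (cjH d (fD phi0 (fD phi0 (cjH 167 y))))) ||
    nD.any fun x => Nat.beq (mH (invH x) (fD phi0 (fD phi0 x))) d && nT.contains (mH x 167) &&
      !(nD.contains (mH x 167))) = true := by
  decide +kernel

/-- The evaluation of a letter list at two nodes is a homomorphic image. -/
theorem candB_mem : (candA.all fun t => Nat.blt t.1 192 && Nat.blt t.2.1 192 && Nat.blt t.2.2 192) = true := by
  decide +kernel

variable {G : Type*} [Group G] {z r s : G}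

namespace Loc

variable (L : Loc z r s)

include L

theorem el_foldl : ∀ (l : List Nat) (acc : Nat), acc < 192 → (∀ i ∈ l, i < 192) →
    l.foldl mH acc < 192 ∧ el r s (l.foldl mH acc) = el r s acc * (l.map (el r s)).prod := by
  intro l
  induction l with
  | nil => intro acc ha _; exact ⟨ha, by simp⟩
  | cons i l ih =>
    intro acc ha hl
    have hi := hl i (List.mem_cons_self ..)
    obtain ⟨h1, h2⟩ := ih (mH acc i) (L.mH_lt ha hi) fun j hj => hl j (List.mem_cons_of_mem _ hj)
    refine ⟨h1, ?_⟩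
    rw [List.foldl_cons, h2, ← L.el_mul ha hi, List.map_cons, List.prod_cons, mul_assoc]

theorem fD_lt {t : Nat × Nat × Nat} (ht : t.1 < 192 ∧ t.2.1 < 192 ∧ t.2.2 < 192) (y : Nat) : fD t y < 192 :=
  (L.el_foldl _ 0 (by norm_num) fun i hi => by
    obtain ⟨l, -, rfl⟩ := List.mem_map.mp hi; exact evD_lt_aux ht l).1

theorem el_fD {t : Nat × Nat × Nat} (ht : t.1 < 192 ∧ t.2.1 < 192 ∧ t.2.2 < 192) (y : Nat) :
    el r s (fD t y) = ((wD y).map fun l => el r s (sel3 t l)).prod := by
  have h := (L.el_foldl ((wD y).map (sel3 t)) 0 (by norm_num) fun i hi => by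
    obtain ⟨l, -, rfl⟩ := List.mem_map.mp hi; exact evD_lt_aux ht l).2
  rw [L.el_zero, one_mul, List.map_map] at h
  exact h

theorem conj_fD {g : G} {t : Nat × Nat × Nat} (ht : t.1 < 192 ∧ t.2.1 < 192 ∧ t.2.2 < 192)
    (h : ∀ l, g * el r s (sel3 gD l) * g⁻¹ = el r s (sel3 t l)) {y : Nat} (hy : y ∈ nD) :
    g * el r s y * g⁻¹ = el r s (fD t y) := by
  have hw := List.all_eq_true.mp wD_ok y hy
  rw [Bool.and_eq_true] at hw
  conv_lhs => rw [← Nat.eq_of_beq_eq_true hw.1, show evD gD (wD y) = fD gD y from rfl, L.el_fD (by decide)]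
  rw [L.el_fD ht, show g * _ * g⁻¹ = MulAut.conj g _ from rfl, map_list_prod, List.map_map]
  exact congrArg List.prod (List.map_congr_left fun l _ => h l)

theorem mem_nD {x : Nat} (hx : x < 192) (h : el r s x * el r s 189 = el r s 189 * el r s x) : x ∈ nD := by
  have := List.all_eq_true.mp nD_ok.2 x (List.mem_range.mpr hx)
  rw [(L.el_commute_iff hx (by norm_num)).mp h] at this
  simpa using this

theorem nD_comm {x : Nat} (hx : x ∈ nD) : x < 192 ∧ el r s x * el r s 189 = el r s 189 * el r s x := by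
  have hlt : x < 192 := by
    have := List.all_eq_true.mp (show (nD.all fun i => Nat.blt i 192) = true by decide +kernel) x hx
    simpa using this
  refine ⟨hlt, (L.el_commute_iff hlt (by norm_num)).mpr ?_⟩
  have := List.all_eq_true.mp nD_ok.2 x (List.mem_range.mpr hlt)
  rw [List.contains_iff_mem.mpr hx] at this
  simpa using this

theorem map_nD {g : G} (hz : g * z * g⁻¹ = el r s 189) (ha : g * el r s 189 * g⁻¹ = el r s 152) {y : Nat}
    (hy : y ∈ nD) : ∃ j ∈ nD, g * el r s y * g⁻¹ = el r s j := by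
  obtain ⟨-, hya⟩ := L.nD_comm hy
  have h1 : g * el r s y * g⁻¹ * el r s 189 = el r s 189 * (g * el r s y * g⁻¹) := by
    rw [← hz, conj_mul, conj_mul, L.commute_z]
  have h2 : g * el r s y * g⁻¹ * el r s 152 = el r s 152 * (g * el r s y * g⁻¹) := by
    rw [← ha, conj_mul, conj_mul, hya]
  have h3 : g * el r s y * g⁻¹ * z = z * (g * el r s y * g⁻¹) := by
    rw [L.z_eq, ← small_ok.2.2.2.2, ← L.el_mul (by norm_num) (by norm_num)]
    exact (Commute.mul_right h1 h2)
  obtain ⟨j, hj, hje⟩ := L.el_mem_of_commute h3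
  exact ⟨j, L.mem_nD hj (hje ▸ h1), hje⟩

/-- The coset argument: an element of the four-group centralizer correcting the inverting involution. -/
theorem exists_d {g : G} (h3 : g ^ 3 = 1) (hz : g * z * g⁻¹ = el r s 189) (ha : g * el r s 189 * g⁻¹ = el r s 152)
    {t : Nat × Nat × Nat} (ht : t.1 < 192 ∧ t.2.1 < 192 ∧ t.2.2 < 192)
    (h : ∀ l, g * el r s (sel3 gD l) * g⁻¹ = el r s (sel3 t l)) :
    ∃ d ∈ nD, el r s 167 * g * (el r s 167)⁻¹ = el r s d * g⁻¹ ∧
      Nat.beq (mH (mH d (fD t (fD t d))) (fD t d)) 0 = true ∧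
      ([8, 37, 59].all fun y => Nat.beq (cjH 167 (fD t y)) (cjH d (fD t (fD t (cjH 167 y))))) = true := by
  obtain ⟨t1, t2, -, -, t5, t6, -⟩ := tau_ok
  have l1 : (189 : Nat) < 192 := by norm_num
  have l2 : (152 : Nat) < 192 := by norm_num
  have l3 : (167 : Nat) < 192 := by norm_num
  have l4 : (41 : Nat) < 192 := by norm_num
  set τ := el r s 167 with hτ
  have τz : τ * z * τ⁻¹ = z := by rw [L.z_eq, hτ, L.el_conj l3 l4, t2]
  have τa : τ * el r s 189 * τ⁻¹ = el r s 152 := by rw [hτ, L.el_conj l3 l1, t1]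
  have τza : τ * el r s 152 * τ⁻¹ = el r s 189 := by rw [hτ, L.el_conj l3 l2, t6]
  have gza : g * el r s 152 * g⁻¹ = z := by
    rw [← t5, ← L.el_mul l4 l1, ← L.z_eq, ← conj_mul, hz, ha, L.el_mul l1 l2, small_ok.2.2.2.2, ← L.z_eq]
  set d₀ := τ * g * τ⁻¹ * g with hd₀
  have dz : d₀ * z * d₀⁻¹ = z := by
    calc d₀ * z * d₀⁻¹ = τ * (g * (τ⁻¹ * (g * z * g⁻¹) * τ) * g⁻¹) * τ⁻¹ := by rw [hd₀]; group
      _ = τ * (g * el r s 152 * g⁻¹) * τ⁻¹ := by
        rw [hz, show τ⁻¹ * el r s 189 * τ = el r s 152 by rw [← τza]; group]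
      _ = z := by rw [gza, τz]
  have da : d₀ * el r s 189 * d₀⁻¹ = el r s 189 := by
    calc d₀ * el r s 189 * d₀⁻¹ = τ * (g * (τ⁻¹ * (g * el r s 189 * g⁻¹) * τ) * g⁻¹) * τ⁻¹ := by rw [hd₀]; group
      _ = τ * el r s 152 * τ⁻¹ := by
        rw [ha, show τ⁻¹ * el r s 152 * τ = el r s 189 by rw [← τa]; group, ha]
      _ = el r s 189 := τza
  obtain ⟨d, hd, hde⟩ := L.el_mem_of_commute (mul_inv_eq_iff_eq_mul.mp dz)
  have hdD : d ∈ nD := L.mem_nD hd (hde ▸ mul_inv_eq_iff_eq_mul.mp da)
  have hτg : τ * g * τ⁻¹ = el r s d * g⁻¹ := by rw [← hde, hd₀]; group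
  have hf : ∀ {y}, y ∈ nD → g * el r s y * g⁻¹ = el r s (fD t y) := fun hy => L.conj_fD ht h hy
  have hin : ∀ {y}, y ∈ nD → fD t y ∈ nD := fun hy => by
    obtain ⟨j, hj, hje⟩ := L.map_nD hz ha hy
    rw [L.el_inj (L.fD_lt ht _) (L.nD_comm hj).1 ((hf hy).symm.trans hje)]
    exact hj
  have hinv : ∀ {y}, y ∈ nD → el r s (fD t (fD t y)) = g⁻¹ * el r s y * g := fun {y} hy => by
    rw [← hf (hin hy), ← hf hy]
    calc g * (g * el r s y * g⁻¹) * g⁻¹ = g⁻¹ * g ^ 3 * el r s y * (g ^ 3)⁻¹ * g := by rw [pow_succ, pow_two]; group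
      _ = g⁻¹ * el r s y * g := by rw [h3, mul_one, inv_one, mul_one]
  refine ⟨d, hdD, hτg, ?_, ?_⟩
  · refine Nat.beq_eq.mpr (L.el_inj (L.mH_lt (L.mH_lt hd (L.fD_lt ht _)) (L.fD_lt ht _)) (by norm_num) ?_)
    rw [← L.el_mul (L.mH_lt hd (L.fD_lt ht _)) (L.fD_lt ht _), ← L.el_mul hd (L.fD_lt ht _), hinv hdD, ← hf hdD,
      L.el_zero]
    calc el r s d * (g⁻¹ * el r s d * g) * (g * el r s d * g⁻¹)
        = el r s d * g⁻¹ * (el r s d * g⁻¹) * (g * g * g * (el r s d * g⁻¹)) := by group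
      _ = (el r s d * g⁻¹) ^ 3 := by
        rw [← pow_two g, ← pow_succ g, h3, one_mul, pow_succ, pow_two]
      _ = τ * g ^ 3 * τ⁻¹ := by rw [← hτg, conj_pow]
      _ = 1 := by rw [h3, mul_one, mul_inv_cancel]
  · simp only [List.all_eq_true, Nat.beq_eq]
    intro y hy
    have hyD : y ∈ nD := by fin_cases hy <;> decide
    have hτy : cjH 167 y ∈ nD := by simpa using List.all_eq_true.mp nD_pre y hyD
    have hylt := (L.nD_comm hyD).1
    refine L.el_inj (L.cjH_lt l3 (L.fD_lt ht _)) (L.cjH_lt hd (L.fD_lt ht _)) ?_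
    rw [← L.el_conj l3 (L.fD_lt ht _), ← L.el_conj hd (L.fD_lt ht _), hinv hτy, ← L.el_conj l3 hylt, ← hf hyD,
      ← hτ, show el r s d = τ * g * τ⁻¹ * g by rw [hτg, inv_mul_cancel_right]]
    group

end Loc

/-- The normal form. -/
structure Std (z r s g : G) : Prop where
  loc : Loc z r s
  g3 : g ^ 3 = 1
  act : ∀ y ∈ nD, g * el r s y * g⁻¹ = el r s (fD phi0 y)
  inv : el r s 167 * g * (el r s 167)⁻¹ = g⁻¹

theorem alN_eq (r1 s1 i : Nat) : alN r1 s1 i =
    ((pth i).map fun l => ([r1, invH r1, s1, invH s1] : List Nat).getD l 0).foldl mH 0 := rfl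

namespace Loc

variable (L : Loc z r s)

include L

theorem el_pick {r1 s1 : Nat} (hr : r1 < 192) (hs : s1 < 192) {w : List Nat} (hw : ∀ l ∈ w, l < 4) :
    (w.map fun l => ([r1, invH r1, s1, invH s1] : List Nat).getD l 0).foldl mH 0 < 192 ∧
    ev (LH (el r s r1) (el r s s1)) w =
      el r s ((w.map fun l => ([r1, invH r1, s1, invH s1] : List Nat).getD l 0).foldl mH 0) := by
  have hlt : ∀ i ∈ w.map fun l => ([r1, invH r1, s1, invH s1] : List Nat).getD l 0, i < 192 := by
    intro i hi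
    obtain ⟨l, hl, rfl⟩ := List.mem_map.mp hi
    have := hw l hl
    match l with
    | 0 => exact hr
    | 1 => exact L.invH_lt hr
    | 2 => exact hs
    | 3 => exact L.invH_lt hs
    | _ + 4 => omega
  obtain ⟨h1, h2⟩ := L.el_foldl _ 0 (by norm_num) hlt
  refine ⟨h1, ?_⟩
  rw [h2, L.el_zero, one_mul, List.map_map]
  clear h2 h1 hlt
  induction w with
  | nil => simp [ev_nil]
  | cons l w ih =>
    rw [ev_cons, List.map_cons, List.prod_cons, ih fun m hm => hw m (List.mem_cons_of_mem _ hm)]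
    congr 1
    have := hw l (List.mem_cons_self ..)
    match l with
    | 0 => rfl
    | 1 => exact L.el_inv hr
    | 2 => rfl
    | 3 => exact L.el_inv hs
    | _ + 4 => omega

variable [Finite G] (hG : Fused z)

include hG

/-- Either the excluded first kind, or new generators with the standard action. -/
theorem exists_case :
    (∃ g : G, ∃ t ∈ candA, g ^ 3 = 1 ∧ ∀ y ∈ nD, g * el r s y * g⁻¹ = el r s (fD t y)) ∨
    ∃ r' s' g, Loc z r' s' ∧ g ^ 3 = 1 ∧ ∀ y ∈ nD, g * el r' s' y * g⁻¹ = el r' s' (fD phi0 y) := by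
  obtain ⟨g, h3, hz, ha⟩ := L.exists_three hG
  obtain ⟨m1, m2, m3⟩ := gD_ord.2
  obtain ⟨i, hi, hie⟩ := L.map_nD hz ha (List.contains_iff_mem.mp m1)
  obtain ⟨j, hj, hje⟩ := L.map_nD hz ha (List.contains_iff_mem.mp m2)
  obtain ⟨k, hk, hke⟩ := L.map_nD hz ha (List.contains_iff_mem.mp m3)
  have hi' := (L.nD_comm hi).1
  have hj' := (L.nD_comm hj).1
  have hk' := (L.nD_comm hk).1
  have ht : (i, j, k).1 < 192 ∧ (i, j, k).2.1 < 192 ∧ (i, j, k).2.2 < 192 := ⟨hi', hj', hk'⟩
  have hgen : ∀ l, g * el r s (sel3 gD l) * g⁻¹ = el r s (sel3 (i, j, k) l) := by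
    intro l
    match l with
    | 0 => exact hie
    | 1 => exact hje
    | _ + 2 => exact hke
  have hf : ∀ {y}, y ∈ nD → g * el r s y * g⁻¹ = el r s (fD (i, j, k) y) := fun hy => L.conj_fD ht hgen hy
  have hord : ordTri i j k = true := by
    have hsq : ∀ {x x' : Nat}, x < 192 → x' < 192 → g * el r s x * g⁻¹ = el r s x' →
        g * el r s (mH x x) * g⁻¹ = el r s (mH x' x') := fun hx hx' e => by
      rw [← L.el_mul hx hx, ← L.el_mul hx' hx', ← conj_mul, e]
    have hone : ∀ {x x' : Nat}, x < 192 → x' < 192 → g * el r s x * g⁻¹ = el r s x' → (x = 0 ↔ x' = 0) := fun hx hx' e => by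
      rw [← L.el_eq_one_iff hx, ← L.el_eq_one_iff hx', ← e, conj_eq_one_iff]
    have l8 : (8 : Nat) < 192 := by norm_num
    have l37 : (37 : Nat) < 192 := by norm_num
    have l59 : (59 : Nat) < 192 := by norm_num
    have o := gD_ord.1
    simp only [ordTri, Bool.and_eq_true, Bool.not_eq_true', ← Bool.not_eq_true, invN_iff, Nat.beq_eq] at o ⊢
    obtain ⟨⟨⟨⟨o1, o2⟩, o3⟩, o4⟩, o5, o6⟩ := o
    exact ⟨⟨⟨⟨fun e => o1 ((hone (L.mH_lt l8 l8) (L.mH_lt hi' hi') (hsq l8 hi' hie)).mpr e),
      (hone (L.mH_lt (L.mH_lt l8 l8) (L.mH_lt l8 l8)) (L.mH_lt (L.mH_lt hi' hi') (L.mH_lt hi' hi'))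
        (hsq (L.mH_lt l8 l8) (L.mH_lt hi' hi') (hsq l8 hi' hie))).mp o2⟩,
      fun e => o3 ((hone (L.mH_lt l37 l37) (L.mH_lt hj' hj') (hsq l37 hj' hje)).mpr e)⟩,
      (hone (L.mH_lt (L.mH_lt l37 l37) (L.mH_lt l37 l37)) (L.mH_lt (L.mH_lt hj' hj') (L.mH_lt hj' hj'))
        (hsq (L.mH_lt l37 l37) (L.mH_lt hj' hj') (hsq l37 hj' hje))).mp o4⟩,
      fun e => o5 ((hone l59 hk' hke).mpr e),
      (hone (L.mH_lt l59 l59) (L.mH_lt hk' hk') (hsq l59 hk' hke)).mp o6⟩
  have hcube : ∀ y ∈ nD, fD (i, j, k) (fD (i, j, k) (fD (i, j, k) y)) = y := by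
    intro y hy
    have hin : ∀ {y}, y ∈ nD → fD (i, j, k) y ∈ nD := fun hy => by
      obtain ⟨m, hm, hme⟩ := L.map_nD hz ha hy
      rw [L.el_inj (L.fD_lt ht _) (L.nD_comm hm).1 ((hf hy).symm.trans hme)]
      exact hm
    refine L.el_inj (L.fD_lt ht _) (L.nD_comm hy).1 ?_
    rw [← hf (hin (hin hy)), ← hf (hin hy), ← hf hy]
    calc _ = g ^ 3 * el r s y * (g ^ 3)⁻¹ := by rw [pow_succ, pow_two]; group
      _ = el r s y := by rw [h3, one_mul, inv_one, mul_one]
  have hok : okTri (i, j, k) = true := by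
    obtain ⟨d, hd, -, hc1, hc2⟩ := L.exists_d h3 hz ha ht hgen
    have e1 : fD (i, j, k) 41 = 189 := L.el_inj (L.fD_lt ht _) (by norm_num)
      (by rw [← hf (by decide), ← L.z_eq, hz])
    have e2 : fD (i, j, k) 189 = 152 := L.el_inj (L.fD_lt ht _) (by norm_num)
      (by rw [← hf (by decide), ha])
    unfold okTri
    rw [e1, e2]
    simp only [Bool.and_eq_true, List.all_eq_true, List.any_eq_true, Nat.beq_eq, true_and]
    refine ⟨fun y hy => hcube y (by fin_cases hy <;> decide), d, hd, Nat.beq_eq.mp hc1, fun y hy => ?_⟩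
    exact Nat.beq_eq.mp (List.all_eq_true.mp hc2 y hy)
  have htri := List.all_eq_true.mp (List.all_eq_true.mp (List.all_eq_true.mp tri_ok i hi) j hj) k hk
  rw [hord, hok] at htri
  simp only [Bool.not_true, Bool.false_or, Bool.or_eq_true, List.contains_iff_mem, List.mem_map] at htri
  rcases htri with hA | ⟨c, hc, hce⟩
  · exact Or.inl ⟨g, _, hA, h3, fun y hy => hf hy⟩
  · right
    have hb := List.all_eq_true.mp candB_ok c hc
    simp only [Bool.and_eq_true, Nat.beq_eq, Nat.blt_eq, List.all_eq_true, hce] at hb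
    obtain ⟨⟨⟨⟨⟨⟨⟨⟨⟨⟨⟨hr, hs⟩, hrel⟩, hir⟩, his⟩, er⟩, es⟩, e41⟩, e189⟩, f8⟩, f37⟩, f59⟩ := hb
    set r1 := c.2.1.1
    set s1 := c.2.1.2
    have hel : ∀ {x}, x < 192 → el (el r s r1) (el r s s1) x = el r s (alN r1 s1 x) ∧ alN r1 s1 x < 192 := fun {x} hx =>
      ⟨(L.el_pick hr hs (pth_lt hx)).2, (L.el_pick hr hs (pth_lt hx)).1⟩
    have L' : Loc z (el r s r1) (el r s s1) := by
      refine ⟨fun w hw => ?_, ?_, L.card, ?_⟩
      · have hw4 : ∀ l ∈ w, l < 4 := by
          have := List.all_eq_true.mp (show (relsH.all fun w => w.all fun l => Nat.blt l 4) = true by decide) w hw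
          simpa using this
        rw [(L.el_pick hr hs hw4).2, hrel w hw, L.el_zero]
      · refine le_antisymm ((Subgroup.closure_le _).mpr ?_) ?_
        · intro x hx
          simp only [LH, List.mem_cons, List.not_mem_nil, or_false, Set.mem_ofPred_eq] at hx
          rcases hx with rfl | rfl | rfl | rfl
          · exact L.el_mem _
          · exact inv_mem (L.el_mem _)
          · exact L.el_mem _
          · exact inv_mem (L.el_mem _)
        · rw [← L.gen, Subgroup.closure_le]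
          have hev : ∀ x, x < 192 → el r s (alN r1 s1 x) ∈
              Subgroup.closure {v | v ∈ LH (el r s r1) (el r s s1)} := fun x hx => by
            rw [← (hel hx).1]
            show ev (LH (el r s r1) (el r s s1)) (pth x) ∈ _
            generalize pth x = w
            induction w with
            | nil => rw [ev_nil]; exact one_mem _
            | cons l w ih => rw [ev_cons]; exact mul_mem (mem_closure_fl l) ih
          have h1 := hev _ hir
          have h2 := hev _ his
          have e1 : el r s 1 = r := by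
            have e := L.ev_node (w := [0]) (by simp)
            rw [letters_ok.1, ev_cons, ev_nil, mul_one] at e; exact e.symm
          have e3 : el r s 3 = s := by
            have e := L.ev_node (w := [2]) (by simp)
            rw [letters_ok.2, ev_cons, ev_nil, mul_one] at e; exact e.symm
          rw [er, e1] at h1
          rw [es, e3] at h2
          intro x hx
          simp only [LH, List.mem_cons, List.not_mem_nil, or_false, Set.mem_ofPred_eq] at hx
          rcases hx with rfl | rfl | rfl | rfl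
          · exact h1
          · exact inv_mem h1
          · exact h2
          · exact inv_mem h2
      · show z = el (el r s r1) (el r s s1) 41
        rw [(hel (by norm_num)).1, e41, L.z_eq]
    refine ⟨el r s r1, el r s s1, g, L', h3, fun y hy => L'.conj_fD (by decide) (fun l => ?_) hy⟩
    have key : ∀ {x x' : Nat}, x < 192 → x' < 192 → fD (i, j, k) (alN r1 s1 x) = alN r1 s1 x' →
        x ∈ nD → g * el (el r s r1) (el r s s1) x * g⁻¹ = el (el r s r1) (el r s s1) x' := by
      intro x x' hx hx' e hxD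
      have hD : alN r1 s1 x ∈ nD := L.mem_nD (hel hx).2 (by
        have := (L'.nD_comm hxD).2
        rwa [(hel hx).1, (hel (show (189 : Nat) < 192 by norm_num)).1, e189] at this)
      rw [(hel hx).1, (hel hx').1, hf hD, e]
    match l with
    | 0 => exact key (x := 8) (x' := 134) (by norm_num) (by norm_num) f8 (by decide)
    | 1 => exact key (x := 37) (x' := 158) (by norm_num) (by norm_num) f37 (by decide)
    | _ + 2 => exact key (x := 59) (x' := 59) (by norm_num) (by norm_num) f59 (by decide)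

omit hG in
/-- The involution inverting the element of order three can be made the standard one. -/
theorem exists_std {g : G} (h3 : g ^ 3 = 1) (hact : ∀ y ∈ nD, g * el r s y * g⁻¹ = el r s (fD phi0 y)) :
    ∃ g', Std z r s g' := by
  obtain ⟨-, p59, p41, p189, -, -⟩ := phi0_ok
  have hz : g * z * g⁻¹ = el r s 189 := by rw [L.z_eq, hact 41 (by decide), p41]
  have ha : g * el r s 189 * g⁻¹ = el r s 152 := by rw [hact 189 (by decide), p189]
  have hb : g * el r s 59 * g⁻¹ = el r s 59 := by rw [hact 59 (by decide), p59]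
  have hgen : ∀ l, g * el r s (sel3 gD l) * g⁻¹ = el r s (sel3 phi0 l) := by
    have e : ∀ {x}, x ∈ nD → ∀ v, fD phi0 x = v → g * el r s x * g⁻¹ = el r s v := fun hx v e => e ▸ hact _ hx
    intro l
    match l with
    | 0 => exact e (x := 8) (by decide) 134 (by decide +kernel)
    | 1 => exact e (x := 37) (by decide) 158 (by decide +kernel)
    | _ + 2 => exact e (x := 59) (by decide) 59 (by decide +kernel)
  obtain ⟨d, hd, hτg, hc1, hc2⟩ := L.exists_d h3 hz ha (by decide) hgen
  have hdd := List.all_eq_true.mp phi0_d d hd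
  rw [hc1, hc2] at hdd
  simp only [Bool.not_true, Bool.false_or, List.any_eq_true, Bool.and_eq_true, Nat.beq_eq, List.contains_iff_mem,
    Bool.not_eq_true', ← Bool.not_eq_true] at hdd
  obtain ⟨x, hx, ⟨hxd, hxT⟩, hxnD⟩ := hdd
  have hxlt := (L.nD_comm hx).1
  have hin : ∀ {y}, y ∈ nD → fD phi0 y ∈ nD := fun hy => by
    obtain ⟨m, hm, hme⟩ := L.map_nD hz ha hy
    rw [L.el_inj (L.fD_lt (by decide) _) (L.nD_comm hm).1 ((hact _ hy).symm.trans hme)]
    exact hm
  have hinv2 : ∀ {y}, y ∈ nD → el r s (fD phi0 (fD phi0 y)) = g⁻¹ * el r s y * g := fun {y} hy => by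
    rw [← hact _ (hin hy), ← hact _ hy]
    calc g * (g * el r s y * g⁻¹) * g⁻¹ = g⁻¹ * g ^ 3 * el r s y * (g ^ 3)⁻¹ * g := by rw [pow_succ, pow_two]; group
      _ = g⁻¹ * el r s y * g := by rw [h3, mul_one, inv_one, mul_one]
  set t := mH x 167 with ht
  have htlt : t < 192 := L.mH_lt hxlt (by norm_num)
  have htg : el r s t * g * (el r s t)⁻¹ = g⁻¹ := by
    rw [ht, ← L.el_mul hxlt (by norm_num), mul_inv_rev]
    calc _ = el r s x * (el r s 167 * g * (el r s 167)⁻¹) * (el r s x)⁻¹ := by group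
      _ = g⁻¹ := by
        rw [hτg, ← hxd, ← L.el_mul (L.invH_lt hxlt) (L.fD_lt (by decide) _), ← L.el_inv hxlt, hinv2 hx]
        group
  have h := List.all_eq_true.mp phi0_tau.1 t hxT
  simp only [Bool.or_eq_true, List.contains_iff_mem, beq_iff_eq, Nat.beq_eq, Bool.not_eq_true',
    List.all_eq_false] at h
  have fin : ∀ {w : Nat}, w < 192 → el r s w * g * (el r s w)⁻¹ = g⁻¹ →
      ([0, 41, 189, 152].any fun v => Nat.beq (cjH v w) 167) = true → ∃ g', Std z r s g' := by
    intro w hw hwg hv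
    obtain ⟨v, hv, hve⟩ := List.any_eq_true.mp hv
    have hvlt : v < 192 := by fin_cases hv <;> norm_num
    have hvc : ∀ y ∈ nD, el r s v * el r s y = el r s y * el r s v := fun y hy => by
      obtain ⟨hylt, -⟩ := L.nD_comm hy
      fin_cases hv
      · rw [L.el_zero, one_mul, mul_one]
      all_goals
        exact L.el_comm (by norm_num) hylt (List.all_eq_true.mp
          (List.all_eq_true.mp phi0_tau.2.2.2.2 _ (by simp)) y hy)
    refine ⟨el r s v * g * (el r s v)⁻¹, L, by rw [conj_pow, h3, mul_one, mul_inv_cancel], fun y hy => ?_, ?_⟩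
    · have hy' := hvc y hy
      have e1 : (el r s v)⁻¹ * el r s y * el r s v = el r s y := by rw [mul_assoc, ← hy', inv_mul_cancel_left]
      calc _ = el r s v * (g * ((el r s v)⁻¹ * el r s y * el r s v) * g⁻¹) * (el r s v)⁻¹ := by group
        _ = el r s (fD phi0 y) := by rw [e1, hact y hy, hvc _ (hin hy), mul_inv_cancel_right]
    · rw [← Nat.eq_of_beq_eq_true hve, ← L.el_conj hvlt hw]
      calc _ = el r s v * (el r s w * g * (el r s w)⁻¹) * (el r s v)⁻¹ := by group
        _ = _ := by rw [hwg]; group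
  have timesb : ∀ {w : Nat}, w < 192 → el r s w * g * (el r s w)⁻¹ = g⁻¹ →
      el r s (mH w 59) * g * (el r s (mH w 59))⁻¹ = g⁻¹ := by
    intro w hw hwg
    have hc : el r s 59 * g * (el r s 59)⁻¹ = g := by
      rw [mul_inv_eq_iff_eq_mul]; exact (mul_inv_eq_iff_eq_mul.mp hb).symm
    rw [← L.el_mul hw (by norm_num), mul_inv_rev]
    calc _ = el r s w * (el r s 59 * g * (el r s 59)⁻¹) * (el r s w)⁻¹ := by group
      _ = g⁻¹ := by rw [hc, hwg]
  obtain ⟨-, hv52, hv190, hv147, -⟩ := phi0_tau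
  rcases h with (((((h | h) | h) | h) | h) | h) | h
  · exact absurd h hxnD
  · refine ⟨g, L, h3, hact, ?_⟩
    rwa [h] at htg
  · exact fin htlt htg (by rw [h]; exact hv52)
  · exact fin (L.mH_lt htlt (by norm_num)) (timesb htlt htg) (by rw [h]; exact hv190)
  · exact fin (L.mH_lt htlt (by norm_num)) (timesb htlt htg) (by rw [h]; exact hv147)
  · exfalso
    have e2 : el r s t * el r s t = z := by rw [L.el_mul htlt htlt, h, ← L.z_eq]
    have hcz : z * g * z⁻¹ = g := by
      rw [← e2, mul_inv_rev]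
      calc _ = el r s t * (el r s t * g * (el r s t)⁻¹) * (el r s t)⁻¹ := by group
        _ = el r s t * g⁻¹ * (el r s t)⁻¹ := by rw [htg]
        _ = (el r s t * g * (el r s t)⁻¹)⁻¹ := by group
        _ = g := by rw [htg, inv_inv]
    have : el r s 189 = el r s 41 := by
      rw [← hz, ← L.z_eq, mul_inv_eq_iff_eq_mul]
      exact (mul_inv_eq_iff_eq_mul.mp hcz).symm
    exact absurd (L.el_inj (by norm_num) (by norm_num) this) (by norm_num)
  · obtain ⟨y, hy, hyne⟩ := h
    have hyD : y ∈ nD := by fin_cases hy <;> decide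
    refine absurd ?_ hyne
    have htm : t ∈ nT := hxT
    have hty : cjH t y ∈ nD := by
      have := List.all_eq_true.mp (List.all_eq_true.mp
        (show (nT.all fun t => nD.all fun y => nD.contains (cjH t y)) = true by decide +kernel) t htm) y hyD
      simpa using this
    refine L.el_inj (L.cjH_lt htlt (L.fD_lt (by decide) _)) (L.fD_lt (by decide) _) ?_
    rw [← L.el_conj htlt (L.fD_lt (by decide) _), hinv2 hty, ← L.el_conj htlt (L.nD_comm hyD).1, ← hact y hyD]
    have hti : g = el r s t * g⁻¹ * (el r s t)⁻¹ := by rw [← conj_inv, htg, inv_inv]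
    calc el r s t * (g * el r s y * g⁻¹) * (el r s t)⁻¹
        = (el r s t * g * (el r s t)⁻¹) * (el r s t * el r s y * (el r s t)⁻¹) * (el r s t * g⁻¹ * (el r s t)⁻¹) := by group
      _ = g⁻¹ * (el r s t * el r s y * (el r s t)⁻¹) * g := by rw [htg, ← hti]

end Loc

end CfsgLib.M12U
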